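import Mathlib.FieldTheory.Finite.Basic
import Mathlib.Algebra.Polynomial.Roots
import Mathlib.Tactic.LinearCombination

/-!
Alternating biadditive maps on a finite field which are invariant under multiplication by squares
vanish unless the field has 4 or 9 elements (helper53).
-/

set_option autoImplicit false

namespace Cfsg.Agent.KnownSimple

open Polynomial

universe u v

variable {F : Type u} [Field F] [Finite F] {A : Type v} [AddCommGroup A]

theorem natCard_quadratic_roots_le (b c : F) :
    Nat.card {t : F // t ^ 2 + b * t + c = 0} ≤ 2 := by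
  classical
  have : Fintype F := Fintype.ofFinite F
  rw [Nat.card_eq_fintype_card, Fintype.card_subtype]
  have hP : (X ^ 2 + C b * X + C c : F[X]).natDegree = 2 := by compute_degree!
  have hP0 : (X ^ 2 + C b * X + C c : F[X]) ≠ 0 := fun h => by rw [h] at hP; simp at hP
  refine le_trans (Finset.card_le_card (t := (X ^ 2 + C b * X + C c : F[X]).roots.toFinset) ?_) ?_
  · intro t ht
    rw [Finset.mem_filter] at ht
    rw [Multiset.mem_toFinset, mem_roots hP0, IsRoot.def]
    simpa using ht.2
  · exact (Multiset.toFinset_card_le _).trans ((card_roots' _).trans hP.le)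

/-- An alternating biadditive map invariant under the squares is zero. -/
theorem eq_zero_of_square_invariant (B : F →+ F →+ A) (halt : ∀ a, B a a = 0)
    (hinv : ∀ t : F, t ≠ 0 → ∀ a b, B (t ^ 2 * a) (t ^ 2 * b) = B a b)
    (h4 : Nat.card F ≠ 4) (h9 : Nat.card F ≠ 9) (a b : F) : B a b = 0 := by
  classical
  have : Fintype F := Fintype.ofFinite F
  by_contra hne
  have huniq : ∀ δ : F, (∀ x y, B x (δ * y) = 0) → δ = 0 := by
    intro δ h
    by_contra h0
    apply hne
    rw [← h a (δ⁻¹ * b), mul_inv_cancel_left₀ h0]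
  -- the prime field case
  have hprime : ∀ p : ℕ, CharP F p → Nat.card F ≠ p := by
    intro p _ hq
    apply hne
    obtain ⟨i, rfl⟩ : ∃ i : ℕ, (i : F) = a := by
      have hinj : Function.Injective fun i : Fin p => ((i : ℕ) : F) := fun i j h =>
        Fin.ext (CharP.natCast_injOn_Iio F p i.2 j.2 h)
      obtain ⟨i, hi⟩ := ((Nat.bijective_iff_injective_and_card _).2 ⟨hinj, by
        rw [Nat.card_fin, hq]⟩).2 a
      exact ⟨i, hi⟩
    obtain ⟨j, rfl⟩ : ∃ j : ℕ, (j : F) = b := by
      have hinj : Function.Injective fun i : Fin p => ((i : ℕ) : F) := fun i j h =>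
        Fin.ext (CharP.natCast_injOn_Iio F p i.2 j.2 h)
      obtain ⟨i, hi⟩ := ((Nat.bijective_iff_injective_and_card _).2 ⟨hinj, by
        rw [Nat.card_fin, hq]⟩).2 b
      exact ⟨i, hi⟩
    rw [← nsmul_one i, ← nsmul_one j, map_nsmul, map_nsmul, AddMonoidHom.nsmul_apply, halt]
    simp
  -- adjoints
  let E : AddSubgroup F :=
    { carrier := {l | ∃ l', ∀ x y, B (l * x) y = B x (l' * y)}
      zero_mem' := ⟨0, fun x y => by simp⟩
      add_mem' := by
        rintro l m ⟨l', hl⟩ ⟨m', hm⟩
        exact ⟨l' + m', fun x y => by rw [add_mul, map_add, AddMonoidHom.add_apply, hl, hm,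
          add_mul, map_add]⟩
      neg_mem' := by
        rintro l ⟨l', hl⟩
        exact ⟨-l', fun x y => by rw [neg_mul, map_neg, AddMonoidHom.neg_apply, hl, neg_mul,
          map_neg]⟩ }
  have hsq : ∀ t : F, t ≠ 0 → ∀ x y, B (t ^ 2 * x) y = B x ((t ^ 2)⁻¹ * y) := by
    intro t ht x y
    rw [← hinv t ht x ((t ^ 2)⁻¹ * y), mul_inv_cancel_left₀ (pow_ne_zero 2 ht)]
  have hsqE : ∀ t : F, t ^ 2 ∈ E := by
    intro t
    rcases eq_or_ne t 0 with rfl | ht
    · simp
    · exact ⟨_, hsq t ht⟩
  have hall : ∀ x : F, x ∈ E := by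
    intro x
    obtain ⟨p, hp⟩ := CharP.exists F
    by_cases h2 : (2 : F) = 0
    · have : CharP F 2 := by
        rw [CharP.charP_iff_prime_eq_zero Nat.prime_two]; exact_mod_cast h2
      obtain ⟨t, rfl⟩ := (FiniteField.isSquare_of_char_two (ringChar.eq F 2) x).exists_sq x
      exact hsqE t
    · have hx : x = ((x + 1) / 2) ^ 2 + -(((x - 1) / 2) ^ 2) := by field_simp; ring
      rw [hx]
      exact add_mem (hsqE _) (neg_mem (hsqE _))
  choose s hs using hall
  have hs_add : ∀ x y, s (x + y) = s x + s y := fun x y => sub_eq_zero.1 <| huniq _ fun a b => by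
    rw [sub_mul, map_sub, ← hs, add_mul, map_add, AddMonoidHom.add_apply, hs, hs, ← map_add,
      ← add_mul, sub_self]
  have hs_mul : ∀ x y, s (x * y) = s x * s y := fun x y => sub_eq_zero.1 <| huniq _ fun a b => by
    rw [sub_mul, map_sub, ← hs, mul_assoc x, hs, hs, ← mul_assoc, mul_comm (s y), sub_self]
  have hs_sq : ∀ t : F, t ≠ 0 → s (t ^ 2) = (t ^ 2)⁻¹ := fun t ht =>
    sub_eq_zero.1 <| huniq _ fun a b => by rw [sub_mul, map_sub, ← hs, hsq t ht, sub_self]
  have hs1 : s 1 = 1 := by simpa using hs_sq 1 one_ne_zero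
  -- the norm takes values `±1`
  have hf : ∀ t : F, t ≠ 0 → t * s t = 1 ∨ t * s t = -1 := by
    intro t ht
    refine mul_self_eq_one_iff.1 ?_
    have := hs_sq t ht
    rw [sq, hs_mul] at this
    calc t * s t * (t * s t) = (t * t) * (s t * s t) := by ring
      _ = 1 := by rw [this]; exact mul_inv_cancel₀ (mul_ne_zero ht ht)
  have hcases : ∀ t : F, t ≠ 0 → t ≠ -1 →
      t ^ 2 + 1 * t + 1 = 0 ∨ t ^ 2 + 1 * t + (-1) = 0 ∨ t ^ 2 + (-1) * t + (-1) = 0 ∨
        t ^ 2 + 3 * t + 1 = 0 := by
    intro t ht ht1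
    have h1 : 1 + t ≠ 0 := fun h => ht1 (by linear_combination h)
    have e1 := hf t ht
    have e2 := hf (1 + t) h1
    rw [hs_add, hs1] at e2
    rcases e1 with e1 | e1 <;> rcases e2 with e2 | e2
    · left; linear_combination t * (e2 - e1) - e1
    · right; right; right; linear_combination t * (e2 - e1) - e1
    · right; right; left; linear_combination t * (e2 - e1) - e1
    · right; left; linear_combination t * (e2 - e1) - e1
  have hcover : ∀ t : F, t = 0 ∨ t = -1 ∨ t ^ 2 + 1 * t + 1 = 0 ∨ t ^ 2 + 1 * t + (-1) = 0 ∨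
      t ^ 2 + (-1) * t + (-1) = 0 ∨ t ^ 2 + 3 * t + 1 = 0 := by
    intro t
    by_cases h : t = 0
    · exact Or.inl h
    by_cases h' : t = -1
    · exact Or.inr (Or.inl h')
    exact Or.inr (Or.inr (hcases t h h'))
  obtain ⟨p, hp⟩ := CharP.exists F
  obtain ⟨k, hpp, hcard⟩ := FiniteField.card F p
  rw [← Nat.card_eq_fintype_card] at hcard
  have hpp2 := hpp.two_le
  have hk : 2 ≤ (k : ℕ) := by
    by_contra hk
    exact hprime p hp (by rw [hcard, show (k : ℕ) = 1 by have := k.pos; omega, pow_one])
  have h10 : Nat.card F ≤ 10 := by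
    have hsub : (Finset.univ : Finset F) ⊆
        ({0, -1} : Finset F) ∪ Finset.univ.filter (fun t => t ^ 2 + 1 * t + 1 = 0) ∪
          Finset.univ.filter (fun t => t ^ 2 + 1 * t + (-1) = 0) ∪
          Finset.univ.filter (fun t => t ^ 2 + (-1) * t + (-1) = 0) ∪
          Finset.univ.filter (fun t => t ^ 2 + 3 * t + 1 = 0) := by
      intro t _
      simp only [Finset.mem_union, Finset.mem_filter, Finset.mem_univ, true_and, Finset.mem_insert,
        Finset.mem_singleton]
      rcases hcover t with h | h | h | h | h | h <;> tauto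
    have hle := Finset.card_le_card hsub
    have hr : ∀ b c : F, (Finset.univ.filter (fun t => t ^ 2 + b * t + c = 0)).card ≤ 2 := by
      intro b c
      rw [← Fintype.card_subtype, ← Nat.card_eq_fintype_card]
      exact natCard_quadratic_roots_le b c
    rw [Finset.card_univ, ← Nat.card_eq_fintype_card] at hle
    refine hle.trans ((Finset.card_union_le _ _).trans ?_)
    refine le_trans (Nat.add_le_add ((Finset.card_union_le _ _).trans (Nat.add_le_add
      ((Finset.card_union_le _ _).trans (Nat.add_le_add ((Finset.card_union_le _ _).trans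
        (Nat.add_le_add Finset.card_le_two (hr 1 1))) (hr 1 (-1)))) (hr (-1) (-1)))) (hr 3 1)) ?_
    norm_num
  have hsmall : (p = 2 ∧ (k : ℕ) = 3) ∨ (p = 2 ∧ (k : ℕ) = 2) ∨ (p = 3 ∧ (k : ℕ) = 2) := by
    have hp2 : p ^ 2 ≤ p ^ (k : ℕ) := Nat.pow_le_pow_right (by omega) hk
    have hp3 : p ≤ 3 := by nlinarith
    have h2k : 2 ^ (k : ℕ) ≤ p ^ (k : ℕ) := Nat.pow_le_pow_left hpp2 _
    rcases (show p = 2 ∨ p = 3 by omega) with rfl | rfl
    · have hk3 : (k : ℕ) ≤ 3 := by
        by_contra hk4
        have : 2 ^ 4 ≤ 2 ^ (k : ℕ) := Nat.pow_le_pow_right (by omega) (by omega)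
        omega
      omega
    · have hk3 : (k : ℕ) ≤ 2 := by
        by_contra hk4
        have : 3 ^ 3 ≤ 3 ^ (k : ℕ) := Nat.pow_le_pow_right (by omega) (by omega)
        omega
      omega
  rcases hsmall with ⟨rfl, hk'⟩ | ⟨rfl, hk'⟩ | ⟨rfl, hk'⟩
  · have h2 : (2 : F) = 0 := by exact_mod_cast CharP.cast_eq_zero F 2
    have hsub : (Finset.univ : Finset F) ⊆
        ({0, -1} : Finset F) ∪ Finset.univ.filter (fun t => t ^ 2 + 1 * t + 1 = 0) := by
      intro t _
      rcases hcover t with h | h | h | h | h | h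
      · simp [h]
      · simp [h]
      · simp only [Finset.mem_union, Finset.mem_filter, Finset.mem_univ, true_and]
        exact Or.inr h
      · simp only [Finset.mem_union, Finset.mem_filter, Finset.mem_univ, true_and]
        right; linear_combination h + h2
      · simp only [Finset.mem_union, Finset.mem_filter, Finset.mem_univ, true_and]
        right; linear_combination h + t * h2 + h2
      · simp only [Finset.mem_union, Finset.mem_filter, Finset.mem_univ, true_and]
        right; linear_combination h - t * h2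
    have hle := Finset.card_le_card hsub
    rw [Finset.card_univ, ← Nat.card_eq_fintype_card, hcard, hk'] at hle
    have h2' := Finset.card_union_le ({0, -1} : Finset F)
      (Finset.univ.filter (fun t => t ^ 2 + 1 * t + 1 = 0))
    have h3 : ({0, -1} : Finset F).card ≤ 2 := Finset.card_le_two
    have h4 : (Finset.univ.filter (fun t : F => t ^ 2 + 1 * t + 1 = 0)).card ≤ 2 := by
      rw [← Fintype.card_subtype, ← Nat.card_eq_fintype_card]
      exact natCard_quadratic_roots_le 1 1
    omega
  · exact h4 (by rw [hcard, hk']; rfl)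
  · exact h9 (by rw [hcard, hk']; rfl)

end Cfsg.Agent.KnownSimple
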