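import Cfsg.Agent.KnownSimple.Multiplier.Sylow
import Cfsg.Agent.KnownSimple.Multiplier.InvariantForm
import Cfsg.Agent.Lib.LinearGroup.Card
import Cfsg.Agent.Lib.LinearGroup.Generation
import Mathlib.FieldTheory.IsAlgClosed.AlgebraicClosure
import Mathlib.GroupTheory.Nilpotent
import Mathlib.Algebra.CharP.Lemmas

/-!
The Schur multiplier of `SL_2(q)`, `q ≠ 4, 9`, is trivial (helper53).
-/

set_option autoImplicit false

namespace Cfsg.Agent.KnownSimple

open Subgroup Matrix
open scoped commutatorElement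

universe u v

/-- Lifts of a root subgroup commute. -/
theorem comm_of_square_invariant {Γ : Type u} [Group Γ] {G : Type v} [Group G] {F : Type*}
    [Field F] [Finite F] (σ : Γ →* G) (hσ : Function.Surjective σ) (hc : σ.ker ≤ center Γ)
    (u : F → G) (hu : ∀ a b, u (a + b) = u a * u b)
    (hconj : ∀ t : F, t ≠ 0 → ∃ g, ∀ a, g * u a * g⁻¹ = u (t ^ 2 * a))
    (h4 : Nat.card F ≠ 4) (h9 : Nat.card F ≠ 9) {a b : F} {x y : Γ} (hx : σ x = u a)
    (hy : σ y = u b) : ⁅x, y⁆ = 1 := by
  let _ : CommGroup σ.ker :=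
    { mul_comm := fun x y => Subtype.ext (Subgroup.mem_center_iff.1 (hc y.2) x) }
  let s : F → Γ := fun a => Function.surjInv hσ (u a)
  have hs : ∀ a, σ (s a) = u a := fun a => Function.surjInv_eq hσ (u a)
  have hwd : ∀ {v w v' w' : Γ}, σ v = σ v' → σ w = σ w' → ⁅v, w⁆ = ⁅v', w'⁆ := by
    intro v w v' w' hv hw
    have h1 : v'⁻¹ * v ∈ center Γ := hc (by simp [MonoidHom.mem_ker, hv])
    have h2 : w'⁻¹ * w ∈ center Γ := hc (by simp [MonoidHom.mem_ker, hw])
    have := Cfsg.Agent.Schur.commutatorElement_mul_central h1 h2 v' w'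
    simpa using this
  have hmem : ∀ a b, ⁅s a, s b⁆ ∈ σ.ker := fun a b => by
    rw [MonoidHom.mem_ker, map_commutatorElement, hs, hs,
      commutatorElement_eq_one_iff_mul_comm, ← hu, ← hu, add_comm]
  have hleft : ∀ a a' b, ⁅s (a + a'), s b⁆ = ⁅s a, s b⁆ * ⁅s a', s b⁆ := by
    intro a a' b
    have hm := Subgroup.mem_center_iff.1 (hc (hmem a' b))
    rw [hwd (v' := s a * s a') (w' := s b) (by rw [map_mul, hs, hs, hs, hu]) rfl,
      show ⁅s a * s a', s b⁆ = s a * ⁅s a', s b⁆ * (s a)⁻¹ * ⁅s a, s b⁆ by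
        simp only [commutatorElement_def]; group]
    rw [hm (s a), mul_inv_cancel_right, ← hm]
  have hright : ∀ a b b', ⁅s a, s (b + b')⁆ = ⁅s a, s b⁆ * ⁅s a, s b'⁆ := by
    intro a b b'
    rw [← _root_.inv_inj, commutatorElement_inv, hleft, _root_.mul_inv_rev, commutatorElement_inv,
      commutatorElement_inv]
    exact Subgroup.mem_center_iff.1 (hc (hmem b' a)) _
  let B : F →+ F →+ Additive σ.ker := AddMonoidHom.mk'
    (fun a => AddMonoidHom.mk' (fun b => Additive.ofMul ⟨⁅s a, s b⁆, hmem a b⟩) fun b b' => by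
      rw [← ofMul_mul]; exact congrArg _ (Subtype.ext (hright a b b')))
    fun a a' => by
      refine AddMonoidHom.ext fun b => ?_
      show Additive.ofMul (⟨⁅s (a + a'), s b⁆, hmem _ _⟩ : σ.ker) =
        Additive.ofMul ⟨⁅s a, s b⁆, hmem _ _⟩ + Additive.ofMul ⟨⁅s a', s b⁆, hmem _ _⟩
      rw [← ofMul_mul]; exact congrArg _ (Subtype.ext (hleft a a' b))
  have h0 := eq_zero_of_square_invariant B (fun a => by
      show Additive.ofMul _ = (0 : Additive σ.ker)
      rw [← ofMul_one]; exact congrArg _ (Subtype.ext (commutatorElement_self _)))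
    (fun t ht a b => by
      obtain ⟨g, hg⟩ := hconj t ht
      obtain ⟨g', rfl⟩ := hσ g
      show Additive.ofMul _ = Additive.ofMul _
      refine congrArg _ (Subtype.ext ?_)
      show ⁅s (t ^ 2 * a), s (t ^ 2 * b)⁆ = ⁅s a, s b⁆
      rw [hwd (v' := g' * s a * g'⁻¹) (w' := g' * s b * g'⁻¹) (by simp [hs, hg]) (by simp [hs, hg]),
        show ⁅g' * s a * g'⁻¹, g' * s b * g'⁻¹⁆ = g' * ⁅s a, s b⁆ * g'⁻¹ by
          simp only [commutatorElement_def]; group]
      rw [Subgroup.mem_center_iff.1 (hc (hmem a b)) g', mul_inv_cancel_right]) h4 h9 a b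
  have hab : ⁅s a, s b⁆ = 1 := congrArg Subtype.val (congrArg Additive.toMul h0)
  rw [hwd (v' := s a) (w' := s b) (by rw [hx, hs]) (by rw [hy, hs]), hab]

variable {F : Type u} [Field F]

local notation "SL2" => Matrix.SpecialLinearGroup (Fin 2) F
local notation "K" => AlgebraicClosure F

theorem sl2_entries (g : SL2) :
    (g : Matrix (Fin 2) (Fin 2) F) 0 0 * (g : Matrix (Fin 2) (Fin 2) F) 1 1 -
      (g : Matrix (Fin 2) (Fin 2) F) 0 1 * (g : Matrix (Fin 2) (Fin 2) F) 1 0 = 1 := by
  have := g.2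
  rwa [Matrix.det_fin_two] at this

/-- The trace of an element of `SL_2`. -/
def tr2 (g : SL2) : F := (g : Matrix (Fin 2) (Fin 2) F) 0 0 + (g : Matrix (Fin 2) (Fin 2) F) 1 1

theorem tr2_conj (g x : SL2) : tr2 (x * g * x⁻¹) = tr2 g := by
  have h := sl2_entries x
  simp only [tr2, Matrix.SpecialLinearGroup.coe_mul, Matrix.SpecialLinearGroup.coe_inv,
    Matrix.adjugate_fin_two, Matrix.mul_apply, Fin.sum_univ_two]
  simp
  linear_combination ((g : Matrix (Fin 2) (Fin 2) F) 0 0 + (g : Matrix (Fin 2) (Fin 2) F) 1 1) * h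

theorem exists_coeff {g x : SL2} (hg : g ≠ 1 ∧ g ≠ -1) (h : x * g = g * x) :
    ∃ a b : F, (x : Matrix (Fin 2) (Fin 2) F) = a • 1 + b • (g : Matrix (Fin 2) (Fin 2) F) := by
  have hh : (x : Matrix (Fin 2) (Fin 2) F) * g = g * x := congrArg Subtype.val h
  have e00 := congrFun (congrFun hh 0) 0
  have e01 := congrFun (congrFun hh 0) 1
  have e10 := congrFun (congrFun hh 1) 0
  simp only [Matrix.mul_apply, Fin.sum_univ_two] at e00 e01 e10
  have hd := sl2_entries g
  set X := (x : Matrix (Fin 2) (Fin 2) F)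
  set M := (g : Matrix (Fin 2) (Fin 2) F) with hM
  by_cases hb : M 0 1 = 0
  · by_cases hc : M 1 0 = 0
    · have hne : M 0 0 - M 1 1 ≠ 0 := by
        intro he
        have h1 : M 0 0 * M 0 0 = 1 := by linear_combination hd + M 0 0 * he + M 1 0 * hb
        rcases mul_self_eq_one_iff.1 h1 with h1 | h1
        · refine hg.1 (Matrix.SpecialLinearGroup.ext _ _ fun i j => ?_)
          fin_cases i <;> fin_cases j <;> simp [← hM, hb, hc, h1]
          linear_combination h1 - he
        · refine hg.2 (Matrix.SpecialLinearGroup.ext _ _ fun i j => ?_)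
          fin_cases i <;> fin_cases j <;> simp [← hM, hb, hc, h1]
          linear_combination h1 - he
      have x01 : X 0 1 = 0 := by
        have : (M 0 0 - M 1 1) * X 0 1 = 0 := by linear_combination -e01 + (X 0 0 - X 1 1) * hb
        exact (mul_eq_zero.1 this).resolve_left hne
      have x10 : X 1 0 = 0 := by
        have : (M 0 0 - M 1 1) * X 1 0 = 0 := by linear_combination e10 + (X 0 0 - X 1 1) * hc
        exact (mul_eq_zero.1 this).resolve_left hne
      refine ⟨X 0 0 - (X 0 0 - X 1 1) / (M 0 0 - M 1 1) * M 0 0,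
        (X 0 0 - X 1 1) / (M 0 0 - M 1 1), ?_⟩
      ext i j
      fin_cases i <;> fin_cases j <;> simp [hb, hc, x01, x10]
      field_simp
      ring
    · refine ⟨X 0 0 - X 1 0 / M 1 0 * M 0 0, X 1 0 / M 1 0, ?_⟩
      ext i j
      fin_cases i <;> fin_cases j <;> simp <;> field_simp
      · linear_combination e00
      · linear_combination e10
  · refine ⟨X 0 0 - X 0 1 / M 0 1 * M 0 0, X 0 1 / M 0 1, ?_⟩
    ext i j
    fin_cases i <;> fin_cases j <;> simp <;> field_simp
    · linear_combination -e00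
    · linear_combination -e01

theorem sq_eq (g : SL2) : (g : Matrix (Fin 2) (Fin 2) F) * g =
    tr2 g • (g : Matrix (Fin 2) (Fin 2) F) - 1 := by
  have h := sl2_entries g
  ext i j
  fin_cases i <;> fin_cases j <;> simp [tr2, Matrix.mul_apply, Fin.sum_univ_two] <;>
    first | ring1 | linear_combination h | linear_combination -h

theorem coeff_det {g x : SL2} {a b : F}
    (h : (x : Matrix (Fin 2) (Fin 2) F) = a • 1 + b • (g : Matrix (Fin 2) (Fin 2) F)) :
    a ^ 2 + a * b * tr2 g + b ^ 2 = 1 := by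
  have hx := sl2_entries x
  have hg := sl2_entries g
  rw [h] at hx
  simp at hx
  simp only [tr2]
  linear_combination hx - b ^ 2 * hg

/-- A choice of eigenvalue of `g` over the algebraic closure. -/
theorem exists_eigen (g : SL2) : ∃ l : K, l ^ 2 - algebraMap F K (tr2 g) * l + 1 = 0 := by
  obtain ⟨l, hl⟩ := IsAlgClosed.exists_root (Polynomial.C 1 * Polynomial.X ^ 2 +
    Polynomial.C (-algebraMap F K (tr2 g)) * Polynomial.X + Polynomial.C 1) (by
      rw [Polynomial.degree_quadratic one_ne_zero]; decide)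
  exact ⟨l, by simpa [Polynomial.IsRoot.def, sub_eq_add_neg] using hl⟩

theorem tr2_ne {p : ℕ} [Fact p.Prime] [CharP F p] {g : SL2} (hg : g ≠ 1 ∧ g ≠ -1) {ℓ : ℕ}
    (hℓ : ℓ.Prime) (hℓp : ℓ ≠ p) {k : ℕ} (hord : g ^ ℓ ^ k = 1) :
    tr2 g ≠ 2 ∧ tr2 g ≠ -2 := by
  have hpp : p.Prime := Fact.out
  have hco : Nat.Coprime (ℓ ^ k) p := Nat.Coprime.pow_left _ ((Nat.coprime_primes hℓ hpp).2 hℓp)
  have key : ∀ e : F, e * e = 1 → tr2 g = 2 * e →
      ((g : Matrix (Fin 2) (Fin 2) F) - e • 1) ^ p = 0 := by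
    intro e he ht
    obtain ⟨r, hr⟩ : ∃ r, p = 2 + r := ⟨p - 2, by have := hpp.two_le; omega⟩
    have h2 : ((g : Matrix (Fin 2) (Fin 2) F) - e • 1) ^ 2 = 0 := by
      rw [sq, sub_mul, mul_sub, mul_sub, sq_eq, ht]
      simp only [smul_mul_assoc, mul_smul_comm, one_mul, mul_one, smul_smul, he]
      rw [show (2 * e) • (g : Matrix (Fin 2) (Fin 2) F) = e • (g : Matrix (Fin 2) (Fin 2) F) + e • g
        by rw [← add_smul, two_mul], one_smul]
      abel
    rw [hr, pow_add, h2, zero_mul]
  constructor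
  · intro ht
    have h := key 1 (one_mul 1) (by rw [ht, mul_one])
    rw [one_smul, sub_pow_char_of_commute p ((Commute.one_right _)), one_pow, sub_eq_zero] at h
    have hgp : g ^ p = 1 := Subtype.ext (by rw [Matrix.SpecialLinearGroup.coe_pow, h]; rfl)
    have h1 := Nat.eq_one_of_dvd_coprimes hco (orderOf_dvd_of_pow_eq_one hord)
      (orderOf_dvd_of_pow_eq_one hgp)
    exact hg.1 (orderOf_eq_one_iff.1 h1)
  · intro ht
    rcases hpp.eq_two_or_odd' with rfl | hodd
    · have h2 : (2 : F) = 0 := by exact_mod_cast CharP.cast_eq_zero F 2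
      have h := key 1 (one_mul 1) (by rw [ht, h2]; ring)
      rw [one_smul, sub_pow_char_of_commute 2 ((Commute.one_right _)), one_pow, sub_eq_zero] at h
      have hgp : g ^ 2 = 1 := Subtype.ext (by rw [Matrix.SpecialLinearGroup.coe_pow, h]; rfl)
      have h1 := Nat.eq_one_of_dvd_coprimes hco (orderOf_dvd_of_pow_eq_one hord)
        (orderOf_dvd_of_pow_eq_one hgp)
      exact hg.1 (orderOf_eq_one_iff.1 h1)
    · have h := key (-1) (by ring) (by rw [ht]; ring)
      rw [neg_smul, one_smul, sub_neg_eq_add, add_pow_char_of_commute p ((Commute.one_right _)),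
        one_pow, add_eq_zero_iff_eq_neg] at h
      have hgp : g ^ p = -1 := Subtype.ext (by
        rw [Matrix.SpecialLinearGroup.coe_pow, h]; simp)
      by_cases hl : ℓ = 2
      · subst hl
        have hsq : (-g) ^ p = 1 := by rw [Odd.neg_pow hodd, hgp, neg_neg]
        have hg2 : (-g) ^ (2 ^ k) = 1 := by
          rcases k with _ | k
          · exact absurd (by simpa using hord) hg.1
          · rw [Even.neg_pow (Nat.even_pow.2 ⟨even_two, by omega⟩), hord]
        have h1 := Nat.eq_one_of_dvd_coprimes hco (orderOf_dvd_of_pow_eq_one hg2)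
          (orderOf_dvd_of_pow_eq_one hsq)
        exact hg.2 (neg_eq_iff_eq_neg.1 (orderOf_eq_one_iff.1 h1))
      · have hgp2 : g ^ (2 * p) = 1 := by rw [mul_comm, pow_mul, hgp, neg_one_sq]
        have hco2 : Nat.Coprime (ℓ ^ k) (2 * p) :=
          Nat.Coprime.mul_right (Nat.Coprime.pow_left _
            ((Nat.coprime_primes hℓ Nat.prime_two).2 hl)) hco
        have h1 := Nat.eq_one_of_dvd_coprimes hco2 (orderOf_dvd_of_pow_eq_one hord)
          (orderOf_dvd_of_pow_eq_one hgp2)
        exact hg.1 (orderOf_eq_one_iff.1 h1)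

/-- Elements commuting with a semisimple non-central `g` form a subgroup of the multiplicative group
of a field; conjugates of `g` among them are `g` and `g⁻¹`. -/
theorem exists_embedding {g : SL2} (hg : g ≠ 1 ∧ g ≠ -1) (ht : tr2 g ≠ 2 ∧ tr2 g ≠ -2) :
    ∃ χ : Subgroup.centralizer ({g} : Set SL2) →* K, Function.Injective χ ∧
      ∀ y : Subgroup.centralizer ({g} : Set SL2), tr2 (y : SL2) = tr2 g →
        (y : SL2) = g ∨ (y : SL2) = g⁻¹ := by
  obtain ⟨l, hl⟩ := exists_eigen g
  choose a b hab using fun y : Subgroup.centralizer ({g} : Set SL2) =>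
    exists_coeff hg (Subgroup.mem_centralizer_singleton_iff.1 y.2)
  let M := (g : Matrix (Fin 2) (Fin 2) F)
  have huniq : ∀ {c d c' d' : F}, c • (1 : Matrix (Fin 2) (Fin 2) F) + d • M = c' • 1 + d' • M →
      c = c' ∧ d = d' := by
    intro c d c' d' h
    have hd : d = d' := by
      by_contra hne
      have hM : M = ((c' - c) / (d - d')) • (1 : Matrix (Fin 2) (Fin 2) F) := by
        ext i j
        have := congrFun (congrFun h i) j
        simp only [Matrix.add_apply, Matrix.smul_apply, smul_eq_mul] at this ⊢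
        field_simp [sub_ne_zero.2 hne]
        linear_combination this
      set e := (c' - c) / (d - d')
      have he : e * e = 1 := by
        have := sl2_entries g
        rw [show (g : Matrix (Fin 2) (Fin 2) F) = M from rfl, hM] at this
        simpa using this
      rcases mul_self_eq_one_iff.1 he with he | he
      · refine hg.1 (Subtype.ext ?_)
        show M = _
        rw [hM, he, one_smul]; rfl
      · refine hg.2 (Subtype.ext ?_)
        show M = _
        rw [hM, he, neg_smul, one_smul]; simp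
    refine ⟨?_, hd⟩
    have := congrFun (congrFun h 0) 0
    simp [hd] at this
    exact this
  let χf : Subgroup.centralizer ({g} : Set SL2) → K :=
    fun y => algebraMap F K (a y) + algebraMap F K (b y) * l
  have h1 : a 1 = 1 ∧ b 1 = 0 := huniq (by rw [← hab 1]; simp)
  let χ : Subgroup.centralizer ({g} : Set SL2) →* K :=
    { toFun := χf
      map_one' := by simp [χf, h1.1, h1.2]
      map_mul' := fun y z => by
        have h := huniq (c := a (y * z)) (d := b (y * z))
          (c' := a y * a z - b y * b z) (d' := a y * b z + b y * a z + tr2 g * (b y * b z)) (by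
          rw [← hab (y * z), Subgroup.coe_mul, Matrix.SpecialLinearGroup.coe_mul, hab y, hab z]
          simp only [M, add_mul, mul_add, smul_mul_assoc, mul_smul_comm, one_mul, mul_one, sq_eq]
          module)
        simp only [χf, h.1, h.2, map_sub, map_add, map_mul]
        linear_combination -(algebraMap F K (b y) * algebraMap F K (b z)) * hl }
  have hinj : Function.Injective χ := by
    rw [← MonoidHom.ker_eq_bot_iff, eq_bot_iff]
    intro y hy
    have hy' : algebraMap F K (a y) + algebraMap F K (b y) * l = 1 := hy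
    have hdet := congrArg (algebraMap F K) (coeff_det (hab y))
    simp only [map_add, map_mul, map_pow, map_one] at hdet
    have ha : algebraMap F K (a y) = 1 - algebraMap F K (b y) * l := by linear_combination hy'
    rw [ha] at hdet
    have hprod : algebraMap F K (b y) * (algebraMap F K (tr2 g) - 2 * l) = 0 := by
      linear_combination hdet - algebraMap F K (b y) ^ 2 * hl
    have hne : algebraMap F K (tr2 g) - 2 * l ≠ 0 := by
      intro h0
      have h4 : algebraMap F K (tr2 g) * algebraMap F K (tr2 g) = 2 * 2 := by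
        linear_combination -4 * hl + (algebraMap F K (tr2 g) - 2 * l) * h0
      rcases mul_self_eq_mul_self_iff.1 h4 with h | h
      · exact ht.1 ((algebraMap F K).injective (by rw [h, map_ofNat]))
      · exact ht.2 ((algebraMap F K).injective (by rw [h, map_neg, map_ofNat]))
    have hb : b y = 0 := by
      have := (mul_eq_zero.1 hprod).resolve_right hne
      exact (algebraMap F K).injective (by rw [this, map_zero])
    have ha1 : a y = 1 := (algebraMap F K).injective (by rw [ha, hb]; simp)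
    rw [Subgroup.mem_bot]
    refine Subtype.ext (Subtype.ext ?_)
    rw [hab y, ha1, hb]; simp
  refine ⟨χ, hinj, fun y hy => ?_⟩
  have hgC : g ∈ Subgroup.centralizer ({g} : Set SL2) := Subgroup.mem_centralizer_singleton_iff.2 rfl
  have hχg : χ ⟨g, hgC⟩ = l := by
    have h := huniq (c := a ⟨g, hgC⟩) (d := b ⟨g, hgC⟩) (c' := 0) (d' := 1)
      (by rw [← hab ⟨g, hgC⟩]; simp [M])
    show χf _ = l
    simp [χf, h.1, h.2]
  have hty : algebraMap F K (a y) * 2 + algebraMap F K (b y) * algebraMap F K (tr2 g) =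
      algebraMap F K (tr2 g) := by
    have e00 := congrFun (congrFun (hab y) 0) 0
    have e11 := congrFun (congrFun (hab y) 1) 1
    simp at e00 e11
    have : tr2 (y : SL2) = a y * 2 + b y * tr2 g := by
      simp only [tr2]; linear_combination e00 + e11
    rw [hy] at this
    conv_rhs => rw [this]
    simp [map_ofNat]
  have hdet := congrArg (algebraMap F K) (coeff_det (hab y))
  simp only [map_add, map_mul, map_pow, map_one] at hdet
  have hroot : (χ y - l) * (χ y * l - 1) = 0 := by
    show (χf y - l) * (χf y * l - 1) = 0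
    simp only [χf]
    linear_combination -(algebraMap F K (a y) + algebraMap F K (b y) * l) * hl +
      (algebraMap F K (a y) + algebraMap F K (b y) * l) * l * hty - l * hdet +
      (algebraMap F K (b y) ^ 2 * l) * hl
  rcases mul_eq_zero.1 hroot with h | h
  · left
    have := hinj (show χ y = χ ⟨g, hgC⟩ by rw [hχg]; linear_combination h)
    exact congrArg Subtype.val this
  · right
    have hinv : χ y * χ ⟨g, hgC⟩ = 1 := by rw [hχg]; linear_combination h
    rw [← map_mul, ← map_one χ] at hinv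
    exact eq_inv_of_mul_eq_one_left (congrArg Subtype.val (hinj hinv))

theorem sl2_sq_one {x : SL2} (h2 : (2 : F) ≠ 0) (hx : x * x = 1) : x = 1 ∨ x = -1 := by
  by_contra hc
  rw [not_or] at hc
  have h := sq_eq x
  rw [← Matrix.SpecialLinearGroup.coe_mul, hx, Matrix.SpecialLinearGroup.coe_one,
    eq_sub_iff_add_eq] at h
  rcases eq_or_ne (tr2 x) 0 with ht | ht
  · have := congrFun (congrFun h 0) 0
    simp [ht] at this
    exact h2 (by linear_combination this)
  · have hM : (x : Matrix (Fin 2) (Fin 2) F) = (2 / tr2 x) • (1 : Matrix (Fin 2) (Fin 2) F) := by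
      rw [div_eq_inv_mul, mul_smul, two_smul, h, smul_smul, inv_mul_cancel₀ ht, one_smul]
    have he : 2 / tr2 x * (2 / tr2 x) = 1 := by
      have := sl2_entries x
      rw [hM] at this
      simpa using this
    rcases mul_self_eq_one_iff.1 he with he | he
    · exact hc.1 (Subtype.ext (by rw [hM, he, one_smul]; rfl))
    · exact hc.2 (Subtype.ext (by rw [hM, he, neg_smul, one_smul]; simp))

/-- The condition at a prime different from the characteristic. -/
theorem sylow_condition [Finite F] {p : ℕ} [Fact p.Prime] [CharP F p] {ℓ : ℕ} [Fact ℓ.Prime]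
    (hℓp : ℓ ≠ p) (P : Sylow ℓ SL2) {Γ : Type u} [Group Γ] [Finite Γ] (σ : Γ →* SL2)
    (hσ : Function.Surjective σ) (hc : σ.ker ≤ center Γ) :
    σ.ker ⊓ ⁅(P : Subgroup SL2).comap σ, (P : Subgroup SL2).comap σ⁆ = ⊥ := by
  classical
  set S : Subgroup SL2 := (P : Subgroup SL2) with hS
  have hℓ : ℓ.Prime := Fact.out
  have hord : ∀ g ∈ S, ∃ k : ℕ, g ^ ℓ ^ k = 1 := fun g hg => by
    obtain ⟨k, hk⟩ := P.isPGroup' ⟨g, hg⟩
    exact ⟨k, congrArg Subtype.val hk⟩
  have hemb : ∀ g ∈ S, g ≠ 1 → g ≠ -1 →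
      ∃ χ : Subgroup.centralizer ({g} : Set SL2) →* K, Function.Injective χ ∧
      ∀ y : Subgroup.centralizer ({g} : Set SL2), tr2 (y : SL2) = tr2 g →
        (y : SL2) = g ∨ (y : SL2) = g⁻¹ := fun g hg h1 h2 => by
    obtain ⟨k, hk⟩ := hord g hg
    exact exists_embedding ⟨h1, h2⟩ (tr2_ne (p := p) ⟨h1, h2⟩ hℓ hℓp hk)
  have hconj : ∀ g ∈ S, ∀ x : SL2, g ≠ 1 → g ≠ -1 → (x * g * x⁻¹) * g = g * (x * g * x⁻¹) →
      x * g * x⁻¹ = g ∨ x * g * x⁻¹ = g⁻¹ := fun g hg x h1 h2 hcomm => by
    obtain ⟨χ, -, hχ⟩ := hemb g hg h1 h2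
    exact hχ ⟨_, Subgroup.mem_centralizer_singleton_iff.2 hcomm⟩ (tr2_conj g x)
  -- cyclic subgroups of centralizers
  have hcyc : ∀ g ∈ S, g ≠ 1 → g ≠ -1 → ∀ T : Subgroup SL2,
      T ≤ Subgroup.centralizer ({g} : Set SL2) → IsCyclic T := fun g hg h1 h2 T hT => by
    obtain ⟨χ, hinj, -⟩ := hemb g hg h1 h2
    exact isCyclic_of_subgroup_isDomain (χ.comp (Subgroup.inclusion hT))
      (hinj.comp (Subgroup.inclusion_injective hT))
  by_cases hab : ∀ x ∈ S, ∀ y ∈ S, x * y = y * x
  · have hScyc : IsCyclic S := by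
      by_cases hsc : ∃ g ∈ S, g ≠ 1 ∧ g ≠ -1
      · obtain ⟨g, hg, h1, h2⟩ := hsc
        exact hcyc g hg h1 h2 S fun x hx => Subgroup.mem_centralizer_singleton_iff.2 (hab x hx g hg)
      · push Not at hsc
        refine Subgroup.isCyclic_of_le (H := S) (H' := zpowers (-1 : SL2)) fun g hg => ?_
        by_cases h : g = 1
        · rw [h]; exact one_mem _
        · rw [hsc g hg h]; exact mem_zpowers _
    haveI := hScyc
    exact inf_commutator_eq_bot_of_comm σ S fun x hx y hy => comm_of_cyclic σ hc S hσ hx hy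
  -- the non-abelian case
  push Not at hab
  obtain ⟨x₁, hx₁, y₁, hy₁, hne⟩ := hab
  have hnil : Group.IsNilpotent S := P.isPGroup'.isNilpotent
  have hsucc : center S < Subgroup.upperCentralSeries S 2 := by
    refine lt_of_le_of_ne ((Subgroup.upperCentralSeries_one S).symm.le.trans
      (Subgroup.upperCentralSeries_mono S one_le_two)) fun heq => ?_
    have hstab : ∀ n, Subgroup.upperCentralSeries S (n + 1) = center S := by
      intro n
      induction n with
      | zero => exact Subgroup.upperCentralSeries_one S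
      | succ n ih =>
        refine le_antisymm (fun z hz => ?_) (ih.symm.le.trans
          (Subgroup.upperCentralSeries_mono S (Nat.le_succ _)))
        rw [heq, Subgroup.mem_upperCentralSeries_succ_iff, Subgroup.upperCentralSeries_one]
        rw [Subgroup.mem_upperCentralSeries_succ_iff, ih] at hz
        exact hz
    obtain ⟨n, hn⟩ := hnil.nilpotent
    have htop : center S = ⊤ := top_le_iff.1
      ((hn.symm.le.trans (Subgroup.upperCentralSeries_mono S (Nat.le_succ n))).trans (hstab n).le)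
    have : (⟨x₁, hx₁⟩ : S) ∈ center S := by rw [htop]; trivial
    exact hne (congrArg Subtype.val (Subgroup.mem_center_iff.1 this ⟨y₁, hy₁⟩)).symm
  obtain ⟨⟨g, hg⟩, hg2, hgc⟩ := SetLike.exists_of_lt hsucc
  have hg1 : g ≠ 1 := fun h => hgc (by
    have : (⟨g, hg⟩ : S) = 1 := Subtype.ext h
    rw [this]; exact one_mem _)
  have hgm : g ≠ -1 := fun h => hgc (Subgroup.mem_center_iff.2 fun z => Subtype.ext (by
    show (z : SL2) * g = g * (z : SL2); rw [h]; simp))
  have hinv : ∀ x ∈ S, x * g = g * x ∨ x * g * x⁻¹ = g⁻¹ := by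
    intro x hx
    have hz := (Subgroup.mem_upperCentralSeries_succ_iff.1 hg2) ⟨x, hx⟩
    rw [Subgroup.upperCentralSeries_one, Subgroup.mem_center_iff] at hz
    have hz' : g * (g * x * g⁻¹ * x⁻¹) = (g * x * g⁻¹ * x⁻¹) * g :=
      congrArg Subtype.val (hz ⟨g, hg⟩)
    have hcomm : x * g * x⁻¹ * g = g * (x * g * x⁻¹) := by
      have hcm : Commute g (g * x * g⁻¹ * x⁻¹)⁻¹ := (Commute.inv_right hz')
      calc x * g * x⁻¹ * g = (g * x * g⁻¹ * x⁻¹)⁻¹ * g * g := by group
        _ = g * (g * x * g⁻¹ * x⁻¹)⁻¹ * g := by rw [hcm.eq]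
        _ = g * (x * g * x⁻¹) := by group
    rcases hconj g hg x hg1 hgm hcomm with h | h
    · left; rwa [mul_inv_eq_iff_eq_mul] at h
    · exact Or.inr h
  set C : Subgroup SL2 := S ⊓ Subgroup.centralizer ({g} : Set SL2) with hC
  have hCcyc : IsCyclic C := hcyc g hg hg1 hgm C inf_le_right
  obtain ⟨⟨c, hcC⟩, hgenC⟩ := IsCyclic.exists_generator (α := C)
  have hCeq : ∀ z ∈ C, z ∈ zpowers c := fun z hz => by
    obtain ⟨i, hi⟩ := hgenC ⟨z, hz⟩
    exact ⟨i, congrArg Subtype.val hi⟩
  obtain ⟨x, hxS, hxg⟩ : ∃ x ∈ S, x * g ≠ g * x := by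
    by_contra hc'
    push Not at hc'
    exact hgc (Subgroup.mem_center_iff.2 fun z => Subtype.ext (hc' z z.2))
  have hxinv : x * g * x⁻¹ = g⁻¹ := (hinv x hxS).resolve_left hxg
  have hx2g : x * x * g = g * (x * x) := by
    have h : x * x * g * (x * x)⁻¹ = g := by
      calc x * x * g * (x * x)⁻¹ = x * (x * g * x⁻¹) * x⁻¹ := by group
        _ = (x * g * x⁻¹)⁻¹ := by conv_lhs => rw [hxinv]
                                  group
        _ = g := by rw [hxinv, inv_inv]
    rwa [mul_inv_eq_iff_eq_mul] at h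
  have hℓ2 : ℓ = 2 := by
    by_contra hne2
    obtain ⟨k, hk⟩ := hord x hxS
    have hodd : Odd (ℓ ^ k) := (hℓ.odd_of_ne_two hne2).pow
    obtain ⟨j, hj⟩ := hodd
    have hxx : x * x ∈ Subgroup.centralizer ({g} : Set SL2) :=
      Subgroup.mem_centralizer_singleton_iff.2 hx2g
    have : x ∈ Subgroup.centralizer ({g} : Set SL2) := by
      have h := pow_mem hxx (j + 1)
      rwa [← sq, ← pow_mul, show 2 * (j + 1) = ℓ ^ k + 1 by omega, pow_succ, hk, one_mul] at h
    exact hxg (Subgroup.mem_centralizer_singleton_iff.1 this)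
  have h2F : (2 : F) ≠ 0 := fun h2 => hℓp (by
    have : CharP F 2 := by
      rw [CharP.charP_iff_prime_eq_zero Nat.prime_two]; exact_mod_cast h2
    rw [hℓ2]; exact CharP.eq F this ‹CharP F p›)
  have hgC : g ∈ C := ⟨hg, Subgroup.mem_centralizer_singleton_iff.2 rfl⟩
  have hcS : c ∈ S := hcC.1
  have hcg : c * g = g * c := Subgroup.mem_centralizer_singleton_iff.1 hcC.2
  have hc1 : c ≠ 1 := fun h => by
    obtain ⟨i, hi⟩ := hCeq g hgC; exact hg1 (by rw [← hi, h]; simp)
  have hcm : c ≠ -1 := fun h => by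
    obtain ⟨i, hi⟩ := hCeq g hgC
    have h1 : g * g = 1 := by
      rw [← hi]; show c ^ i * c ^ i = 1
      rw [h, ← (Commute.refl (-1 : SL2)).mul_zpow]
      simp
    rcases sl2_sq_one h2F h1 with h' | h'
    · exact hg1 h'
    · exact hgm h'
  have hxc : x * c * x⁻¹ = c⁻¹ := by
    have hxcS : x * c * x⁻¹ ∈ C := by
      refine ⟨S.mul_mem (S.mul_mem hxS hcS) (S.inv_mem hxS),
        Subgroup.mem_centralizer_singleton_iff.2 ?_⟩
      have h1 : Commute (x * c * x⁻¹) (x * g * x⁻¹) := (Commute.conj_iff x).2 hcg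
      rw [hxinv] at h1
      exact (Commute.inv_right_iff.1 h1).eq
    have hcomm : x * c * x⁻¹ * c = c * (x * c * x⁻¹) := by
      obtain ⟨i, hi⟩ := hCeq _ hxcS
      rw [← hi]; exact ((Commute.refl c).zpow_left i).eq
    rcases hconj c hcS x hc1 hcm hcomm with h | h
    · exfalso
      obtain ⟨i, hi⟩ := hCeq g hgC
      apply hxg
      have hxc' : Commute x c := mul_inv_eq_iff_eq_mul.1 h
      rw [← hi]; exact (hxc'.zpow_right i).eq
    · exact h
  have hx2C : x * x ∈ C := ⟨S.mul_mem hxS hxS, Subgroup.mem_centralizer_singleton_iff.2 hx2g⟩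
  have hx2m : x * x = -1 := by
    obtain ⟨i, hi⟩ := hCeq _ hx2C
    have hxx : x * (x * x) * x⁻¹ = x * x := by group
    rw [← hi] at hxx
    simp only at hxx
    rw [← conj_zpow, hxc, _root_.inv_zpow, inv_eq_iff_mul_eq_one] at hxx
    simp only at hi
    rw [hi] at hxx
    rcases sl2_sq_one h2F hxx with h | h
    · rcases sl2_sq_one h2F h with h' | h'
      · exact absurd (by rw [h']; simp) hxg
      · exact absurd (by rw [h']; simp) hxg
    · exact h
  have hne1 : (-1 : SL2) ≠ 1 := fun h => h2F (by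
    have := congrFun (congrFun (congrArg Subtype.val h) 0) 0
    simp at this
    linear_combination -this)
  have hm1C : (-1 : SL2) ∈ zpowers c := hx2m ▸ hCeq _ hx2C
  have hordm : orderOf (-1 : SL2) = 2 := orderOf_eq_prime (neg_one_sq) hne1
  obtain ⟨h, hh⟩ : 2 ∣ orderOf c := by
    obtain ⟨i, hi⟩ := hm1C
    simp only at hi
    have h1 : (-1 : SL2) ^ orderOf c = 1 := by
      rw [← hi, ← zpow_natCast, ← _root_.zpow_mul, mul_comm, _root_.zpow_mul, zpow_natCast, pow_orderOf_eq_one,
        _root_.one_zpow]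
    have h2 := orderOf_dvd_of_pow_eq_one h1
    rw [hordm] at h2
    exact h2
  have hcpos : 0 < orderOf c := orderOf_pos c
  have hch : c ^ h = -1 := by
    have h1 : c ^ h * c ^ h = 1 := by rw [← pow_add, ← two_mul, ← hh, pow_orderOf_eq_one]
    refine (sl2_sq_one h2F h1).resolve_left fun hc' => ?_
    have := orderOf_le_of_pow_eq_one (show 0 < h by omega) hc'
    omega
  refine inf_commutator_eq_bot_of_inverted σ hc hσ S h hh hxc (hx2m.trans hch.symm) fun z hz => ?_
  by_cases hzg : z * g = g * z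
  · exact Or.inl (hCeq z ⟨hz, Subgroup.mem_centralizer_singleton_iff.2 hzg⟩)
  · refine Or.inr (hCeq _ ⟨S.mul_mem (S.inv_mem hxS) hz, Subgroup.mem_centralizer_singleton_iff.2 ?_⟩)
    have hzinv := (hinv z hz).resolve_left hzg
    have h1 : z * g = g⁻¹ * z := mul_inv_eq_iff_eq_mul.1 hzinv
    have h2 : x * g = g⁻¹ * x := mul_inv_eq_iff_eq_mul.1 hxinv
    have h3 : x⁻¹ * g⁻¹ = g * x⁻¹ := by
      calc x⁻¹ * g⁻¹ = x⁻¹ * (g⁻¹ * x) * x⁻¹ := by group
        _ = g * x⁻¹ := by rw [← h2]; group
    calc x⁻¹ * z * g = x⁻¹ * (z * g) := by group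
      _ = (x⁻¹ * g⁻¹) * z := by rw [h1]; group
      _ = g * (x⁻¹ * z) := by rw [h3]; group

/-- **The Schur multiplier of `SL_2(q)`, `q ≠ 4, 9`, is trivial.** -/
theorem multiplier_SL2 [Finite F] (h4 : Nat.card F ≠ 4) (h9 : Nat.card F ≠ 9) :
    Cfsg.HasCyclicSchurMultiplier SL2 1 := by
  classical
  obtain ⟨p, hp⟩ := CharP.exists F
  have : Fintype F := Fintype.ofFinite F
  obtain ⟨k, hpp, hcard⟩ := FiniteField.card F p
  rw [← Nat.card_eq_fintype_card] at hcard
  haveI := Fact.mk hpp
  refine Cfsg.Agent.Schur.hasCyclicSchurMultiplier_one_of_forall fun Γ _ _ σ hσ => ?_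
  refine ker_eq_bot_of_local σ hσ fun ℓ hℓ => ?_
  haveI := Fact.mk hℓ
  by_cases hℓp : ℓ = p
  · subst hℓp
    have h01 : (0 : Fin 2) ≠ 1 := by decide
    let u : F → SL2 := fun a => Matrix.SpecialLinearGroup.transvection h01 a
    have hu : ∀ a b, u (a + b) = u a * u b := fun a b =>
      Matrix.SpecialLinearGroup.transvection_add h01 a b
    let U : Subgroup SL2 :=
      { carrier := Set.range u
        one_mem' := ⟨0, Matrix.SpecialLinearGroup.transvection_coeff_zero h01⟩
        mul_mem' := by rintro _ _ ⟨a, rfl⟩ ⟨b, rfl⟩; exact ⟨a + b, hu a b⟩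
        inv_mem' := by
          rintro _ ⟨a, rfl⟩
          exact ⟨-a, (Matrix.SpecialLinearGroup.transvection_inv h01 a).symm⟩ }
    have hUinj : Function.Injective u := fun a b h => by
      have := congrFun (congrFun (congrArg Subtype.val h) 0) 1
      simpa [u, Matrix.transvection, Matrix.SpecialLinearGroup.transvection_coe] using this
    have hUcard : Nat.card U = Nat.card F :=
      (Nat.card_congr (Equiv.ofInjective u hUinj)).symm
    refine ⟨U, fun hdvd => ?_, inf_commutator_eq_bot_of_comm σ U ?_⟩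
    · have h := U.card_mul_index
      rw [hUcard, Cfsg.Agent.LinearGroup.card_SL_two] at h
      rw [Nat.eq_of_mul_eq_mul_left Nat.card_pos h] at hdvd
      have hq : ℓ ∣ Nat.card F ^ 2 := by
        rw [hcard, ← pow_mul]
        exact dvd_pow_self _ (by positivity)
      have h1 : 1 ≤ Nat.card F ^ 2 := Nat.one_le_pow _ _ Nat.card_pos
      have := Nat.dvd_sub hq hdvd
      rw [Nat.sub_sub_self h1] at this
      exact hℓ.not_dvd_one this
    · intro x hx y hy
      obtain ⟨a, ha⟩ := hx
      obtain ⟨b, hb⟩ := hy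
      exact comm_of_square_invariant σ hσ.1 hσ.2.1 u hu (fun t ht =>
        ⟨Matrix.SpecialLinearGroup.diag2n h01 t ht, fun a => by
          rw [Cfsg.Agent.LinearGroup.diag2n_mul_transvection, mul_inv_cancel_right]⟩)
        h4 h9 ha.symm hb.symm
  · exact ⟨_, (default : Sylow ℓ SL2).not_dvd_index,
      sylow_condition hℓp default σ hσ.1 hσ.2.1⟩

end Cfsg.Agent.KnownSimple
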