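import Cfsg.Agent.KnownSimple.Multiplier.Sylow
import Cfsg.Agent.KnownSimple.Multiplier.InvariantForm
import Cfsg.Agent.KnownSimple.Multiplier.SL2
import Cfsg.Agent.Lib.Suzuki.Sylow
import Cfsg.Agent.Lib.Suzuki.Tori

/-!
The Schur multiplier of `Sz(q)`, `q ≥ 32`, is trivial (helper53).
-/

set_option autoImplicit false

namespace Cfsg.Agent.KnownSimple

open Subgroup
open scoped commutatorElement

universe u v

namespace SzMult

variable {F : Type u} [Field F] [Fintype F] {m : ℕ}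
variable (hF : Fintype.card F = 2 ^ (2 * m + 1))
include hF

theorem exists_norm_unit (x : F) (hx : x ≠ 0) :
    ∃ k : Fˣ, (k : F) * Suzuki.sig m (k : F) = x := by
  have hinj : Function.Injective fun k : Fˣ => (Units.mk0 ((k : F) * Suzuki.sig m (k : F))
      (mul_ne_zero k.ne_zero (Suzuki.sig_ne_zero k.ne_zero))) := by
    intro k l h
    have h' : (k : F) * Suzuki.sig m (k : F) = (l : F) * Suzuki.sig m (l : F) :=
      congrArg Units.val h
    have h1 : ((k * l⁻¹ : Fˣ) : F) = 1 := by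
      refine Suzuki.eq_one_of_mul_sig hF (Units.ne_zero _) ?_
      rw [Units.val_mul, Suzuki.sig_mul, mul_mul_mul_comm, h', ← mul_mul_mul_comm, ← Suzuki.sig_mul,
        ← Units.val_mul, mul_inv_cancel, Units.val_one, Suzuki.sig_one, one_mul]
    exact mul_inv_eq_one.1 (Units.ext h1)
  obtain ⟨k, hk⟩ := (Finite.injective_iff_surjective.1 hinj) (Units.mk0 x hx)
  exact ⟨k, congrArg Units.val hk⟩

/-- An invariant pairing between `Z(S)` and `S/Z(S)` is trivial for `q ≥ 32`. -/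
theorem pairing_eq_zero (hm : 2 ≤ m) {A : Type v} [AddCommGroup A] (B : F →+ F →+ A)
    (hinv : ∀ (k : Fˣ) (b a : F), B ((k : F) * Suzuki.sig m (k : F) * b) ((k : F) * a) = B b a)
    (b a : F) : B b a = 0 := by
  classical
  by_contra hne
  have huniq : ∀ δ : F, (∀ x y, B x (δ * y) = 0) → δ = 0 := by
    intro δ h
    by_contra h0
    apply hne
    rw [← h b (δ⁻¹ * a), mul_inv_cancel_left₀ h0]
  have hadj : ∀ l : F, ∃ l', ∀ x y, B (l * x) y = B x (l' * y) := by
    intro l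
    rcases eq_or_ne l 0 with rfl | hl
    · exact ⟨0, fun x y => by simp⟩
    obtain ⟨k, hk⟩ := exists_norm_unit hF l hl
    refine ⟨(k : F)⁻¹, fun x y => ?_⟩
    rw [← hinv k x ((k : F)⁻¹ * y), mul_inv_cancel_left₀ k.ne_zero, hk]
  choose s hs using hadj
  have hs_add : ∀ x y, s (x + y) = s x + s y := fun x y => sub_eq_zero.1 <| huniq _ fun a b => by
    rw [sub_mul, map_sub, ← hs, add_mul, map_add, AddMonoidHom.add_apply, hs, hs, ← map_add,
      ← add_mul, sub_self]
  have hs_mul : ∀ x y, s (x * y) = s x * s y := fun x y => sub_eq_zero.1 <| huniq _ fun a b => by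
    rw [sub_mul, map_sub, ← hs, mul_assoc x, hs, hs, ← mul_assoc, mul_comm (s y), sub_self]
  have hs_norm : ∀ k : Fˣ, s ((k : F) * Suzuki.sig m (k : F)) = (k : F)⁻¹ := fun k =>
    sub_eq_zero.1 <| huniq _ fun x y => by
      rw [sub_mul, map_sub, ← hs, ← hinv k x ((k : F)⁻¹ * y),
        mul_inv_cancel_left₀ k.ne_zero, sub_self]
  have hs1 : s 1 = 1 := by
    have := hs_norm 1
    rwa [Units.val_one, Suzuki.sig_one, one_mul, inv_one] at this
  let α : F →+* F :=
    { toFun := s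
      map_one' := hs1
      map_mul' := hs_mul
      map_zero' := by
        have := hs_add 0 0
        simpa using this
      map_add' := hs_add }
  have hα : Function.Bijective α := Finite.injective_iff_bijective.1 α.injective
  have hsig : ∀ x, α (Suzuki.sig m x) = Suzuki.sig m (α x) := fun x => map_pow α x _
  have h2 : (2 : F) = 0 := Suzuki.two_eq_zero hF
  -- every `y ≠ 0, 1` satisfies `σ y = y ^ 4`
  have hy4 : ∀ y : F, y ≠ 0 → y ≠ 1 → Suzuki.sig m y = y ^ 4 := by
    intro y hy0 hy1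
    obtain ⟨k, hk⟩ := hα.2 y
    have hk0 : k ≠ 0 := fun h => hy0 (by rw [← hk, h, map_zero])
    have hk1 : k + 1 ≠ 0 := fun h => hy1 (by
      rw [← hk, Suzuki.eq_of_add_eq_zero hF h, map_one])
    set z := Suzuki.sig m y with hz
    have e1 : k * (y * z) = 1 := by
      have h := hs_norm (Units.mk0 k hk0)
      rw [Units.val_mk0] at h
      change α (k * Suzuki.sig m k) = k⁻¹ at h
      rw [map_mul, hsig, hk, ← hz] at h
      rw [h, mul_inv_cancel₀ hk0]
    have e2 : (k + 1) * ((y + 1) * (z + 1)) = 1 := by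
      have h := hs_norm (Units.mk0 (k + 1) hk1)
      rw [Units.val_mk0] at h
      change α ((k + 1) * Suzuki.sig m (k + 1)) = (k + 1)⁻¹ at h
      rw [map_mul, hsig, map_add, map_one, hk, Suzuki.sig_add hF, Suzuki.sig_one, ← hz] at h
      rw [h, mul_inv_cancel₀ hk1]
    have E1 : z ^ 2 * (y + y ^ 2) + z * (1 + y + y ^ 2) + (1 + y) = 0 := by
      have hyz : y * z ≠ 0 := fun h => by rw [h, mul_zero] at e1; exact zero_ne_one e1
      linear_combination (y * z) * e2 - (y + 1) * (z + 1) * e1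
    have E2 : y ^ 4 * (z ^ 2 + z) + y ^ 2 * (z ^ 2 + z) + z + (1 + y ^ 2) = 0 := by
      have h := congrArg (Suzuki.sig m) E1
      simp only [Suzuki.sig_add hF, Suzuki.sig_mul, Suzuki.sig_pow, Suzuki.sig_one,
        Suzuki.sig_zero, ← hz] at h
      rw [show Suzuki.sig m z = y ^ 2 by rw [hz]; exact Suzuki.sig_sig hF y] at h
      linear_combination h
    have hprod : (z ^ 2 + z) * ((y ^ 2 + y ^ 4) * (z ^ 2 + z) + (1 + y ^ 2 + y ^ 4)) = 0 := by
      linear_combination (z ^ 2 * (y + y ^ 2) + z * (1 + y + y ^ 2) + (1 + y)) * E1 - E2 +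
        (-y ^ 3 * z ^ 4 + (y ^ 2 + y ^ 4 - (y + y ^ 2) * (1 + y + y ^ 2)) * z ^ 3
          + (y ^ 4 - y - y ^ 3 - (y + y ^ 2) * (1 + y)) * z ^ 2
          + (1 + y ^ 2 + y ^ 4 - (1 + y + y ^ 2) * (1 + y)) * z - y) * h2
    have hzz : z ^ 2 + z ≠ 0 := by
      intro h
      rcases mul_eq_zero.1 (show z * (z + 1) = 0 by linear_combination h) with h' | h'
      · exact hy0 (Suzuki.sig_eq_zero.1 h')
      · refine hy1 (Suzuki.sig_injective hF ?_)
        rw [Suzuki.sig_one]
        exact Suzuki.eq_of_add_eq_zero hF h'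
    have h3 := (mul_eq_zero.1 hprod).resolve_left hzz
    linear_combination E2 - h3
  -- but then `y ^ 14 = 1`
  obtain ⟨y, hy⟩ : ∃ y : F, y ∉ ((Polynomial.X ^ 16 - Polynomial.X ^ 2 : Polynomial F).roots.toFinset) := by
    by_contra hc
    push Not at hc
    have h1 := Finset.card_le_card (s := (Finset.univ : Finset F)) fun x _ => hc x
    have h16 : (Polynomial.X ^ 16 - Polynomial.X ^ 2 : Polynomial F).natDegree ≤ 16 := by
      compute_degree
    have h3 := h1.trans ((Multiset.toFinset_card_le _).trans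
      ((Polynomial.card_roots' _).trans h16))
    rw [Finset.card_univ, hF] at h3
    have : 2 ^ 5 ≤ 2 ^ (2 * m + 1) := Nat.pow_le_pow_right (by norm_num) (by omega)
    omega
  have hP : (Polynomial.X ^ 16 - Polynomial.X ^ 2 : Polynomial F) ≠ 0 := by
    intro h
    have := congrArg (fun P => Polynomial.coeff P 16) h
    simp at this
  rw [Multiset.mem_toFinset, Polynomial.mem_roots hP] at hy
  simp at hy
  have hy0 : y ≠ 0 := fun h => hy (by simp [h])
  have hy1 : y ≠ 1 := fun h => hy (by simp [h])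
  have h4 := hy4 y hy0 hy1
  have h5 := Suzuki.sig_sig hF y
  rw [h4, Suzuki.sig_pow, h4, ← pow_mul] at h5
  exact hy (by rw [h5, sub_self])

variable {Γ : Type u} [Group Γ] [Finite Γ]

/-- The condition at the prime 2. -/
theorem sylow_two_condition (hm : 2 ≤ m) (σ : Γ →* Cfsg.Sz F m) (hσ : Function.Surjective σ)
    (hc : σ.ker ≤ center Γ) :
    σ.ker ⊓ ⁅(Suzuki.USub hF).comap σ, (Suzuki.USub hF).comap σ⁆ = ⊥ := by
  classical
  have h4 : Nat.card F ≠ 4 := by
    rw [Nat.card_eq_fintype_card, hF]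
    have : 2 ^ 5 ≤ 2 ^ (2 * m + 1) := Nat.pow_le_pow_right (by norm_num) (by omega)
    omega
  have h9 : Nat.card F ≠ 9 := by
    rw [Nat.card_eq_fintype_card, hF]
    have : 2 ^ 5 ≤ 2 ^ (2 * m + 1) := Nat.pow_le_pow_right (by norm_num) (by omega)
    omega
  let u : F → Γ := fun a => Function.surjInv hσ (Suzuki.U hF a 0)
  let z : F → Γ := fun b => Function.surjInv hσ (Suzuki.U hF 0 b)
  let t : Fˣ → Γ := fun k => Function.surjInv hσ (Suzuki.T hF k)
  have hu : ∀ a, σ (u a) = Suzuki.U hF a 0 := fun a => Function.surjInv_eq hσ _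
  have hz : ∀ b, σ (z b) = Suzuki.U hF 0 b := fun b => Function.surjInv_eq hσ _
  have ht : ∀ k, σ (t k) = Suzuki.T hF k := fun k => Function.surjInv_eq hσ _
  -- general facts on commutators of lifts
  have hcen : ∀ {x : Γ}, σ x = 1 → ∀ g : Γ, g * x = x * g := fun hx g =>
    Subgroup.mem_center_iff.1 (hc hx) g
  have hwd : ∀ {v w v' w' : Γ}, σ v = σ v' → σ w = σ w' → ⁅v, w⁆ = ⁅v', w'⁆ := by
    intro v w v' w' hv hw
    have h1 : v'⁻¹ * v ∈ center Γ := hc (by simp [MonoidHom.mem_ker, hv])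
    have h2 : w'⁻¹ * w ∈ center Γ := hc (by simp [MonoidHom.mem_ker, hw])
    have := Cfsg.Agent.Schur.commutatorElement_mul_central h1 h2 v' w'
    simpa using this
  have hconjc : ∀ g v w : Γ, ⁅g * v * g⁻¹, g * w * g⁻¹⁆ = g * ⁅v, w⁆ * g⁻¹ := fun g v w => by
    simp only [commutatorElement_def]; group
  let _ : CommGroup σ.ker :=
    { mul_comm := fun x y => Subtype.ext (Subgroup.mem_center_iff.1 (hc y.2) x) }
  -- Step 1: lifts of `Z(S)` commute
  have hzz : ∀ b d, ⁅z b, z d⁆ = 1 := fun b d => by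
    refine comm_of_square_invariant σ hσ hc (fun b => Suzuki.U hF 0 b)
      (fun b d => ?_) (fun s hs => ?_) h4 h9 (hz b) (hz d)
    · rw [Suzuki.U_mul]; simp [Suzuki.sig_zero]
    · obtain ⟨k, hk⟩ := exists_norm_unit hF (s ^ 2) (pow_ne_zero 2 hs)
      exact ⟨Suzuki.T hF k, fun a => by rw [Suzuki.T_conj_U, mul_zero, hk]⟩
  -- Step 2: they commute with lifts of `S`
  have hzu : ∀ b a, ⁅z b, u a⁆ = 1 := by
    have hmem : ∀ b a, ⁅z b, u a⁆ ∈ σ.ker := fun b a => by
      rw [MonoidHom.mem_ker, map_commutatorElement, hz, hu, commutatorElement_eq_one_iff_mul_comm,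
        Suzuki.U_mul, Suzuki.U_mul]
      simp [Suzuki.sig_zero]
    have hleft : ∀ b b' a, ⁅z (b + b'), u a⁆ = ⁅z b, u a⁆ * ⁅z b', u a⁆ := by
      intro b b' a
      rw [hwd (v' := z b * z b') (w' := u a)
          (by rw [map_mul, hz, hz, hz, Suzuki.U_mul]; simp [Suzuki.sig_zero]) rfl,
        show ⁅z b * z b', u a⁆ = z b * ⁅z b', u a⁆ * (z b)⁻¹ * ⁅z b, u a⁆ by
          simp only [commutatorElement_def]; group,
        hcen (hmem b' a) (z b), mul_inv_cancel_right]
      exact (hcen (hmem b' a) _).symm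
    have hright : ∀ b a a', ⁅z b, u (a + a')⁆ = ⁅z b, u a⁆ * ⁅z b, u a'⁆ := by
      intro b a a'
      rw [hwd (v' := z b) (w' := u a * u a' * z (Suzuki.sig m a * a')) rfl
          (by rw [map_mul, map_mul, hu, hu, hu, hz, Suzuki.U_mul, Suzuki.U_mul]
              simp [Suzuki.add_self hF]),
        show ⁅z b, u a * u a' * z (Suzuki.sig m a * a')⁆ =
          ⁅z b, u a * u a'⁆ * ((u a * u a') * ⁅z b, z (Suzuki.sig m a * a')⁆ * (u a * u a')⁻¹) by
          simp only [commutatorElement_def]; group,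
        hzz, mul_one, mul_inv_cancel, mul_one,
        show ⁅z b, u a * u a'⁆ = ⁅z b, u a⁆ * (u a * ⁅z b, u a'⁆ * (u a)⁻¹) by
          simp only [commutatorElement_def]; group,
        hcen (hmem b a') (u a), mul_inv_cancel_right]
    let B : F →+ F →+ Additive σ.ker := AddMonoidHom.mk'
      (fun b => AddMonoidHom.mk' (fun a => Additive.ofMul (⟨⁅z b, u a⁆, hmem b a⟩ : σ.ker))
        fun a a' => by rw [← ofMul_mul]; exact congrArg _ (Subtype.ext (hright b a a')))
      fun b b' => by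
        refine AddMonoidHom.ext fun a => ?_
        show Additive.ofMul (⟨⁅z (b + b'), u a⁆, hmem _ _⟩ : σ.ker) =
          Additive.ofMul ⟨⁅z b, u a⁆, hmem _ _⟩ + Additive.ofMul ⟨⁅z b', u a⁆, hmem _ _⟩
        rw [← ofMul_mul]; exact congrArg _ (Subtype.ext (hleft b b' a))
    intro b a
    have h0 := pairing_eq_zero hF hm B (fun k b a => by
      show Additive.ofMul _ = Additive.ofMul _
      refine congrArg _ (Subtype.ext ?_)
      show ⁅z ((k : F) * Suzuki.sig m (k : F) * b), u ((k : F) * a)⁆ = ⁅z b, u a⁆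
      rw [hwd (v' := t k * z b * (t k)⁻¹) (w' := t k * u a * (t k)⁻¹)
        (by simp [ht, hz, Suzuki.T_conj_U]) (by simp [ht, hu, Suzuki.T_conj_U]), hconjc,
        hcen (hmem b a) (t k), mul_inv_cancel_right]) b a
    exact congrArg Subtype.val (congrArg Additive.toMul h0)
  -- the abelian group `M` over `Z(S)`
  let M : Subgroup Γ := (Suzuki.ZSub hF).comap σ
  have hM : ∀ x ∈ M, ∃ b, ∃ w : Γ, σ w = 1 ∧ x = z b * w := by
    intro x hx
    obtain ⟨b, hb⟩ : ∃ b, σ x = Suzuki.U hF 0 b := hx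
    exact ⟨b, (z b)⁻¹ * x, by rw [map_mul, map_inv, hz, hb, inv_mul_cancel],
      by rw [mul_inv_cancel_left]⟩
  have hS : ∀ x ∈ (Suzuki.USub hF).comap σ, ∃ a b, ∃ w : Γ, σ w = 1 ∧ x = u a * z b * w := by
    intro x hx
    obtain ⟨a, b, hb⟩ : ∃ a b, σ x = Suzuki.U hF a b := hx
    refine ⟨a, b, (u a * z b)⁻¹ * x, ?_, by rw [mul_inv_cancel_left]⟩
    rw [map_mul, map_inv, map_mul, hu, hz, Suzuki.U_mul]
    simp [hb]
  have hMS : ∀ x ∈ M, ∀ y ∈ (Suzuki.USub hF).comap σ, ⁅x, y⁆ = 1 := by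
    intro x hx y hy
    obtain ⟨b, w, hw, rfl⟩ := hM x hx
    obtain ⟨a, d, w', hw', rfl⟩ := hS y hy
    rw [hwd (v' := z b) (w' := u a * z d) (by simp [hw]) (by simp [hw']),
      show ⁅z b, u a * z d⁆ = ⁅z b, u a⁆ * (u a * ⁅z b, z d⁆ * (u a)⁻¹) by
        simp only [commutatorElement_def]; group, hzu, hzz, one_mul, mul_one, mul_inv_cancel]
  have hMle : M ≤ (Suzuki.USub hF).comap σ := fun x hx => by
    obtain ⟨b, hb⟩ : ∃ b, σ x = Suzuki.U hF 0 b := hx
    exact ⟨0, b, hb⟩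
  let _ : CommGroup M :=
    { mul_comm := fun x y => Subtype.ext
        (commutatorElement_eq_one_iff_mul_comm.1 (hMS x x.2 y (hMle y.2))) }
  -- the commutator map
  have hCmem : ∀ a c, ⁅u a, u c⁆ ∈ M := fun a c => by
    show σ ⁅u a, u c⁆ ∈ Suzuki.ZSub hF
    rw [map_commutatorElement, hu, hu]
    exact Suzuki.commutator_U_mem hF _ _ _ _
  have hMz : ∀ b, z b ∈ M := fun b => ⟨b, hz b⟩
  have hMk : ∀ w, σ w = 1 → w ∈ M := fun w hw => by
    show σ w ∈ Suzuki.ZSub hF
    rw [hw]; exact one_mem _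
  have huS : ∀ a, u a ∈ (Suzuki.USub hF).comap σ := fun a => ⟨a, 0, hu a⟩
  have hCleft : ∀ a a' c, ⁅u (a + a'), u c⁆ = ⁅u a, u c⁆ * ⁅u a', u c⁆ := by
    intro a a' c
    rw [hwd (v' := u a * u a' * z (Suzuki.sig m a * a')) (w' := u c)
      (by rw [map_mul, map_mul, hu, hu, hu, hz, Suzuki.U_mul, Suzuki.U_mul]
          simp [Suzuki.add_self hF]) rfl,
      show ⁅u a * u a' * z (Suzuki.sig m a * a'), u c⁆ =
        (u a * u a') * ⁅z (Suzuki.sig m a * a'), u c⁆ * (u a * u a')⁻¹ * ⁅u a * u a', u c⁆ by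
        simp only [commutatorElement_def]; group,
      hMS _ (hMz _) _ (huS c), mul_one, mul_inv_cancel, one_mul,
      show ⁅u a * u a', u c⁆ = u a * ⁅u a', u c⁆ * (u a)⁻¹ * ⁅u a, u c⁆ by
        simp only [commutatorElement_def]; group,
      ← commutatorElement_eq_one_iff_mul_comm.1 (hMS _ (hCmem a' c) _ (huS a)),
      mul_inv_cancel_right]
    exact commutatorElement_eq_one_iff_mul_comm.1 (hMS _ (hCmem a' c) _ (hMle (hCmem a c)))
  have hCright : ∀ a c c', ⁅u a, u (c + c')⁆ = ⁅u a, u c⁆ * ⁅u a, u c'⁆ := by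
    intro a c c'
    rw [← _root_.inv_inj, commutatorElement_inv, hCleft, _root_.mul_inv_rev, commutatorElement_inv,
      commutatorElement_inv]
    exact commutatorElement_eq_one_iff_mul_comm.1 (hMS _ (hCmem c a) _ (hMle (hCmem c' a)))
  -- the derived subgroup
  let C : F → F → M := fun a c => ⟨⁅u a, u c⁆, hCmem a c⟩
  let D : Subgroup M := Subgroup.closure (Set.range fun p : F × F => C p.1 p.2)
  have hle : ⁅(Suzuki.USub hF).comap σ, (Suzuki.USub hF).comap σ⁆ ≤ D.map M.subtype := by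
    rw [Subgroup.commutator_le]
    intro x hx y hy
    obtain ⟨a, b, w, hw, rfl⟩ := hS x hx
    obtain ⟨c, d, w', hw', rfl⟩ := hS y hy
    refine ⟨C a c, Subgroup.subset_closure ⟨(a, c), rfl⟩, ?_⟩
    show ⁅u a, u c⁆ = _
    have e1 := hMS _ (mul_mem (hMz b) (hMk w hw))
    have e2 : ⁅u a * z b * w, u c * z d * w'⁆ =
        u a * ⁅z b * w, u c * z d * w'⁆ * (u a)⁻¹ * ⁅u a, u c * z d * w'⁆ := by
      simp only [commutatorElement_def]; group
    have e3 : ⁅u a, u c * z d * w'⁆ = ⁅u a, u c⁆ * (u c * ⁅u a, z d * w'⁆ * (u c)⁻¹) := by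
      simp only [commutatorElement_def]; group
    have e4 : ⁅u a, z d * w'⁆ = 1 := by
      rw [← _root_.inv_inj, commutatorElement_inv, inv_one]
      exact hMS _ (mul_mem (hMz d) (hMk w' hw')) _ (huS a)
    rw [e2, e1 _ hy, mul_one, mul_inv_cancel, one_mul, e3, e4, mul_one, mul_inv_cancel, mul_one]
  -- averaging over the torus
  have hnorm : ∀ (k : Fˣ) (x : M), t k * (x : Γ) * (t k)⁻¹ ∈ M := by
    intro k x
    obtain ⟨b, hb⟩ : ∃ b, σ x = Suzuki.U hF 0 b := x.2
    exact ⟨(k : F) * Suzuki.sig m (k : F) * b, by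
      rw [map_mul, map_mul, map_inv, ht, hb, Suzuki.T_conj_U, mul_zero]⟩
  let conjM : Fˣ → M →* M := fun k => MonoidHom.mk' (fun x => ⟨_, hnorm k x⟩)
    (fun x y => Subtype.ext (conj_mul).symm)
  have hcomp : ∀ (k l : Fˣ) (x : M), conjM k (conjM l x) = conjM (k * l) x := by
    intro k l x
    refine Subtype.ext ?_
    show t k * (t l * (x : Γ) * (t l)⁻¹) * (t k)⁻¹ = t (k * l) * (x : Γ) * (t (k * l))⁻¹
    have hw : σ ((t (k * l))⁻¹ * (t k * t l)) = 1 := by simp [ht, Suzuki.T_mul]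
    calc t k * (t l * (x : Γ) * (t l)⁻¹) * (t k)⁻¹
        = t (k * l) * (((t (k * l))⁻¹ * (t k * t l)) * (x : Γ) *
            ((t (k * l))⁻¹ * (t k * t l))⁻¹) * (t (k * l))⁻¹ := by group
      _ = _ := by rw [← hcen hw (x : Γ), mul_inv_cancel_right]
  let avg : M →* M :=
    { toFun := fun x => ∏ k : Fˣ, conjM k x
      map_one' := by simp
      map_mul' := fun x y => by simp [Finset.prod_mul_distrib] }
  have havg : ∀ (l : Fˣ) (x : M), avg (conjM l x) = avg x := by
    intro l x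
    show ∏ k : Fˣ, conjM k (conjM l x) = ∏ k : Fˣ, conjM k x
    simp only [hcomp]
    exact Equiv.prod_comp (Equiv.mulRight l) fun k => conjM k x
  let Φ : F →+ F →+ Additive M := AddMonoidHom.mk'
    (fun a => AddMonoidHom.mk' (fun c => Additive.ofMul (avg (C a c)))
      fun c c' => by rw [← ofMul_mul, ← map_mul]; exact congrArg _ (congrArg _ (Subtype.ext (hCright a c c'))))
    fun a a' => by
      refine AddMonoidHom.ext fun c => ?_
      show Additive.ofMul (avg (C (a + a') c)) =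
        Additive.ofMul (avg (C a c)) + Additive.ofMul (avg (C a' c))
      rw [← ofMul_mul, ← map_mul]
      exact congrArg _ (congrArg _ (Subtype.ext (hCleft a a' c)))
  have hΦ : ∀ a c, Φ a c = 0 := eq_zero_of_square_invariant Φ
    (fun a => by
      show Additive.ofMul (avg (C a a)) = 0
      rw [show C a a = 1 from Subtype.ext (commutatorElement_self _), map_one]; rfl)
    (fun s hs a c => by
      show Additive.ofMul (avg (C (s ^ 2 * a) (s ^ 2 * c))) = Additive.ofMul (avg (C a c))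
      rw [← havg (Units.mk0 (s ^ 2) (pow_ne_zero 2 hs)) (C a c)]
      refine congrArg _ (congrArg _ (Subtype.ext ?_))
      show ⁅u (s ^ 2 * a), u (s ^ 2 * c)⁆ = t _ * ⁅u a, u c⁆ * (t _)⁻¹
      rw [← hconjc]
      exact hwd (by simp [ht, hu, Suzuki.T_conj_U]) (by simp [ht, hu, Suzuki.T_conj_U]))
    h4 h9
  have hD : ∀ x ∈ D, avg x = 1 ∧ x ^ 2 = 1 := by
    intro x hx
    induction hx using Subgroup.closure_induction with
    | mem x hx =>
      obtain ⟨⟨a, c⟩, rfl⟩ := hx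
      refine ⟨congrArg Additive.toMul (hΦ a c), ?_⟩
      refine Subtype.ext ?_
      show ((C a c : M) ^ 2 : M).1 = 1
      rw [sq, Subgroup.coe_mul]
      show ⁅u a, u c⁆ * ⁅u a, u c⁆ = 1
      rw [← hCleft, Suzuki.add_self hF]
      rw [hwd (v' := 1) (w' := u c) (by rw [hu, map_one, Suzuki.U_zero]) rfl]
      simp
    | one => simp
    | mul x y _ _ hx hy => exact ⟨by rw [map_mul, hx.1, hy.1, one_mul], by
        rw [mul_pow, hx.2, hy.2, one_mul]⟩
    | inv x _ hx => exact ⟨by rw [map_inv, hx.1, inv_one], by rw [_root_.inv_pow, hx.2, inv_one]⟩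
  rw [eq_bot_iff]
  rintro x ⟨hxk, hx⟩
  obtain ⟨y, hy, rfl⟩ := hle hx
  have havgy : avg y = y ^ Fintype.card Fˣ := by
    show ∏ k : Fˣ, conjM k y = _
    rw [← Finset.card_univ, ← Finset.prod_const]
    refine Finset.prod_congr rfl fun k _ => Subtype.ext ?_
    show t k * (y : Γ) * (t k)⁻¹ = (y : Γ)
    rw [hcen (show σ (y : Γ) = 1 from hxk) (t k)]
    exact mul_inv_cancel_right _ _
  have h2 := (hD y hy).2
  rw [(hD y hy).1] at havgy
  have hcard : Fintype.card Fˣ = 2 * (2 ^ (2 * m) - 1) + 1 := by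
    rw [Fintype.card_units, hF, pow_succ]
    have : 1 ≤ 2 ^ (2 * m) := Nat.one_le_two_pow
    omega
  rw [hcard, pow_succ, pow_mul, h2, one_pow, one_mul] at havgy
  rw [Subgroup.mem_bot, ← havgy]
  rfl

/-- **The Schur multiplier of `Sz(q)`, `q ≥ 32`, is trivial.** -/
theorem multiplier_Sz (hm : 2 ≤ m) : Cfsg.HasCyclicSchurMultiplier (Cfsg.Sz F m) 1 := by
  classical
  refine Cfsg.Agent.Schur.hasCyclicSchurMultiplier_one_of_forall fun Γ _ _ σ hσ => ?_
  refine ker_eq_bot_of_local σ hσ fun ℓ hℓ => ?_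
  haveI := Fact.mk hℓ
  by_cases h2 : ℓ = 2
  · subst h2
    exact ⟨Suzuki.USub hF, Suzuki.index_USub_odd hF (by omega),
      sylow_two_condition hF hm σ hσ.1 hσ.2.1⟩
  · let P : Sylow ℓ (Cfsg.Sz F m) := default
    haveI : IsCyclic (P : Subgroup (Cfsg.Sz F m)) := Suzuki.sylow_odd_isCyclic hF (by omega) h2 P
    exact ⟨P, P.not_dvd_index, inf_commutator_eq_bot_of_comm σ _ fun x hx y hy =>
      comm_of_cyclic σ hσ.2.1 _ hσ.1 hx hy⟩

end SzMult

end Cfsg.Agent.KnownSimple
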