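import Cfsg.Agent.Lib.Schur.Transfer
import Mathlib.GroupTheory.SpecificGroups.Cyclic

/-!
Vanishing of the Schur multiplier prime by prime, from the Sylow subgroups (helper53).
-/

set_option autoImplicit false

namespace Cfsg.Agent.KnownSimple

open Subgroup
open scoped commutatorElement

universe u v

variable {Γ : Type u} [Group Γ] {G : Type v} [Group G]

/-- A stem extension is trivial if, for every prime, some subgroup of prime-to-`ℓ` index has a
preimage whose derived subgroup meets the kernel trivially. -/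
theorem ker_eq_bot_of_local [Finite Γ] (σ : Γ →* G) (hσ : Cfsg.IsStemExtension σ)
    (h : ∀ ℓ : ℕ, ℓ.Prime → ∃ S : Subgroup G, ¬ ℓ ∣ S.index ∧ σ.ker ⊓ ⁅S.comap σ, S.comap σ⁆ = ⊥) :
    σ.ker = ⊥ := by
  by_contra hne
  obtain ⟨⟨z, hz⟩, hz1'⟩ := (Subgroup.ne_bot_iff_exists_ne_one).1 hne
  have hz1 : z ≠ 1 := fun e => hz1' (Subtype.ext e)
  obtain ⟨ℓ, hℓ, hdvd⟩ := Nat.exists_prime_and_dvd (fun e => hz1 (orderOf_eq_one_iff.1 e))
  have hw : z ^ (orderOf z / ℓ) ∈ σ.ker := pow_mem hz _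
  set w := z ^ (orderOf z / ℓ) with hwdef
  have hord : orderOf w = ℓ := orderOf_pow_orderOf_div (orderOf_pos z).ne' hdvd
  obtain ⟨S, hS, hSH⟩ := h ℓ hℓ
  have : (S.comap σ).FiniteIndex := inferInstance
  have hmem := Cfsg.Agent.Schur.pow_index_mem_commutator (S.comap σ) (hσ.2.1 hw) (hσ.2.2 hw)
  rw [Subgroup.map_subtype_commutator, Subgroup.index_comap_of_surjective S hσ.1] at hmem
  have : w ^ S.index ∈ σ.ker ⊓ ⁅S.comap σ, S.comap σ⁆ := ⟨pow_mem hw _, hmem⟩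
  rw [hSH, Subgroup.mem_bot] at this
  exact hS (hord ▸ orderOf_dvd_of_pow_eq_one this)

/-- If all lifts of elements of `S` commute, the condition holds. -/
theorem inf_commutator_eq_bot_of_comm (σ : Γ →* G) (S : Subgroup G)
    (h : ∀ x ∈ S.comap σ, ∀ y ∈ S.comap σ, ⁅x, y⁆ = 1) :
    σ.ker ⊓ ⁅S.comap σ, S.comap σ⁆ = ⊥ := by
  rw [eq_bot_iff]
  refine le_trans inf_le_right ?_
  rw [Subgroup.commutator_le]
  exact fun x hx y hy => (Subgroup.mem_bot).2 (h x hx y hy)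

theorem comm_of_cyclic (σ : Γ →* G) (hc : σ.ker ≤ center Γ) (S : Subgroup G) [IsCyclic S]
    (hσ : Function.Surjective σ) {x y : Γ} (hx : x ∈ S.comap σ) (hy : y ∈ S.comap σ) :
    ⁅x, y⁆ = 1 := by
  obtain ⟨⟨g, hg⟩, hgen⟩ := IsCyclic.exists_generator (α := S)
  obtain ⟨t, rfl⟩ := hσ g
  have key : ∀ w ∈ S.comap σ, ∃ (i : ℤ) (z : Γ), z ∈ center Γ ∧ w = t ^ i * z := by
    intro w hw
    obtain ⟨i, hi⟩ := hgen ⟨σ w, hw⟩
    refine ⟨i, (t ^ i)⁻¹ * w, hc ?_, by group⟩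
    have hi' : σ t ^ i = σ w := congrArg Subtype.val hi
    simp [MonoidHom.mem_ker, hi']
  obtain ⟨i, z, hz, rfl⟩ := key x hx
  obtain ⟨j, z', hz', rfl⟩ := key y hy
  rw [Cfsg.Agent.Schur.commutatorElement_mul_central hz hz', commutatorElement_eq_one_iff_mul_comm]
  exact ((Commute.refl t).zpow_zpow i j).eq

/-- The case of an inverted cyclic subgroup of index 2 (generalised quaternion). -/
theorem inf_commutator_eq_bot_of_inverted [Finite Γ] (σ : Γ →* G) (hc : σ.ker ≤ center Γ)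
    (hσ : Function.Surjective σ) (S : Subgroup G) {c x : G} (h : ℕ)
    (hord : orderOf c = 2 * h) (hxc : x * c * x⁻¹ = c⁻¹) (hx2 : x * x = c ^ h)
    (hgen : ∀ g ∈ S, g ∈ zpowers c ∨ x⁻¹ * g ∈ zpowers c) :
    σ.ker ⊓ ⁅S.comap σ, S.comap σ⁆ = ⊥ := by
  obtain ⟨t, rfl⟩ := hσ c
  obtain ⟨u, rfl⟩ := hσ x
  -- `w = [u, t]`
  set z₀ := t * (u * t * u⁻¹) with hz₀
  have hz₀k : z₀ ∈ σ.ker := by
    rw [MonoidHom.mem_ker, hz₀, map_mul, map_mul, map_mul, map_inv, hxc, mul_inv_cancel]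
  have hz₀c := Subgroup.mem_center_iff.1 (hc hz₀k)
  have hutu : u * t * u⁻¹ = t⁻¹ * z₀ := by rw [hz₀]; group
  clear_value z₀
  set w := ⁅u, t⁆ with hw
  have hw' : w = t⁻¹ * t⁻¹ * z₀ := by
    rw [hw, commutatorElement_def, hutu, mul_assoc, ← hz₀c t⁻¹, ← mul_assoc]
  have hwt : Commute w t := by
    rw [hw']
    exact ((Commute.refl t).inv_left.mul_left (Commute.refl t).inv_left).mul_left
      (Commute.symm (hz₀c t))
  have hwu : u * w * u⁻¹ = w⁻¹ := by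
    have hzu : u * z₀ * u⁻¹ = z₀ := by rw [hz₀c u, mul_inv_cancel_right]
    have hzt : z₀⁻¹ * t = t * z₀⁻¹ := (Subgroup.mem_center_iff.1 (inv_mem (hc hz₀k)) t).symm
    calc u * w * u⁻¹ = (u * t * u⁻¹)⁻¹ * (u * t * u⁻¹)⁻¹ * (u * z₀ * u⁻¹) := by rw [hw']; group
      _ = (z₀⁻¹ * t) * (z₀⁻¹ * t) * z₀ := by rw [hzu, hutu]; group
      _ = (z₀⁻¹ * t) * (t * z₀⁻¹) * z₀ := by rw [hzt]
      _ = z₀⁻¹ * (t * t) := by group
      _ = w⁻¹ := by rw [hw', _root_.mul_inv_rev, _root_.mul_inv_rev, inv_inv]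
  have hnorm : ∀ g : Γ, σ g ∈ S → ∃ (i : ℤ) (e : ℤ) (z : Γ),
      z ∈ center Γ ∧ (e = 0 ∨ e = 1) ∧ g = u ^ e * t ^ i * z := by
    intro g hg
    rcases hgen _ hg with ⟨i, hi⟩ | ⟨i, hi⟩
    · refine ⟨i, 0, (t ^ i)⁻¹ * g, hc ?_, Or.inl rfl, by group⟩
      simp only at hi
      simp [MonoidHom.mem_ker, hi]
    · refine ⟨i, 1, (t ^ i)⁻¹ * u⁻¹ * g, hc ?_, Or.inr rfl, by group⟩
      simp only at hi
      simp [MonoidHom.mem_ker, hi, mul_assoc]
  -- `⟨w⟩` contains the derived subgroup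
  have hle : ⁅S.comap σ, S.comap σ⁆ ≤ zpowers w := by
    rw [Subgroup.commutator_le]
    intro g hg g' hg'
    obtain ⟨i, e, z, hz, he, rfl⟩ := hnorm g hg
    obtain ⟨j, e', z', hz', he', rfl⟩ := hnorm g' hg'
    rw [Cfsg.Agent.Schur.commutatorElement_mul_central hz hz']
    have hti : ∀ k : ℤ, ⁅u, t ^ k⁆ ∈ zpowers w := by
      intro k
      refine ⟨k, ?_⟩
      have h1 : u * t ^ k * u⁻¹ = (w * t) ^ k := by
        rw [← conj_zpow, hw, commutatorElement_def]; group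
      show w ^ k = _
      rw [commutatorElement_def, h1, hwt.mul_zpow, mul_inv_cancel_right]
    have htw : ∀ (k : ℤ) (v : Γ), v ∈ zpowers w → t ^ k * v * (t ^ k)⁻¹ = v := by
      rintro k v ⟨m, rfl⟩
      show t ^ k * w ^ m * (t ^ k)⁻¹ = w ^ m
      rw [(hwt.symm.zpow_zpow k m).eq, mul_inv_cancel_right]
    have huw : ∀ v : Γ, v ∈ zpowers w → u * v * u⁻¹ ∈ zpowers w := by
      rintro v ⟨m, rfl⟩
      show u * w ^ m * u⁻¹ ∈ zpowers w
      rw [← conj_zpow, hwu]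
      exact zpow_mem (inv_mem (mem_zpowers w)) m
    rcases he with rfl | rfl <;> rcases he' with rfl | rfl
    · simp only [zpow_zero, one_mul]
      rw [commutatorElement_eq_one_iff_mul_comm.2 ((Commute.refl t).zpow_zpow i j).eq]
      exact one_mem _
    · simp only [zpow_zero, one_mul, zpow_one]
      have e1 : ⁅t ^ i, u * t ^ j⁆ = (u * (t ^ i * (u * t ^ i * u⁻¹ * (t ^ i)⁻¹)⁻¹ * (t ^ i)⁻¹) * u⁻¹)
          ^ (0 : ℤ) * (⁅t ^ i, u⁆) := by
        simp only [zpow_zero, one_mul, commutatorElement_def, mul_inv_rev]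
        rw [show t ^ i * (u * t ^ j) * (t ^ i)⁻¹ * ((t ^ j)⁻¹ * u⁻¹)
          = t ^ i * u * (t ^ j * (t ^ i)⁻¹ * (t ^ j)⁻¹) * u⁻¹ by group]
        rw [((Commute.refl t).zpow_zpow j i).inv_right.eq]
        group
      rw [e1, zpow_zero, one_mul, ← commutatorElement_inv]
      exact inv_mem (hti i)
    · simp only [zpow_zero, one_mul, zpow_one]
      have e1 : ⁅u * t ^ i, t ^ j⁆ = ⁅u, t ^ j⁆ := by
        simp only [commutatorElement_def, mul_inv_rev]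
        rw [show u * t ^ i * t ^ j * ((t ^ i)⁻¹ * u⁻¹) * (t ^ j)⁻¹
          = u * (t ^ i * t ^ j * (t ^ i)⁻¹) * u⁻¹ * (t ^ j)⁻¹ by group]
        rw [((Commute.refl t).zpow_zpow i j).eq, mul_inv_cancel_right]
      rw [e1]; exact hti j
    · simp only [zpow_one]
      have e1 : ⁅u * t ^ i, u * t ^ j⁆ =
          u * ((t ^ i) * ⁅u, t ^ (j - i)⁆ * (t ^ i)⁻¹) * u⁻¹ := by
        simp only [commutatorElement_def, mul_inv_rev, zpow_sub]
        group
      rw [e1, htw i _ (hti _)]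
      exact huw _ (hti _)
  have hwh : w ^ h = 1 := by
    -- `t ^ h` commutes with `u`
    have hth : t ^ h * (u * u)⁻¹ ∈ σ.ker := by
      rw [MonoidHom.mem_ker, map_mul, map_inv, map_mul, map_pow, hx2, mul_inv_cancel]
    have hcom : u * t ^ h * u⁻¹ = t ^ h := by
      have hz := Subgroup.mem_center_iff.1 (hc hth) u
      calc u * t ^ h * u⁻¹ = u * (t ^ h * (u * u)⁻¹) * (u * u) * u⁻¹ := by group
        _ = (t ^ h * (u * u)⁻¹) * u * (u * u) * u⁻¹ := by rw [hz]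
        _ = t ^ h := by group
    have h1 : u * t ^ h * u⁻¹ = w ^ h * t ^ h := by
      rw [← conj_pow, ← hwt.mul_pow, hw, commutatorElement_def]; group
    exact mul_right_cancel (b := t ^ h) (by rw [one_mul]; exact h1.symm.trans hcom)
  rw [eq_bot_iff]
  rintro z ⟨hz, hz'⟩
  obtain ⟨n, rfl⟩ := hle hz'
  have hσw : σ w = (σ t) ^ (-2 : ℤ) := by
    rw [hw, map_commutatorElement, commutatorElement_def, hxc]; group
  have hn : σ (w ^ n) = 1 := hz
  rw [map_zpow, hσw, ← zpow_mul] at hn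
  have hdvd := orderOf_dvd_iff_zpow_eq_one.2 hn
  rw [hord] at hdvd
  obtain ⟨k, hk⟩ := hdvd
  have hnk : n = (h : ℤ) * (-k) := by push_cast at hk; linarith
  rw [Subgroup.mem_bot]
  show w ^ n = 1
  rw [hnk, zpow_mul, zpow_natCast, hwh, one_zpow]

end Cfsg.Agent.KnownSimple
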