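import Cfsg.Agent.KnownSimple.Multiplier.Sylow
import Mathlib.GroupTheory.Coxeter.Basic
import Mathlib.GroupTheory.SchurZassenhaus
import Mathlib.GroupTheory.NoncommPiCoprod
import Mathlib.GroupTheory.PGroup

/-!
Central extensions, of order prime to `p`, of a group with a split (B, N)-pair of characteristic `p`
split when the rank-one subgroups lift (helper53).
-/

set_option autoImplicit false

namespace Cfsg.Agent.KnownSimple.BNLift

open Subgroup
open scoped commutatorElement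

universe u v

/-- `g` has `p`-power order -/
def PElt {G : Type*} [Monoid G] (p : ℕ) (g : G) : Prop := ∃ a : ℕ, g ^ p ^ a = 1

theorem PElt.conj {G : Type*} [Group G] {p : ℕ} {g : G} (h : PElt p g) (x : G) :
    PElt p (x * g * x⁻¹) := by
  obtain ⟨a, ha⟩ := h
  exact ⟨a, by rw [conj_pow, ha, mul_one, mul_inv_cancel]⟩

/-- The data of a split (B, N)-pair with lifting of the rank-one subgroups. -/
structure Setup (G : Type v) [Group G] (ι : Type) [Fintype ι] [DecidableEq ι] (p : ℕ) where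
  U : Subgroup G
  H : Subgroup G
  U_p : ∀ u ∈ U, PElt p u
  H_comm : ∀ a ∈ H, ∀ b ∈ H, a * b = b * a
  H_norm : ∀ h ∈ H, ∀ u ∈ U, h * u * h⁻¹ ∈ U
  UH : U ⊓ H = ⊥
  X : ι → Subgroup G
  Uc : ι → Set G
  X_le : ∀ k, X k ≤ U
  decomp : ∀ k, ∀ u ∈ U, ∃ v ∈ Uc k, v ∈ U ∧ ∃ x ∈ X k, u = v * x
  n : ι → G
  n_Uc : ∀ k, ∀ v ∈ Uc k, v ∈ U → n k * v * (n k)⁻¹ ∈ U
  n_H : ∀ k, ∀ h ∈ H, n k * h * (n k)⁻¹ ∈ H
  n_sq : ∀ k, n k * n k ∈ H
  L : ι → Subgroup G
  n_L : ∀ k, n k ∈ L k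
  X_L : ∀ k, X k ≤ L k
  L_gen : ∀ k, L k ≤ closure {g | g ∈ L k ∧ PElt p g}
  H_L : ∀ k, ∀ h ∈ H, ∀ g ∈ L k, h * g * h⁻¹ ∈ L k
  rank : ∀ k, ∀ a ∈ X k, a ≠ 1 →
    ∃ x ∈ X k, ∃ x' ∈ X k, ∃ h ∈ H, h ∈ L k ∧ n k * a * (n k)⁻¹ = x * n k * x' * h
  H_gen : H ≤ ⨆ k, L k ⊓ H
  gen : closure ((U : Set G) ∪ H ∪ Set.range n) = ⊤
  dich : ∀ k (W : List ι),
    (∀ a ∈ X k, ((W.map n).prod)⁻¹ * a * (W.map n).prod ∈ U) ∨
      (∀ a ∈ X k, (((k :: W).map n).prod)⁻¹ * a * ((k :: W).map n).prod ∈ U)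
  M : CoxeterMatrix ι
  word : ∀ W : List ι, (W.map n).prod ∈ U ⊔ H → (W.map M.simple).prod = 1
  braid : ∀ i j, i ≠ j → M i j ≠ 0 → ∃ (P : List ι) (s t : ι),
    (P ++ [s] ++ P.reverse ++ [t] = (List.replicate (M i j) [i, j]).flatten ∨
      P ++ [s] ++ P.reverse ++ [t] = (List.replicate (M i j) [j, i]).flatten) ∧
    (∀ g ∈ L s, (P.map n).prod * g * ((P.map n).prod)⁻¹ ∈ L t) ∧
    (P.map n).prod * n s * ((P.map n).prod)⁻¹ * n t ∈ H

variable {Γ : Type u} [Group Γ] [Finite Γ] {G : Type v} [Group G] {ι : Type} [Fintype ι]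
  [DecidableEq ι] {p : ℕ}

/-- The lifts of the `p`-elements of a subgroup. -/
def liftGen (σ : Γ →* G) (p : ℕ) (L : Subgroup G) : Subgroup Γ :=
  closure {y | σ y ∈ L ∧ PElt p y}

variable (σ : Γ →* G)

theorem exists_pElt (hσ : Function.Surjective σ) (hc : σ.ker ≤ center Γ)
    (hcop : (Nat.card σ.ker).Coprime p) {g : G} (hg : PElt p g) : ∃ y, σ y = g ∧ PElt p y := by
  obtain ⟨a, ha⟩ := hg
  obtain ⟨t, rfl⟩ := hσ g
  have hz : t ^ p ^ a ∈ σ.ker := by rw [MonoidHom.mem_ker, map_pow, ha]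
  obtain ⟨w, hw⟩ := (powCoprime (hcop.pow_right a)).surjective ⟨t ^ p ^ a, hz⟩
  have hw' : (w : Γ) ^ p ^ a = t ^ p ^ a := congrArg Subtype.val hw
  refine ⟨t * (w : Γ)⁻¹, ?_, a, ?_⟩
  · rw [map_mul, map_inv, show σ (w : Γ) = 1 from w.2, inv_one, mul_one]
  · have hcm : Commute t (w : Γ)⁻¹ := Subgroup.mem_center_iff.1 (inv_mem (hc w.2)) t
    rw [hcm.mul_pow, inv_pow, hw', mul_inv_cancel]

theorem eq_of_pElt (hc : σ.ker ≤ center Γ) (hcop : (Nat.card σ.ker).Coprime p) {x y : Γ}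
    (hx : PElt p x) (hy : PElt p y) (h : σ x = σ y) : x = y := by
  obtain ⟨a, ha⟩ := hx
  obtain ⟨b, hb⟩ := hy
  have hz : y⁻¹ * x ∈ σ.ker := by rw [MonoidHom.mem_ker, map_mul, map_inv, h, inv_mul_cancel]
  have hcm : Commute y (y⁻¹ * x) := Subgroup.mem_center_iff.1 (hc hz) y
  have h1 : (y⁻¹ * x) ^ p ^ (a + b) = 1 := by
    have := hcm.mul_pow (p ^ (a + b))
    rw [mul_inv_cancel_left, pow_add, pow_mul, ha, one_pow] at this
    rw [mul_comm, pow_mul y, hb, one_pow, one_mul, mul_comm] at this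
    rw [pow_add]
    exact this.symm
  have := (Subgroup.orderOf_coe (⟨_, hz⟩ : σ.ker)).symm ▸ orderOf_dvd_of_pow_eq_one h1
  have h2 : orderOf (⟨_, hz⟩ : σ.ker) = 1 :=
    Nat.eq_one_of_dvd_coprimes (hcop.pow_right (a + b)) (orderOf_dvd_natCard _) this
  have h3 : y⁻¹ * x = 1 := congrArg Subtype.val (orderOf_eq_one_iff.1 h2)
  exact (inv_mul_eq_one.1 h3).symm

theorem exists_lift_subgroup (hσ : Function.Surjective σ) (hc : σ.ker ≤ center Γ)
    (hp : p.Prime) (hcop : (Nat.card σ.ker).Coprime p) (U : Subgroup G) (hU : ∀ u ∈ U, PElt p u) :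
    ∃ K : Subgroup Γ, ∀ y, y ∈ K ↔ σ y ∈ U ∧ PElt p y := by
  haveI := Fact.mk hp
  set P := U.comap σ
  let Z : Subgroup P := σ.ker.subgroupOf P
  have : Z.Normal := ⟨fun z hz g => by
    rw [Subgroup.mem_subgroupOf] at hz ⊢
    exact σ.normal_ker.conj_mem _ hz g⟩
  have hzP : σ.ker ≤ P := σ.ker_le_comap U
  have hcardZ : Nat.card Z = Nat.card σ.ker := Nat.card_congr (Subgroup.subgroupOfEquivOfLe hzP).toEquiv
  have hq : IsPGroup p (P ⧸ Z) := by
    intro x
    induction x using QuotientGroup.induction_on with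
    | H x =>
      obtain ⟨a, ha⟩ := hU _ x.2
      refine ⟨a, ?_⟩
      rw [← QuotientGroup.mk_pow, QuotientGroup.eq_one_iff, Subgroup.mem_subgroupOf, MonoidHom.mem_ker,
        Subgroup.coe_pow, map_pow, ha]
  have hidx : (Nat.card Z).Coprime Z.index := by
    obtain ⟨k, hk⟩ := hq.exists_card_eq
    rw [hcardZ, Subgroup.index_eq_card, hk]
    exact hcop.pow_right k
  obtain ⟨K, hK⟩ := Subgroup.exists_right_complement'_of_coprime hidx
  have hKp : IsPGroup p K := by
    obtain ⟨k, hk⟩ := hq.exists_card_eq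
    refine IsPGroup.of_card (n := k) ?_
    rw [← hK.symm.index_eq_card, Subgroup.index_eq_card, hk]
  refine ⟨K.map P.subtype, fun y => ⟨?_, fun ⟨hy, hy'⟩ => ?_⟩⟩
  · rintro ⟨k, hk, rfl⟩
    obtain ⟨a, ha⟩ := hKp ⟨k, hk⟩
    exact ⟨k.2, a, congrArg (fun x : K => ((x : P) : Γ)) ha⟩
  · obtain ⟨⟨z, k⟩, hzk⟩ := hK.2 ⟨y, hy⟩
    obtain ⟨a, ha⟩ := hKp k
    have e : y = ((k : P) : Γ) := by
      refine eq_of_pElt σ hc hcop hy' ⟨a, congrArg (fun x : K => ((x : P) : Γ)) ha⟩ ?_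
      have hz : σ ((z : P) : Γ) = 1 := z.2
      have := congrArg (fun x : P => σ (x : Γ)) hzk
      simp only [Subgroup.coe_mul, map_mul, hz, one_mul] at this
      exact this.symm
    exact ⟨k, k.2, e.symm⟩

/-- The kernel is no bigger than the relations among the tori of the rank-one subgroups. -/
theorem exists_ker_torus (S : Setup G ι p) (hp : p.Prime) (hσ : Function.Surjective σ)
    (hc : σ.ker ≤ center Γ) (hperf : commutator Γ = ⊤) (hcop : (Nat.card σ.ker).Coprime p)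
    (hL : ∀ k, σ.ker ⊓ liftGen σ p (S.L k) = ⊥) :
    ∃ Φ : σ.ker → ι → G, Function.Injective Φ ∧ ∀ z, (∀ k, Φ z k ∈ S.L k ∧ Φ z k ∈ S.H) ∧
      ((List.finRange (Fintype.card ι)).map fun i => Φ z ((Fintype.equivFin ι).symm i)).prod = 1 := by
  classical
  set E : ι → Subgroup Γ := fun k => liftGen σ p (S.L k) with hE
  have hEσ : ∀ k, ∀ y ∈ E k, σ y ∈ S.L k := by
    intro k y hy
    induction hy using Subgroup.closure_induction with
    | mem y hy => exact hy.1
    | one => rw [map_one]; exact one_mem _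
    | mul a b _ _ ha hb => rw [map_mul]; exact mul_mem ha hb
    | inv a _ ha => rw [map_inv]; exact inv_mem ha
  have hEinj : ∀ k, ∀ x ∈ E k, ∀ y ∈ E k, σ x = σ y → x = y := by
    intro k x hx y hy h
    have : x⁻¹ * y ∈ σ.ker ⊓ E k := Subgroup.mem_inf.2 ⟨by
      rw [MonoidHom.mem_ker, map_mul, map_inv, h, inv_mul_cancel], mul_mem (inv_mem hx) hy⟩
    rw [hE, hL k, Subgroup.mem_bot] at this
    exact inv_mul_eq_one.1 this
  have hEsurj : ∀ k, ∀ g ∈ S.L k, ∃ y ∈ E k, σ y = g := by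
    intro k g hg
    have : S.L k ≤ (E k).map σ := by
      refine (S.L_gen k).trans ((Subgroup.closure_le _).2 ?_)
      rintro x ⟨hx, hxp⟩
      obtain ⟨y, rfl, hy⟩ := exists_pElt σ hσ hc hcop hxp
      exact ⟨y, Subgroup.subset_closure ⟨hx, hy⟩, rfl⟩
    exact this hg
  have hEnorm : ∀ k (y : Γ), σ y ∈ S.H → ∀ x ∈ E k, y * x * y⁻¹ ∈ E k := by
    intro k y hy x hx
    induction hx using Subgroup.closure_induction with
    | mem x hx =>
      refine Subgroup.subset_closure ⟨?_, hx.2.conj y⟩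
      rw [map_mul, map_mul, map_inv]
      exact S.H_L k _ hy _ hx.1
    | one => simp
    | mul a b _ _ ha hb => simpa [mul_assoc] using mul_mem ha hb
    | inv a _ ha => simpa [mul_assoc] using inv_mem ha
  obtain ⟨Ut, hUt⟩ := exists_lift_subgroup σ hσ hc hp hcop S.U S.U_p
  have hUinj : ∀ y ∈ Ut, σ y = 1 → y = 1 := fun y hy h =>
    eq_of_pElt σ hc hcop ((hUt y).1 hy).2 ⟨0, one_pow _⟩ (by rw [h, map_one])
  have hUlift : ∀ u ∈ S.U, ∃ y ∈ Ut, σ y = u := by
    intro u hu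
    obtain ⟨y, rfl, hy⟩ := exists_pElt σ hσ hc hcop (S.U_p u hu)
    exact ⟨y, (hUt y).2 ⟨hu, hy⟩, rfl⟩
  have hUconj : ∀ (g : Γ), ∀ y ∈ Ut, σ g * σ y * (σ g)⁻¹ ∈ S.U → g * y * g⁻¹ ∈ Ut := by
    intro g y hy h
    refine (hUt _).2 ⟨?_, ((hUt y).1 hy).2.conj g⟩
    rwa [map_mul, map_mul, map_inv]
  -- the torus
  set C : ι → Subgroup Γ := fun k => E k ⊓ S.H.comap σ
  have hCcomm : ∀ i j, ∀ x ∈ C i, ∀ y ∈ C j, Commute x y := by
    intro i j x hx y hy
    have h1 := hEnorm j x hx.2 y hy.1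
    have h2 := hEinj j _ h1 y hy.1 (by
      rw [map_mul, map_mul, map_inv, S.H_comm _ hx.2 _ hy.2, mul_inv_cancel_right])
    exact mul_inv_eq_iff_eq_mul.1 h2
  have hcomm : Pairwise fun i j : ι => ∀ x y : Γ, x ∈ C i → y ∈ C j → Commute x y :=
    fun i j _ x y hx hy => hCcomm i j x hx y hy
  let φ : (∀ k, C k) →* Γ := Subgroup.noncommPiCoprod hcomm
  set Ht : Subgroup Γ := ⨆ k, C k with hHt
  have hφ : φ.range = Ht := Subgroup.noncommPiCoprod_range
  have hHσ : ∀ y ∈ Ht, σ y ∈ S.H := fun y hy =>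
    (iSup_le fun k => (inf_le_right : C k ≤ S.H.comap σ)) hy
  have hprod : ∀ f : ∀ k, C k, φ f = ((List.finRange (Fintype.card ι)).map fun i =>
      ((f ((Fintype.equivFin ι).symm i)) : Γ)).prod := by
    intro f
    have hf : f = ((List.finRange (Fintype.card ι)).map fun i =>
        Pi.mulSingle ((Fintype.equivFin ι).symm i) (f ((Fintype.equivFin ι).symm i))).prod := by
      funext k
      rw [Pi.list_prod_apply, List.map_map]
      have : ∀ l : List (Fin (Fintype.card ι)), l.Nodup →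
          (l.map ((fun g : ∀ k, C k => g k) ∘ fun i =>
            Pi.mulSingle ((Fintype.equivFin ι).symm i) (f ((Fintype.equivFin ι).symm i)))).prod =
          if Fintype.equivFin ι k ∈ l then f k else 1 := by
        intro l hl
        induction l with
        | nil => simp
        | cons a l ih =>
          rw [List.map_cons, List.prod_cons, ih (List.nodup_cons.1 hl).2]
          by_cases hak : (Fintype.equivFin ι).symm a = k
          · subst hak
            simp [(List.nodup_cons.1 hl).1]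
          · have : Fintype.equivFin ι k ≠ a := fun e => hak (by rw [← e, Equiv.symm_apply_apply])
            simp [Pi.mulSingle_eq_of_ne' hak, this]
      rw [this _ (List.nodup_finRange _)]
      simp
    conv_lhs => rw [hf]
    rw [map_list_prod, List.map_map]
    refine congrArg List.prod (List.map_congr_left fun i _ => ?_)
    exact Subgroup.noncommPiCoprod_mulSingle _ _
  have hHlift : ∀ h ∈ S.H, ∃ y ∈ Ht, σ y = h := by
    intro h hh
    have : S.H ≤ Ht.map σ := S.H_gen.trans (iSup_le fun k g hg => by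
      obtain ⟨y, hy, rfl⟩ := hEsurj k g hg.1
      exact ⟨y, le_iSup C k ⟨hy, hg.2⟩, rfl⟩)
    exact this hh
  -- the Weyl elements
  choose nt hntE hntσ using fun k => hEsurj k _ (S.n_L k)
  have hnH : ∀ k, ∀ y ∈ Ht, nt k * y * (nt k)⁻¹ ∈ Ht := by
    intro k
    suffices Ht ≤ Ht.comap (MulAut.conj (nt k)).toMonoidHom from fun y hy => this hy
    refine iSup_le fun j y hy => ?_
    show nt k * y * (nt k)⁻¹ ∈ Ht
    have h1 : nt k * (y * (nt k)⁻¹ * y⁻¹) ∈ C k := by
      refine ⟨mul_mem (hntE k) (hEnorm k y hy.2 _ (inv_mem (hntE k))), ?_⟩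
      show σ _ ∈ S.H
      have := mul_mem (S.n_H k _ hy.2) (inv_mem hy.2)
      simpa [hntσ, mul_assoc] using this
    have := mul_mem (le_iSup C k h1) (le_iSup C j hy)
    simpa [mul_assoc] using this
  have hnN : ∀ k, nt k ∈ Subgroup.normalizer (Ht : Set Γ) := by
    intro k
    refine Subgroup.mem_normalizer_iff.2 fun y => ⟨fun hy => hnH k y hy, fun hy => ?_⟩
    have hpow : ∀ (i : ℕ), ∀ y ∈ Ht, nt k ^ i * y * (nt k ^ i)⁻¹ ∈ Ht := by
      intro i
      induction i with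
      | zero => simp
      | succ i ih =>
        intro y hy
        have := hnH k _ (ih y hy)
        rw [pow_succ']
        simpa [mul_assoc] using this
    have h1 := hpow (orderOf (nt k) - 1) _ hy
    have e : nt k ^ (orderOf (nt k) - 1) = (nt k)⁻¹ := by
      refine eq_inv_of_mul_eq_one_left ?_
      rw [← pow_succ, Nat.sub_add_cancel (orderOf_pos _), pow_orderOf_eq_one]
    rw [e] at h1
    simpa [mul_assoc] using h1
  have hnWN : ∀ W : List ι, (W.map nt).prod ∈ Subgroup.normalizer (Ht : Set Γ) := fun W =>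
    list_prod_mem fun y hy => by obtain ⟨k, -, rfl⟩ := List.mem_map.1 hy; exact hnN k
  have hHW : ∀ (W : List ι), ∀ y ∈ Ht, ∃ y' ∈ Ht, y * (W.map nt).prod = (W.map nt).prod * y' := by
    intro W y hy
    refine ⟨(W.map nt).prod⁻¹ * y * (W.map nt).prod, ?_, by group⟩
    have := (Subgroup.mem_normalizer_iff.1 (inv_mem (hnWN W)) y).1 hy
    simpa using this
  have hσW : ∀ W : List ι, σ (W.map nt).prod = (W.map S.n).prod := by
    intro W
    rw [map_list_prod, List.map_map]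
    exact congrArg List.prod (List.map_congr_left fun k _ => hntσ k)
  have hsq : ∀ k, nt k * nt k ∈ Ht := fun k =>
    le_iSup C k ⟨mul_mem (hntE k) (hntE k), by
      show σ _ ∈ S.H
      rw [map_mul, hntσ]; exact S.n_sq k⟩
  have hHU : ∀ y ∈ Ht, ∀ u ∈ Ut, y * u * y⁻¹ ∈ Ut := fun y hy u hu =>
    hUconj y u hu (S.H_norm _ (hHσ y hy) _ ((hUt u).1 hu).1)
  -- the union of the cells
  let T : Set Γ := {y | ∃ u ∈ Ut, ∃ h ∈ Ht, ∃ W : List ι, ∃ u' ∈ Ut, ∃ h' ∈ Ht,
    y = u * h * (W.map nt).prod * (u' * h')}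
  have hBmul : ∀ (a : Γ), a ∈ Ut → ∀ b ∈ Ht, ∀ a' ∈ Ut, ∀ b' ∈ Ht,
      ∃ u ∈ Ut, ∃ h ∈ Ht, a * b * (a' * b') = u * h := fun a ha b hb a' ha' b' hb' =>
    ⟨a * (b * a' * b⁻¹), mul_mem ha (hHU b hb a' ha'), b * b', mul_mem hb hb', by group⟩
  have hTU : ∀ a ∈ Ut, ∀ y ∈ T, a * y ∈ T := by
    rintro a ha y ⟨u, hu, h, hh, W, u', hu', h', hh', rfl⟩
    exact ⟨a * u, mul_mem ha hu, h, hh, W, u', hu', h', hh', by group⟩
  have hTH : ∀ a ∈ Ht, ∀ y ∈ T, a * y ∈ T := by
    rintro a ha y ⟨u, hu, h, hh, W, u', hu', h', hh', rfl⟩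
    exact ⟨a * u * a⁻¹, hHU a ha u hu, a * h, mul_mem ha hh, W, u', hu', h', hh', by group⟩
  have hTR : ∀ y ∈ T, ∀ a ∈ Ut, ∀ b ∈ Ht, y * (a * b) ∈ T := by
    rintro y ⟨u, hu, h, hh, W, u', hu', h', hh', rfl⟩ a ha b hb
    obtain ⟨u'', hu'', h'', hh'', e⟩ := hBmul u' hu' h' hh' a ha b hb
    exact ⟨u, hu, h, hh, W, u'', hu'', h'', hh'', by rw [mul_assoc, e]⟩
  have hTn : ∀ k, ∀ y ∈ T, nt k * y ∈ T := by
    rintro k y ⟨u, hu, h, hh, W, u', hu', h', hh', rfl⟩
    obtain ⟨h₁, hh₁, e₁⟩ := hHW W h hh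
    suffices hmain : nt k * u * (W.map nt).prod ∈ T by
      have := hTR _ (hTR _ hmain 1 (one_mem _) h₁ hh₁) u' hu' h' hh'
      rw [one_mul] at this
      rw [mul_assoc u h, e₁]
      simpa [mul_assoc] using this
    obtain ⟨v, hv, hvU, x, hx, e⟩ := S.decomp k _ ((hUt u).1 hu).1
    obtain ⟨vt, hvt, rfl⟩ := hUlift v hvU
    obtain ⟨xt, hxt, rfl⟩ := hUlift x (S.X_le k hx)
    have eu : u = vt * xt := eq_of_pElt σ hc hcop ((hUt u).1 hu).2
      ((hUt _).1 (mul_mem hvt hxt)).2 (by rw [e, map_mul])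
    subst eu
    have hv' : nt k * vt * (nt k)⁻¹ ∈ Ut :=
      hUconj _ _ hvt (by rw [hntσ]; exact S.n_Uc k _ hv hvU)
    rw [show nt k * (vt * xt) * (W.map nt).prod =
      (nt k * vt * (nt k)⁻¹) * (nt k * xt * (W.map nt).prod) by group]
    refine hTU _ hv' _ ?_
    have hback : ∀ V : List ι, (∀ a ∈ S.X k, ((V.map S.n).prod)⁻¹ * a * (V.map S.n).prod ∈ S.U) →
        ∀ a ∈ Ut, σ a ∈ S.X k → ∃ a' ∈ Ut, a * (V.map nt).prod = (V.map nt).prod * a' := by
      intro V hV a ha haX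
      refine ⟨(V.map nt).prod⁻¹ * a * (V.map nt).prod, ?_, by group⟩
      have := hUconj ((V.map nt).prod⁻¹) a ha (by
        rw [map_inv, inv_inv, hσW]; exact hV _ haX)
      rwa [inv_inv] at this
    rcases S.dich k W with hb | hb
    · obtain ⟨a', ha', e'⟩ := hback W hb xt hxt hx
      exact ⟨1, one_mem _, 1, one_mem _, k :: W, a', ha', 1, one_mem _, by
        rw [List.map_cons, List.prod_cons, mul_assoc (nt k), e']; group⟩
    by_cases hx1 : σ xt = 1
    · rw [hUinj xt hxt hx1, mul_one]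
      exact ⟨1, one_mem _, 1, one_mem _, k :: W, 1, one_mem _, 1, one_mem _, by simp⟩
    obtain ⟨x₁, hx₁, x₂, hx₂, g, hg, hgL, e'⟩ := S.rank k _ hx hx1
    obtain ⟨a₁, ha₁, rfl⟩ := hUlift x₁ (S.X_le k hx₁)
    obtain ⟨a₂, ha₂, rfl⟩ := hUlift x₂ (S.X_le k hx₂)
    obtain ⟨gt, hgt, rfl⟩ := hEsurj k g hgL
    have hmE : ∀ a ∈ Ut, σ a ∈ S.X k → a ∈ E k := fun a ha haX =>
      Subgroup.subset_closure ⟨S.X_L k haX, ((hUt a).1 ha).2⟩
    have heq : nt k * xt * (nt k)⁻¹ = a₁ * nt k * a₂ * gt := hEinj k _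
      (mul_mem (mul_mem (hntE k) (hmE _ hxt hx)) (inv_mem (hntE k))) _
      (mul_mem (mul_mem (mul_mem (hmE _ ha₁ hx₁) (hntE k)) (hmE _ ha₂ hx₂)) hgt)
      (by simp only [map_mul, map_inv, hntσ]; exact e')
    obtain ⟨g', hg', eg⟩ := hHW (k :: W) gt (le_iSup C k ⟨hgt, hg⟩)
    obtain ⟨a', ha', ea⟩ := hback (k :: W) hb a₂ ha₂ hx₂
    refine ⟨a₁, ha₁, 1, one_mem _, k :: k :: W, a', ha', g', hg', ?_⟩
    have : nt k * xt * (W.map nt).prod = (nt k * xt * (nt k)⁻¹) * ((k :: W).map nt).prod := by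
      rw [List.map_cons, List.prod_cons]; group
    rw [this, heq, mul_assoc _ gt, eg, mul_assoc _ a₂, ← mul_assoc a₂, ea, List.map_cons (a := k)
      (l := k :: W), List.prod_cons]
    group
  set Γ₀ : Subgroup Γ := closure ((Ut : Set Γ) ∪ Ht ∪ Set.range nt) with hΓ₀
  have hΓtop : Γ₀ = ⊤ := by
    have hmap : Γ₀.map σ = ⊤ := by
      rw [eq_top_iff, ← S.gen, Subgroup.closure_le]
      rintro g ((hg | hg) | ⟨k, rfl⟩)
      · obtain ⟨y, hy, rfl⟩ := hUlift g hg
        exact ⟨y, Subgroup.subset_closure (Or.inl (Or.inl hy)), rfl⟩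
      · obtain ⟨y, hy, rfl⟩ := hHlift g hg
        exact ⟨y, Subgroup.subset_closure (Or.inl (Or.inr hy)), rfl⟩
      · exact ⟨nt k, Subgroup.subset_closure (Or.inr ⟨k, rfl⟩), hntσ k⟩
    rw [eq_top_iff, ← hperf, _root_.commutator_def, Subgroup.commutator_le]
    have hdec : ∀ y : Γ, ∃ a ∈ Γ₀, ∃ z ∈ center Γ, y = a * z := by
      intro y
      obtain ⟨a, ha, hay⟩ : σ y ∈ Γ₀.map σ := by rw [hmap]; trivial
      exact ⟨a, ha, a⁻¹ * y, hc (by rw [MonoidHom.mem_ker, map_mul, map_inv, hay, inv_mul_cancel]),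
        by group⟩
    intro x _ y _
    obtain ⟨a, ha, z, hz, rfl⟩ := hdec x
    obtain ⟨b, hb, z', hz', rfl⟩ := hdec y
    rw [Cfsg.Agent.Schur.commutatorElement_mul_central hz hz', commutatorElement_def]
    exact mul_mem (mul_mem (mul_mem ha hb) (inv_mem ha)) (inv_mem hb)
  have hall : ∀ y : Γ, y ∈ T := by
    have hcl : ∀ y ∈ Γ₀, ∀ s ∈ T, y * s ∈ T := by
      intro y hy
      induction hy using Subgroup.closure_induction with
      | mem y hy =>
        rcases hy with (hy | hy) | ⟨k, rfl⟩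
        · exact hTU y hy
        · exact hTH y hy
        · exact hTn k
      | one => simp
      | mul a b _ _ ha hb => intro s hs; rw [mul_assoc]; exact ha _ (hb _ hs)
      | inv a _ ha =>
        intro s hs
        have hpow : ∀ i : ℕ, a ^ i * s ∈ T := by
          intro i
          induction i with
          | zero => simpa using hs
          | succ i ih => rw [pow_succ', mul_assoc]; exact ha _ ih
        have e : a ^ (orderOf a - 1) = a⁻¹ := by
          refine eq_inv_of_mul_eq_one_left ?_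
          rw [← pow_succ, Nat.sub_add_cancel (orderOf_pos _), pow_orderOf_eq_one]
        rw [← e]; exact hpow _
    intro y
    have h1 : (1 : Γ) ∈ T := ⟨1, one_mem _, 1, one_mem _, [], 1, one_mem _, 1, one_mem _, by simp⟩
    simpa using hcl y (hΓtop ▸ Subgroup.mem_top y) 1 h1
  -- the words
  set N := Subgroup.normalizer (Ht : Set Γ)
  have : (Ht.subgroupOf N).Normal := Subgroup.normal_in_normalizer
  let f : ι → N ⧸ Ht.subgroupOf N := fun k => QuotientGroup.mk ⟨nt k, hnN k⟩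
  have hfsq : ∀ k, f k * f k = 1 := fun k => by
    rw [← QuotientGroup.mk_mul, QuotientGroup.eq_one_iff, Subgroup.mem_subgroupOf]
    exact hsq k
  have hfW : ∀ W : List ι, (W.map f).prod = QuotientGroup.mk ⟨(W.map nt).prod, hnWN W⟩ := by
    intro W
    induction W with
    | nil => rfl
    | cons k W ih => rw [List.map_cons, List.prod_cons, ih, ← QuotientGroup.mk_mul]; rfl
  have hfinv : ∀ k, (f k)⁻¹ = f k := fun k => inv_eq_of_mul_eq_one_left (hfsq k)
  have hlift : S.M.IsLiftable f := by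
    intro i j
    by_cases hij : i = j
    · subst hij; rw [S.M.diagonal, pow_one, hfsq]
    by_cases hM : S.M i j = 0
    · rw [hM, pow_zero]
    obtain ⟨P, s, t, hw, hLP, hnP⟩ := S.braid i j hij hM
    have hone : ((P ++ [s] ++ P.reverse ++ [t]).map f).prod = 1 := by
      have hrev : (P.reverse.map f).prod = ((P.map f).prod)⁻¹ := by
        rw [List.prod_inv_reverse, List.map_map, List.map_reverse]
        exact congrArg List.prod (congrArg List.reverse (List.map_congr_left fun k _ => (hfinv k).symm))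
      simp only [List.map_append, List.map_cons, List.map_nil, List.prod_append, List.prod_cons,
        List.prod_nil, mul_one, hrev]
      rw [hfW P, ← QuotientGroup.mk_inv, ← QuotientGroup.mk_mul, ← QuotientGroup.mk_mul,
        ← QuotientGroup.mk_mul, QuotientGroup.eq_one_iff, Subgroup.mem_subgroupOf]
      show (P.map nt).prod * nt s * ((P.map nt).prod)⁻¹ * nt t ∈ Ht
      refine le_iSup C t ⟨mul_mem ?_ (hntE t), ?_⟩
      · have key : ∀ x ∈ E s, (P.map nt).prod * x * ((P.map nt).prod)⁻¹ ∈ E t := by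
          intro x hx
          induction hx using Subgroup.closure_induction with
          | mem x hx =>
            refine Subgroup.subset_closure ⟨?_, hx.2.conj _⟩
            rw [map_mul, map_mul, map_inv, hσW]
            exact hLP _ hx.1
          | one => simp
          | mul a b _ _ ha hb => simpa [mul_assoc] using mul_mem ha hb
          | inv a _ ha => simpa [mul_assoc] using inv_mem ha
        exact key _ (hntE s)
      · show σ _ ∈ S.H
        rw [map_mul, map_mul, map_mul, map_inv, hσW, hntσ, hntσ]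
        exact hnP
    have hpow : ∀ a b : ι, ∀ m : ℕ, (((List.replicate m [a, b]).flatten).map f).prod = (f a * f b) ^ m := by
      intro a b m
      induction m with
      | zero => simp
      | succ m ih => simp [List.replicate_succ, ih, pow_succ', mul_assoc]
    rcases hw with hw | hw
    · rwa [hw, hpow] at hone
    · rw [hw, hpow] at hone
      have : (f i * f j) = (f j * f i)⁻¹ := by rw [_root_.mul_inv_rev, hfinv, hfinv]
      rw [this, inv_pow, hone, inv_one]
  have hT : ∀ z ∈ σ.ker, ∃ f : ∀ k, C k, φ f = z := by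
    intro z hz
    rw [← MonoidHom.mem_range, hφ]
    obtain ⟨u, hu, h, hh, W, u', hu', h', hh', rfl⟩ := hall z
    have hWB : (W.map S.n).prod ∈ S.U ⊔ S.H := by
      have hB : ∀ a ∈ Ut, ∀ b ∈ Ht, σ (a * b) ∈ S.U ⊔ S.H := fun a ha b hb => by
        rw [map_mul]
        exact mul_mem (le_sup_left (b := S.H) ((hUt a).1 ha).1) (le_sup_right (a := S.U) (hHσ b hb))
      have h1 : σ (u * h) * (W.map S.n).prod * σ (u' * h') = 1 := by
        rw [← hσW, ← map_mul, ← map_mul]; exact hz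
      have e : (W.map S.n).prod = (σ (u * h))⁻¹ * (σ (u' * h'))⁻¹ := by
        calc (W.map S.n).prod = (σ (u * h))⁻¹ * (σ (u * h) * (W.map S.n).prod * σ (u' * h')) *
              (σ (u' * h'))⁻¹ := by group
          _ = _ := by rw [h1, mul_one]
      rw [e]
      exact mul_mem (inv_mem (hB u hu h hh)) (inv_mem (hB u' hu' h' hh'))
    have hW1 : (W.map nt).prod ∈ Ht := by
      have h1 : ((W.map S.M.simple).map (S.M.toCoxeterSystem.lift ⟨f, hlift⟩)).prod = 1 := by
        rw [← map_list_prod, S.word W hWB, map_one]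
      rw [List.map_map, List.map_congr_left (g := f) (fun k _ => by
        have := S.M.toCoxeterSystem.lift_apply_simple hlift k
        rwa [CoxeterMatrix.toCoxeterSystem_simple] at this), hfW, QuotientGroup.eq_one_iff,
        Subgroup.mem_subgroupOf] at h1
      exact h1
    obtain ⟨a, ha, b, hb, e⟩ := hBmul u hu _ (mul_mem hh hW1) u' hu' h' hh'
    rw [show u * h * (W.map nt).prod * (u' * h') = a * b by rw [← e]; group] at hz ⊢
    rw [MonoidHom.mem_ker, map_mul] at hz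
    have ha1 : σ a ∈ S.U ⊓ S.H := Subgroup.mem_inf.2
      ⟨((hUt a).1 ha).1, by rw [eq_inv_of_mul_eq_one_left hz]; exact inv_mem (hHσ b hb)⟩
    rw [S.UH, Subgroup.mem_bot] at ha1
    rw [ha1, one_mul] at hz
    rw [hUinj a ha ha1, one_mul]
    exact hb
  choose f hf using fun z : σ.ker => hT (z : Γ) z.2
  refine ⟨fun z k => σ ((f z k : C k) : Γ), fun z z' h => ?_, fun z => ⟨fun k => ⟨hEσ k _ (f z k).2.1, (f z k).2.2⟩, ?_⟩⟩
  · have hff : f z = f z' := funext fun k =>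
      Subtype.ext (hEinj k _ (f z k).2.1 _ (f z' k).2.1 (congrFun h k))
    exact Subtype.ext (by rw [← hf z, ← hf z', hff])
  · have h1 : σ (φ (f z)) = 1 := by rw [hf z]; exact z.2
    rw [hprod, map_list_prod, List.map_map] at h1
    exact h1

/-- **The lifting theorem.** -/
theorem ker_eq_bot (S : Setup G ι p) (hp : p.Prime) (hσ : Function.Surjective σ)
    (hc : σ.ker ≤ center Γ) (hperf : commutator Γ = ⊤) (hcop : (Nat.card σ.ker).Coprime p)
    (hL : ∀ k, σ.ker ⊓ liftGen σ p (S.L k) = ⊥)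
    (hind : ∀ f : ι → G, (∀ k, f k ∈ S.L k ∧ f k ∈ S.H) →
      ((List.finRange (Fintype.card ι)).map fun i => f ((Fintype.equivFin ι).symm i)).prod = 1 →
      ∀ k, f k = 1) :
    σ.ker = ⊥ := by
  obtain ⟨Φ, hΦi, hΦ⟩ := exists_ker_torus σ S hp hσ hc hperf hcop hL
  rw [Subgroup.eq_bot_iff_forall]
  intro z hz
  have h1 : Φ ⟨z, hz⟩ = Φ 1 := funext fun k => by
    rw [hind _ (hΦ _).1 (hΦ _).2 k, hind _ (hΦ _).1 (hΦ _).2 k]
  exact congrArg Subtype.val (hΦi h1)

end Cfsg.Agent.KnownSimple.BNLift
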