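import Mathlib.FieldTheory.Finite.Extension
import Mathlib.LinearAlgebra.Matrix.GeneralLinearGroup.Card
import Mathlib.LinearAlgebra.Matrix.GeneralLinearGroup.Defs
import Mathlib.RingTheory.Trace.Defs
import Mathlib.RingTheory.IntegralDomain
import Mathlib.GroupTheory.Sylow

/-!
A subgroup of `GL_4(q)` of prime power order dividing a power of an odd prime divisor of `q² + 1` is cyclic
(helper53).
-/

set_option autoImplicit false
set_option linter.style.haveILetI false

namespace Cfsg.Agent.KnownSimple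

universe u

variable {F : Type u} [Field F] [Fintype F]

theorem gl_four_isCyclic {ℓ : ℕ} [hℓ : Fact ℓ.Prime] (hodd : ℓ ≠ 2)
    (hdvd : ℓ ∣ Fintype.card F ^ 2 + 1) (P : Subgroup (GL (Fin 4) F)) (hP : IsPGroup ℓ P) :
    IsCyclic P := by
  classical
  obtain ⟨p, hc, k, hp, hF⟩ := FiniteField.card' F
  haveI := hc
  haveI : Fact p.Prime := ⟨hp⟩
  let L := FiniteField.Extension F p 4
  have hfr : Module.finrank F L = 4 := FiniteField.finrank_extension F p 4
  haveI : Finite L := Nat.finite_of_card_ne_zero (by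
    rw [FiniteField.natCard_extension]
    exact pow_ne_zero 4 Nat.card_pos.ne')
  let b := Module.finBasisOfFinrankEq F L hfr
  let φ : Lˣ →* GL (Fin 4) F :=
    Units.map ((Algebra.leftMulMatrix b : L →ₐ[F] Matrix (Fin 4) (Fin 4) F) : L →* _)
  have hφ : Function.Injective φ := fun x y h =>
    Units.ext (Algebra.leftMulMatrix_injective b (congrArg Units.val h))
  set q := Fintype.card F with hq
  have hcardL : Nat.card φ.range = q ^ 4 - 1 := by
    rw [← Nat.card_congr (MonoidHom.ofInjective hφ).toEquiv, Nat.card_units,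
      FiniteField.natCard_extension, Nat.card_eq_fintype_card]
  haveI : IsCyclic φ.range := isCyclic_of_surjective (MonoidHom.rangeRestrict φ) φ.rangeRestrict_surjective
  have hq1 : 1 < q := Fintype.one_lt_card
  have hodd' : ∀ n ∈ ([1, 2, 3] : List ℕ), ¬ ℓ ∣ q ^ n - 1 := by
    intro n hn hd
    have hz : ((q : ℤ)) ^ n ≡ 1 [ZMOD ℓ] := by
      rw [Int.modEq_comm, Int.modEq_iff_dvd]
      have := Int.natCast_dvd_natCast.2 hd
      rwa [Nat.cast_sub (Nat.one_le_pow _ _ (by omega)), Nat.cast_pow, Nat.cast_one] at this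
    have h2 : (q : ℤ) ^ 2 ≡ -1 [ZMOD ℓ] := by
      rw [Int.modEq_comm, Int.modEq_iff_dvd]
      have := Int.natCast_dvd_natCast.2 hdvd
      push_cast at this
      simpa using this
    have two : ¬ ((1 : ℤ) ≡ -1 [ZMOD ℓ]) := by
      intro h
      rw [Int.modEq_comm, Int.modEq_iff_dvd] at h
      have : ℓ ∣ 2 := Int.natCast_dvd_natCast.1 (by simpa using h)
      exact hodd ((Nat.prime_dvd_prime_iff_eq hℓ.out Nat.prime_two).1 this)
    simp only [List.mem_cons, List.not_mem_nil, or_false] at hn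
    rcases hn with rfl | rfl | rfl
    · rw [pow_one] at hz
      exact two (((hz.pow 2).trans (by rw [one_pow])).symm.trans h2)
    · exact two (hz.symm.trans h2)
    · have h1 : (q : ℤ) ^ 3 ≡ -(q : ℤ) [ZMOD ℓ] := by
        have := h2.mul_right (q : ℤ)
        rwa [← pow_succ, neg_one_mul] at this
      have h3 : -(q : ℤ) ≡ 1 [ZMOD ℓ] := h1.symm.trans hz
      have h4 : (q : ℤ) ^ 2 ≡ 1 [ZMOD ℓ] := by simpa using h3.pow 2
      exact two (h4.symm.trans h2)
  have hℓq : ¬ ℓ ∣ q := fun h => hℓ.out.not_dvd_one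
    ((Nat.dvd_add_right (h.trans (dvd_pow_self q two_ne_zero))).1 hdvd)
  have hidx : ¬ ℓ ∣ φ.range.index := by
    have h := φ.range.card_mul_index
    rw [hcardL, Matrix.card_GL_field, Fin.prod_univ_four, ← hq] at h
    have e : (q ^ 4 - q ^ ((0 : Fin 4) : ℕ)) * (q ^ 4 - q ^ ((1 : Fin 4) : ℕ)) * (q ^ 4 - q ^ ((2 : Fin 4) : ℕ)) *
        (q ^ 4 - q ^ ((3 : Fin 4) : ℕ)) = (q ^ 4 - 1) * (q ^ 6 * ((q ^ 3 - 1) * ((q ^ 2 - 1) * (q ^ 1 - 1)))) := by
      show (q ^ 4 - q ^ 0) * (q ^ 4 - q ^ 1) * (q ^ 4 - q ^ 2) * (q ^ 4 - q ^ 3) = _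
      have a : ∀ i j, q ^ (i + j) - q ^ i = q ^ i * (q ^ j - 1) := fun i j => by
        rw [Nat.mul_sub, mul_one, ← pow_add]
      rw [pow_zero, show q ^ 4 - q ^ 1 = q ^ 1 * (q ^ 3 - 1) from a 1 3,
        show q ^ 4 - q ^ 2 = q ^ 2 * (q ^ 2 - 1) from a 2 2, show q ^ 4 - q ^ 3 = q ^ 3 * (q ^ 1 - 1) from a 3 1]
      ring
    rw [e] at h
    have h4 : 0 < q ^ 4 - 1 := by
      have : 1 < q ^ 4 := Nat.one_lt_pow (by norm_num) hq1
      omega
    rw [Nat.eq_of_mul_eq_mul_left h4 h]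
    intro hd
    rcases hℓ.out.dvd_mul.1 hd with hd | hd
    · exact hℓq (hℓ.out.dvd_of_dvd_pow hd)
    rcases hℓ.out.dvd_mul.1 hd with hd | hd
    · exact hodd' 3 (by simp) hd
    rcases hℓ.out.dvd_mul.1 hd with hd | hd
    · exact hodd' 2 (by simp) hd
    · exact hodd' 1 (by simp) hd
  let Q : Sylow ℓ φ.range := default
  let Q' : Subgroup (GL (Fin 4) F) := (Q : Subgroup φ.range).map φ.range.subtype
  have hQ' : ¬ ℓ ∣ Q'.index := by
    rw [Subgroup.index_map_subtype]
    intro hd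
    rcases hℓ.out.dvd_mul.1 hd with hd | hd
    · exact Q.not_dvd_index hd
    · exact hidx hd
  have hQp : IsPGroup ℓ Q' := Q.isPGroup'.map _
  let S : Sylow ℓ (GL (Fin 4) F) := hQp.toSylow hQ'
  haveI : IsCyclic (Q : Subgroup φ.range) := Subgroup.isCyclic _
  haveI : IsCyclic Q' := isCyclic_of_surjective
    ((Q : Subgroup φ.range).equivMapOfInjective _ φ.range.subtype_injective).toMonoidHom
    (MulEquiv.surjective _)
  obtain ⟨T, hT⟩ := hP.exists_le_sylow
  haveI : IsCyclic (T : Subgroup (GL (Fin 4) F)) :=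
    (Sylow.equiv S T).isCyclic.1 (show IsCyclic (S : Subgroup (GL (Fin 4) F)) from ‹IsCyclic Q'›)
  exact isCyclic_of_injective (Subgroup.inclusion hT) (Subgroup.inclusion_injective hT)

end Cfsg.Agent.KnownSimple
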