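import Cfsg.Agent.Twisted.Count
import Cfsg.Agent.Twisted.Commuting

/-!
Levels of the unipotent subgroup of a twisted group: groups generated by the root groups of an ideal of
positive roots, and their factors (helper53).
-/

set_option autoImplicit false

namespace Cfsg.Agent.Twisted

open ChevGroup ChevIsogeny Cfsg.Lie
open scoped commutatorElement

variable {D : ChevalleyDatum} (T : Model D)

/-- the commutator of the root groups of `r` and `s` lies in the root groups of `L` -/
def intoB (P : IsoData) (r s : Fin T.tab.n) (L : List (Fin T.tab.n)) : Bool :=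
  decide (r = s) || (decide (s.val ≠ r.val) && decide (s.val ≠ D.neg r.val) &&
    (D.commTerms r.val s.val).all fun c => decide (P.red c.2.1 = 0) || L.any fun u => decide (u.val = c.1))

/-- every tail absorbs the commutators with its head -/
def closedB (P : IsoData) : List (Fin T.tab.n) → Bool
  | [] => true
  | r :: L => (L.all fun s => intoB T P r s L) && closedB P L

/-- the checks on a level: `L'` is the next term -/
def levelB (P : IsoData) (L L' : List (Fin T.tab.n)) : Bool :=
  decide (L.Sublist T.posList) && decide (L'.Sublist L) && closedB T P L && closedB T P L' &&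
    (T.posList.all fun r => L.all fun s => intoB T P r s L')

variable {T} {F : Type*} [Field F] [Finite F] {K : Rels D F} {κ : ℕ} {P : IsoData} {e : ℕ}
  {A : FrameData T (κ := κ)}

/-- the factor of a level -/
def topOf (L L' : List (Fin T.tab.n)) : List (Fin T.tab.n) := L.filter fun r => decide (r ∉ L')

theorem mem_pl {r : Fin T.tab.n} : r ∈ T.posList ↔ T.S.pos r := by
  simp only [Model.posList, List.mem_filter, List.mem_finRange, true_and, decide_eq_true_eq]
  exact Iff.rfl

namespace Frame

variable (Z : Frame K P e A)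
include Z

theorem conj_mem_of_into {r s : Fin T.tab.n} {L : List (Fin T.tab.n)} (h : intoB T P r s L = true)
    (t u : F) :
    ((T.rel K).x s u)⁻¹ * ((T.rel K).x r t * (T.rel K).x s u * (T.rel K).x r (-t)) ∈
      Sg (T.rel K) (· ∈ L) := by
  simp only [intoB, Bool.or_eq_true, Bool.and_eq_true, decide_eq_true_eq, List.all_eq_true,
    List.any_eq_true] at h
  rcases h with rfl | ⟨⟨h1, h2⟩, h3⟩
  · rw [← (T.rel K).x_add, ← (T.rel K).x_add, show t + u + -t = u by ring, inv_mul_cancel]
    exact one_mem _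
  rw [← IsoHyp.xN_val, ← IsoHyp.xN_val, ← IsoHyp.xN_val,
    IsoHyp.conj_eq Z.iso.comm (T.lt r) (T.lt s) h1 h2, inv_mul_cancel_left]
  refine Subgroup.list_prod_mem _ fun y hy => ?_
  obtain ⟨c, hc, rfl⟩ := List.mem_map.1 hy
  rcases h3 c hc with hz | ⟨c', hc', hce⟩
  · rw [IsoHyp.val, ← Z.iso.red_cast, hz]
    simp [IsoHyp.xN_zero]
  · rw [IsoHyp.val, ← hce, IsoHyp.xN_val]
    exact x_mem_Sg _ hc' _

theorem commutator_mem_of_into {r s : Fin T.tab.n} {L : List (Fin T.tab.n)}
    (h : intoB T P r s L = true) (t u : F) :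
    ((T.rel K).x r t)⁻¹ * ((T.rel K).x s u)⁻¹ * (T.rel K).x r t * (T.rel K).x s u ∈
      Sg (T.rel K) (· ∈ L) := by
  have h1 := Z.conj_mem_of_into h (-t) u
  rw [neg_neg, (T.rel K).x_neg] at h1
  have h2 := inv_mem h1
  simpa [mul_assoc] using h2

/-- root groups normalise the next term -/
theorem conj_level {L L' : List (Fin T.tab.n)} (hL : levelB T P L L' = true) {r : Fin T.tab.n}
    (hr : T.S.pos r) (t : F) {g : ↥(D.group F)} (hg : g ∈ Sg (T.rel K) (· ∈ L')) :
    (T.rel K).x r t * g * ((T.rel K).x r t)⁻¹ ∈ Sg (T.rel K) (· ∈ L') := by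
  simp only [levelB, Bool.and_eq_true, decide_eq_true_eq, List.all_eq_true] at hL
  induction hg using Subgroup.closure_induction with
  | mem y hy =>
    obtain ⟨s, u, hs, rfl⟩ := hy
    have h := Z.conj_mem_of_into (hL.2 r (mem_pl.2 hr) s (hL.1.1.1.2.subset hs)) t u
    have h' := mul_mem (x_mem_Sg (T.rel K) (T := (· ∈ L')) hs u) h
    rwa [mul_inv_cancel_left, (T.rel K).x_neg] at h'
  | one => simp
  | mul a b _ _ ha hb => simpa [mul_assoc] using mul_mem ha hb
  | inv a _ ha => simpa [mul_assoc] using inv_mem ha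

theorem conj_level_U {L L' : List (Fin T.tab.n)} (hL : levelB T P L L' = true) {u g : ↥(D.group F)}
    (hu : u ∈ (T.rel K).U) (hg : g ∈ Sg (T.rel K) (· ∈ L')) :
    u * g * u⁻¹ ∈ Sg (T.rel K) (· ∈ L') := by
  induction hu using Subgroup.closure_induction'' generalizing g with
  | mem y hy => obtain ⟨r, t, hr, rfl⟩ := hy; exact Z.conj_level hL hr t hg
  | inv_mem y hy =>
    obtain ⟨r, t, hr, rfl⟩ := hy
    rw [← (T.rel K).x_neg]
    exact Z.conj_level hL hr _ hg
  | one => simpa using hg
  | mul a b _ _ ha hb => simpa [mul_assoc] using ha (hb hg)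

theorem Sg_le_U {L : List (Fin T.tab.n)} (hL : L.Sublist T.posList) :
    Sg (T.rel K) (· ∈ L) ≤ (T.rel K).U :=
  Sg_mono _ fun _ hr => mem_pl.1 (hL.subset hr)

/-- the level is central modulo the next term -/
theorem level_central {L L' : List (Fin T.tab.n)} (hL : levelB T P L L' = true) {u g : ↥(D.group F)}
    (hu : u ∈ (T.rel K).U) (hg : g ∈ Sg (T.rel K) (· ∈ L)) :
    ⁅g, u⁆ ∈ Sg (T.rel K) (· ∈ L') := by
  have hL' := hL
  simp only [levelB, Bool.and_eq_true, decide_eq_true_eq, List.all_eq_true] at hL'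
  have hgen : ∀ s ∈ L, ∀ v : F, ∀ u ∈ (T.rel K).U, ⁅(T.rel K).x s v, u⁆ ∈ Sg (T.rel K) (· ∈ L') := by
    intro s hs v u hu
    induction hu using Subgroup.closure_induction'' with
    | mem y hy =>
      obtain ⟨r, t, hr, rfl⟩ := hy
      have h := inv_mem (Z.commutator_mem_of_into (hL'.2 r (mem_pl.2 hr) s hs) (-t) (-v))
      simpa [(T.rel K).x_neg, commutatorElement_def, mul_assoc] using h
    | inv_mem y hy =>
      obtain ⟨r, t, hr, rfl⟩ := hy
      rw [← (T.rel K).x_neg r t]
      have h := inv_mem (Z.commutator_mem_of_into (hL'.2 r (mem_pl.2 hr) s hs) t (-v))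
      simpa [(T.rel K).x_neg, commutatorElement_def, mul_assoc] using h
    | one => simp
    | mul a b ha _ iha ihb =>
      have h2 := Z.conj_level_U hL ha ihb
      have := mul_mem iha h2
      simpa [commutatorElement_def, mul_assoc] using this
  induction hg using Subgroup.closure_induction'' with
  | mem y hy => obtain ⟨s, v, hs, rfl⟩ := hy; exact hgen s hs v u hu
  | inv_mem y hy =>
    obtain ⟨s, v, hs, rfl⟩ := hy
    rw [← (T.rel K).x_neg s v]
    exact hgen s hs _ u hu
  | one => simp
  | mul a b ha _ iha ihb =>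
    have hau : a ∈ (T.rel K).U := Z.Sg_le_U hL'.1.1.1.1 ha
    have := mul_mem (Z.conj_level_U hL hau ihb) iha
    simpa [commutatorElement_def, mul_assoc] using this

theorem exists_prodX_closed {L : List (Fin T.tab.n)} (hL : closedB T P L = true) (hnd : L.Nodup)
    {g : ↥(D.group F)} (hg : g ∈ Sg (T.rel K) (· ∈ L)) : ∃ v, g = prodX T K L v := by
  classical
  induction L generalizing g with
  | nil =>
    refine ⟨0, ?_⟩
    induction hg using Subgroup.closure_induction with
    | mem y hy => obtain ⟨r, t, hr, rfl⟩ := hy; simp at hr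
    | one => simp [prodX]
    | mul a b _ _ ha hb => rw [ha, hb]; simp [prodX]
    | inv a _ ha => rw [ha]; simp [prodX]
  | cons r L ih =>
    simp only [closedB, Bool.and_eq_true, List.all_eq_true] at hL
    rw [List.nodup_cons] at hnd
    have hn : ∀ t : F, ∀ y ∈ Sg (T.rel K) (· ∈ L),
        (T.rel K).x r t * y * ((T.rel K).x r t)⁻¹ ∈ Sg (T.rel K) (· ∈ L) := by
      intro t y hy
      induction hy using Subgroup.closure_induction with
      | mem y hy =>
        obtain ⟨s, u, hs, rfl⟩ := hy
        have h := mul_mem (x_mem_Sg (T.rel K) (T := (· ∈ L)) hs u) (Z.conj_mem_of_into (hL.1 s hs) t u)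
        rwa [mul_inv_cancel_left, (T.rel K).x_neg] at h
      | one => simp
      | mul a b _ _ ha hb => simpa [mul_assoc] using mul_mem ha hb
      | inv a _ ha => simpa [mul_assoc] using inv_mem ha
    have hdec : ∃ t : F, ∃ y ∈ Sg (T.rel K) (· ∈ L), g = (T.rel K).x r t * y := by
      induction hg using Subgroup.closure_induction with
      | mem y hy =>
        obtain ⟨s, u, hs, rfl⟩ := hy
        rcases List.mem_cons.1 hs with rfl | hs
        · exact ⟨u, 1, one_mem _, by simp⟩
        · exact ⟨0, _, x_mem_Sg _ hs u, by simp [(T.rel K).x_zero]⟩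
      | one => exact ⟨0, 1, one_mem _, by simp [(T.rel K).x_zero]⟩
      | mul a b _ _ ha hb =>
        obtain ⟨t, y, hy, rfl⟩ := ha
        obtain ⟨t', y', hy', rfl⟩ := hb
        refine ⟨t + t', ((T.rel K).x r (-t') * y * ((T.rel K).x r (-t'))⁻¹) * y',
          mul_mem (hn _ _ hy) hy', ?_⟩
        rw [(T.rel K).x_add, (T.rel K).x_neg]
        group
      | inv a _ ha =>
        obtain ⟨t, y, hy, rfl⟩ := ha
        refine ⟨-t, (T.rel K).x r t * y⁻¹ * ((T.rel K).x r t)⁻¹, hn _ _ (inv_mem hy), ?_⟩
        rw [(T.rel K).x_neg]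
        group
    obtain ⟨t, y, hy, rfl⟩ := hdec
    obtain ⟨v, rfl⟩ := ih hL.2 hnd.2 hy
    refine ⟨Function.update v r t, ?_⟩
    simp only [prodX, List.map_cons, List.prod_cons, Function.update_self]
    congr 1
    refine congrArg List.prod (List.map_congr_left fun s hs => ?_)
    rw [Function.update_of_ne fun e => hnd.1 (by rwa [e] at hs)]

theorem level_split {L L' : List (Fin T.tab.n)} (hL : levelB T P L L' = true) {M : List (Fin T.tab.n)}
    (hM : M ⊆ L) (v : Fin T.tab.n → F) :
    (prodX T K (topOf M L') v)⁻¹ * prodX T K M v ∈ Sg (T.rel K) (· ∈ L') := by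
  have hL' := hL
  simp only [levelB, Bool.and_eq_true, decide_eq_true_eq, List.all_eq_true] at hL'
  induction M with
  | nil => simp [prodX, topOf]
  | cons r M ih =>
    have hM' := List.cons_subset.1 hM
    have h := ih hM'.2
    by_cases hr : r ∈ L'
    · have e : topOf (r :: M) L' = topOf M L' := by simp [topOf, hr]
      rw [e]
      have hx : prodX T K (r :: M) v = (T.rel K).x r (v r) * prodX T K M v := by simp [prodX]
      rw [hx]
      have hP : (prodX T K (topOf M L') v)⁻¹ ∈ (T.rel K).U := inv_mem <|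
        Z.Sg_le_U hL'.1.1.1.1 (Subgroup.list_prod_mem _ fun y hy => by
          obtain ⟨s, hs, rfl⟩ := List.mem_map.1 hy
          exact x_mem_Sg _ (T := (· ∈ L)) (hM'.2 (List.mem_of_mem_filter hs)) _)
      have := mul_mem (Z.conj_level_U hL hP (x_mem_Sg (T.rel K) (T := (· ∈ L')) hr (v r))) h
      simpa [mul_assoc] using this
    · have e : topOf (r :: M) L' = r :: topOf M L' := by simp [topOf, hr]
      rw [e]
      simpa [prodX, mul_assoc] using h

theorem level_lead {L L' : List (Fin T.tab.n)} (hL : levelB T P L L' = true)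
    {v : Fin T.tab.n → F} (h : prodX T K (topOf L L') v ∈ Sg (T.rel K) (· ∈ L')) :
    ∀ r ∈ topOf L L', v r = 0 := by
  classical
  simp only [levelB, Bool.and_eq_true, decide_eq_true_eq, List.all_eq_true] at hL
  obtain ⟨⟨⟨⟨hsub, hsub'⟩, -⟩, hcl'⟩, -⟩ := hL
  have hnd : L.Nodup := hsub.nodup Z.posList_nodup
  obtain ⟨u, hu⟩ : ∃ u, prodX T K (topOf L L') v = prodX T K L u ∧ ∀ r ∈ topOf L L', u r = 0 := by
    obtain ⟨w, hw⟩ := Z.exists_prodX_closed hcl' (hsub'.nodup hnd) h
    refine ⟨fun r => if r ∈ L' then w r else 0, by rw [prodX_pad hsub' hnd]; exact hw, fun r hr => ?_⟩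
    simp only [topOf, List.mem_filter, decide_eq_true_eq] at hr
    simp [hr.2]
  have hp := prodX_pad (T := T) (K := K) (List.filter_sublist (l := L) (p := fun r => decide (r ∉ L'))) hnd v
  intro r hr
  have h1 := Z.prodX_inj hsub (hp.trans hu.1) r ((List.mem_filter.1 hr).1)
  rw [hu.2 r hr, if_pos (show r ∈ L.filter _ from hr)] at h1
  exact h1

end Frame

end Cfsg.Agent.Twisted
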