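import Cfsg.Agent.KnownSimple.Multiplier.RankOne

/-!
The lifting setup of a twisted group (helper53).
-/

set_option autoImplicit false
set_option linter.unusedSectionVars false

namespace Cfsg.Agent.Twisted

open ChevGroup Cfsg.Agent.KnownSimple

universe v w

variable {Φ I : Type*} {G : Type v} [Group G] {F : Type w} [Field F] {S : RootIdx Φ I}
  {R : RootRel G F S} {G₁ : Subgroup G} {K : Type} [Fintype K] [DecidableEq K]

namespace Data

variable (D : Data R G₁ K) {ι : Type*} [Fintype ι] [DecidableEq ι] (M : Shape R ι) {W0 : List K}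

include M in
/-- The setup. -/
noncomputable def liftSetup (p : ℕ) (h0 : D.Longest W0) (hS : D.Split)
    (hT : ∀ r t, S.pos r → M.Pres S.pos (R.x r t))
    (hHc : ∀ a ∈ R.H, ∀ b ∈ R.H, a * b = b * a)
    (hU : ∀ u ∈ D.U1, ∃ a : ℕ, u ^ p ^ a = 1)
    (L : K → Subgroup G)
    (hlev : ∀ k, ∃ (E : Type w) (_ : Field E) (ψ : Matrix.SpecialLinearGroup (Fin 2) E →* G),
      D.IsLevi k ψ ∧ L k = ψ.range ∧ (p : E) = 0)
    (hHgen : ∀ h ∈ D.H1, h ∈ ⨆ k, L k ⊓ D.H1)
    (Mc : CoxeterMatrix K) (θ : Mc.Group →* Equiv.Perm Φ) (hθinj : Function.Injective θ)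
    (hθ : ∀ k r, θ (Mc.simple k) r = S.actw (D.wd k) r)
    (hbraid : ∀ i j, i ≠ j → Mc i j ≠ 0 → ∃ (P : List K) (s t : K),
      (P ++ [s] ++ P.reverse ++ [t] = (List.replicate (Mc i j) [i, j]).flatten ∨
        P ++ [s] ++ P.reverse ++ [t] = (List.replicate (Mc i j) [j, i]).flatten) ∧
      (∀ r ∈ D.cls s, S.actw (D.aw P) r ∈ D.cls t) ∧
      ∀ r, S.actw (D.aw P) (S.actw (D.wd s) (S.actw (D.aw P).reverse (S.actw (D.wd t) r))) = r) :
    BNLift.Setup ↥G₁ K p where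
  U := R.U.subgroupOf G₁
  H := R.H.subgroupOf G₁
  U_p u hu := by
    obtain ⟨a, ha⟩ := hU u (Subgroup.mem_inf.2 ⟨u.2, hu⟩)
    exact ⟨a, Subtype.ext ha⟩
  H_comm a ha b hb := Subtype.ext (by
    show (a : G) * b = b * a
    exact hHc _ ha _ hb)
  H_norm h hh u hu := H_conj_Sg R hh hu
  UH := (Subgroup.eq_bot_iff_forall _).2 fun g hg =>
    Subtype.ext (M.U_inter_H hg.1 hg.2)
  X k := (D.X k).subgroupOf G₁
  Uc k := {g | (g : G) ∈ D.Uo k}
  X_le k a ha := D.Uk_le_U k ha.2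
  decomp k u hu := by
    obtain ⟨a, ha, c, hc, e, hae, -⟩ :=
      D.fixed_decomp M k (show (u : G)⁻¹ ∈ R.U from inv_mem hu) (D.fixed _ (inv_mem u.2))
    have haX := D.X_mem ha hae
    have hc1 : c ∈ G₁ := by
      have := mul_mem (inv_mem (Subgroup.mem_inf.1 haX).1) (inv_mem u.2)
      rwa [e, inv_mul_cancel_left] at this
    refine ⟨⟨c⁻¹, inv_mem hc1⟩, inv_mem hc, D.Uo_le_U k (inv_mem hc), ⟨a⁻¹, inv_mem (Subgroup.mem_inf.1 haX).1⟩,
      inv_mem haX, Subtype.ext ?_⟩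
    show (u : G) = c⁻¹ * a⁻¹
    rw [← _root_.mul_inv_rev, ← e, inv_inv]
  n k := ⟨D.nJ k, D.nJ_mem k⟩
  n_Uc k v hv _ := (D.nJ_conj_U1Uo k hv v.2).2
  n_H k h hh := (D.nJ_conj_H1 k (Subgroup.mem_inf.2 ⟨h.2, hh⟩)).2
  n_sq k := (D.nJ_sq_mem k (hS.invol k)).2
  L k := (L k).subgroupOf G₁
  n_L k := by
    obtain ⟨E, _, ψ, h, e, -⟩ := hlev k
    show D.nJ k ∈ L k
    rw [e]; exact h.nJ_mem_range
  X_L k a ha := by
    obtain ⟨E, _, ψ, h, e, -⟩ := hlev k
    show (a : G) ∈ L k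
    rw [e]; exact h.X_le_range ha
  L_gen k := by
    obtain ⟨E, _, ψ, h, e, hp⟩ := hlev k
    rw [e]; exact h.range_gen hp
  H_L k a ha g hg := by
    obtain ⟨E, _, ψ, h, e, -⟩ := hlev k
    show (a : G) * g * (a : G)⁻¹ ∈ L k
    rw [Subgroup.mem_subgroupOf, e] at hg
    rw [e]; exact h.range_conj (Subgroup.mem_inf.2 ⟨a.2, ha⟩) hg
  rank k a ha ha1 := by
    obtain ⟨E, _, ψ, h, e, -⟩ := hlev k
    obtain ⟨x, hx, x', hx', t, ht, htL, e'⟩ := h.rank ha fun h1 => ha1 (Subtype.ext h1)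
    refine ⟨⟨x, hx.1⟩, hx, ⟨x', hx'.1⟩, hx', ⟨t, ht.1⟩, ht.2, ?_, Subtype.ext e'⟩
    show t ∈ L k
    rw [e]; exact htL
  H_gen := by
    intro a ha
    have h1 := hHgen a (Subgroup.mem_inf.2 ⟨a.2, ha⟩)
    have h2 : (⨆ k, L k ⊓ D.H1) ≤
        (⨆ k, (L k).subgroupOf G₁ ⊓ R.H.subgroupOf G₁).map G₁.subtype := by
      refine iSup_le fun k g hg => ?_
      exact ⟨⟨g, hg.2.1⟩, le_iSup (fun k => (L k).subgroupOf G₁ ⊓ R.H.subgroupOf G₁) k
        ⟨hg.1, hg.2.2⟩, rfl⟩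
    obtain ⟨y, hy, e⟩ := h2 h1
    rwa [show y = a from Subtype.ext e] at hy
  gen := by
    rw [eq_top_iff]
    intro g _
    have h1 : (g : G) ∈ D.par1 (Finset.univ.toList) := by
      rw [D.par1_eq_top hS fun k => by simp]
      exact g.2
    suffices h2 : D.par1 (Finset.univ.toList) ≤
        (Subgroup.closure (((R.U.subgroupOf G₁ : Subgroup ↥G₁) : Set ↥G₁) ∪
          (R.H.subgroupOf G₁ : Subgroup ↥G₁) ∪
          Set.range fun k => (⟨D.nJ k, D.nJ_mem k⟩ : ↥G₁))).map G₁.subtype by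
      obtain ⟨y, hy, e⟩ := h2 h1
      rwa [show y = g from Subtype.ext e] at hy
    refine sup_le (fun b hb => ?_) ((Subgroup.closure_le _).2 ?_)
    · obtain ⟨u, hu, t, ht, rfl⟩ := D.exists_U1_H1 M h0 hb
      exact mul_mem ⟨⟨u, hu.1⟩, Subgroup.subset_closure (Or.inl (Or.inl hu.2)), rfl⟩
        ⟨⟨t, ht.1⟩, Subgroup.subset_closure (Or.inl (Or.inr ht.2)), rfl⟩
    · rintro _ ⟨k, -, rfl⟩
      exact ⟨_, Subgroup.subset_closure (Or.inr ⟨k, rfl⟩), rfl⟩
  dich k W := by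
    have key : ∀ V : List K, D.Back k V → ∀ a ∈ (D.X k).subgroupOf G₁,
        ((V.map fun k => (⟨D.nJ k, D.nJ_mem k⟩ : ↥G₁)).prod)⁻¹ * a *
          (V.map fun k => (⟨D.nJ k, D.nJ_mem k⟩ : ↥G₁)).prod ∈ R.U.subgroupOf G₁ := by
      intro V hV a ha
      have e : (((V.map fun k => (⟨D.nJ k, D.nJ_mem k⟩ : ↥G₁)).prod : ↥G₁) : G) = D.nW V := by
        rw [SubmonoidClass.coe_list_prod, List.map_map]; rfl
      rw [Subgroup.mem_subgroupOf, Subgroup.coe_mul, Subgroup.coe_mul, Subgroup.coe_inv, e]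
      exact (D.X_conj_mem_U1 hV ha).2
    rcases hS.dich k W with h | h
    · exact Or.inl (key W h)
    · exact Or.inr (key (k :: W) (D.back_cons h))
  M := Mc
  word W hW := by
    have e : (((W.map fun k => (⟨D.nJ k, D.nJ_mem k⟩ : ↥G₁)).prod : ↥G₁) : G) = D.nW W := by
      rw [SubmonoidClass.coe_list_prod, List.map_map]; rfl
    have hB : D.nW W ∈ R.B := by
      have hle : R.U.subgroupOf G₁ ⊔ R.H.subgroupOf G₁ ≤ R.B.subgroupOf G₁ :=
        sup_le (fun x hx => R.U_le_B hx) (fun x hx => R.H_le_B hx)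
      rw [← e]; exact hle hW
    have hH := D.B1_inf_N1 M hT hB ((D.nW_coset W).mem_mono)
    have hperm : ∀ r, S.actw (D.aw W) r = r := by
      intro r
      have h1 : InCoset R (D.nW W) [] := ⟨D.nW W, hH, by simp⟩
      simpa using D.perm_eq_of_coset (D.nW_coset W) h1 r
    refine hθinj (Equiv.ext fun r => ?_)
    rw [map_one, Equiv.Perm.one_apply, map_list_prod, List.map_map]
    refine Eq.trans ?_ (hperm r)
    clear hH hperm hB e hW
    induction W with
    | nil => simp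
    | cons k W ih =>
      rw [List.map_cons, List.prod_cons, Equiv.Perm.mul_apply, ih, Function.comp_apply, hθ, D.aw_cons,
        S.actw_append]
  braid i j hij hne := by
    obtain ⟨P, s, t, hl, hcls, hperm⟩ := hbraid i j hij hne
    refine ⟨P, s, t, hl, ?_, ?_⟩
    · intro g hg
      obtain ⟨E, _, ψ, h, e, -⟩ := hlev s
      obtain ⟨E', _, ψ', h', e', -⟩ := hlev t
      have ePn : (((P.map fun k => (⟨D.nJ k, D.nJ_mem k⟩ : ↥G₁)).prod : ↥G₁) : G) = D.nW P := by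
        rw [SubmonoidClass.coe_list_prod, List.map_map]; rfl
      rw [Subgroup.mem_subgroupOf, Subgroup.coe_mul, Subgroup.coe_mul, Subgroup.coe_inv, ePn, e']
      rw [Subgroup.mem_subgroupOf, e] at hg
      obtain ⟨y, hy⟩ := hg
      rw [← hy]
      clear hy
      induction ChevCore.sl_generated y using Subgroup.closure_induction with
      | mem y hy =>
        have hP := D.nW_mem P
        rcases hy with ⟨c, rfl⟩ | ⟨c, rfl⟩
        · refine h'.X_le_range (Subgroup.mem_inf.2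
            ⟨mul_mem (mul_mem hP (h.upper_mem c).1) (inv_mem hP), ?_⟩)
          exact (D.nW_coset P).conj_Sg R hcls (h.upper_mem c).2
        · refine h'.mem_range_of_Vk (mul_mem (mul_mem hP (h.lower_mem c).1) (inv_mem hP)) ?_
          refine (D.nW_coset P).conj_Sg R (fun r hr => ?_) (h.lower_mem c).2
          show S.neg (S.actw (D.aw P) r) ∈ D.cls t
          rw [← S.actw_neg]
          exact hcls _ hr
      | one => simp
      | mul a b _ _ ha hb => simpa [map_mul, mul_assoc] using mul_mem ha hb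
      | inv a _ ha => simpa [mul_assoc] using inv_mem ha
    · rw [Subgroup.mem_subgroupOf]
      simp only [Subgroup.coe_mul, Subgroup.coe_inv]
      have ePn : (((P.map fun k => (⟨D.nJ k, D.nJ_mem k⟩ : ↥G₁)).prod : ↥G₁) : G) = D.nW P := by
        rw [SubmonoidClass.coe_list_prod, List.map_map]; rfl
      rw [ePn]
      obtain ⟨a, ha, ea⟩ := (((D.nW_coset P).mul R (D.nJ_coset s)).mul R ((D.nW_coset P).inv R)).mul R
        (D.nJ_coset t)
      rw [ea]
      refine mul_mem ha (nw_mem_H_of_pos R (fun r hr => ?_) D.x_ne D.x_sep)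
      rw [S.actw_append, S.actw_append, S.actw_append, hperm r]
      exact hr

end Data

end Cfsg.Agent.Twisted
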