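import Mathlib.Algebra.Field.Basic
import Mathlib.Data.Fintype.Card
import Mathlib.GroupTheory.Commutator.Basic
import Mathlib.GroupTheory.Subgroup.Center
import Cfsg.Agent.KnownSimple.Multiplier.Sylow

/-!
Vanishing of invariant pairings, and lifts of commuting elements that commute (helper53).
-/

set_option autoImplicit false

namespace Cfsg.Agent.KnownSimple.Pairing

open Subgroup
open scoped commutatorElement

universe u v w

variable {F : Type w} [Field F] {A : Type u} [AddCommGroup A] {V W : AddSubgroup F}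

/-- A pairing invariant under a scalar fixing one side and moving the other is zero. -/
theorem zero_of_right (B : V →+ W →+ A) {c : F} (hc : c ≠ 1) (hcW : ∀ w ∈ W, c * w ∈ W)
    (hc' : ∀ w ∈ W, (c - 1)⁻¹ * w ∈ W)
    (h : ∀ v w, B v ⟨c * w.1, hcW _ w.2⟩ = B v w) (v : V) (w : W) : B v w = 0 := by
  set w' : W := ⟨(c - 1)⁻¹ * w.1, hc' _ w.2⟩ with hw'
  have hne : c - 1 ≠ 0 := sub_ne_zero.2 hc
  have e : w = ⟨c * w'.1, hcW _ w'.2⟩ - w' := by
    refine Subtype.ext ?_
    rw [AddSubgroup.coe_sub, hw']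
    show w.1 = c * ((c - 1)⁻¹ * w.1) - (c - 1)⁻¹ * w.1
    rw [← mul_assoc, ← sub_mul, ← sub_one_mul, mul_inv_cancel₀ hne, one_mul]
  rw [e, map_sub, h, sub_self]

/-- A pairing of a field with itself invariant under all scalars is zero. -/
theorem zero_of_scalars [Finite F] (h5 : 5 ≤ Nat.card F) (B : F →+ F →+ A)
    (h : ∀ c : F, c ≠ 0 → ∀ v w, B (c * v) (c * w) = B v w) (v w : F) : B v w = 0 := by
  classical
  have : Fintype F := Fintype.ofFinite F
  rw [Nat.card_eq_fintype_card] at h5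
  let L : F → A := fun t => B (t * v) w + B v (t * w)
  have hL : ∀ t, t ≠ 0 → t + 1 ≠ 0 → L t + B v w = 0 := by
    intro t h0 h1
    have e := h (t + 1) h1 v w
    simp only [add_one_mul, map_add, AddMonoidHom.add_apply, h t h0 v w] at e
    have : B (t * v) w + (B v (t * w) + B v w) + B v w = 0 + B v w := by
      rw [zero_add]
      calc _ = B v w + B v (t * w) + (B (t * v) w + B v w) := by abel
        _ = _ := e
    rw [← add_assoc] at this
    exact add_right_cancel this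
  have hex : ∀ s : Finset F, s.card < 5 → ∃ t, t ∉ s := fun s hs => by
    by_contra hne
    push Not at hne
    have : Fintype.card F ≤ s.card :=
      Finset.card_le_card (s := Finset.univ) fun x _ => hne x
    omega
  obtain ⟨t₁, ht₁⟩ := hex {0, -1} ((Finset.card_le_two).trans_lt (by norm_num))
  obtain ⟨t₂, ht₂⟩ := hex {0, -1, -t₁, -t₁ - 1} ((Finset.card_le_four).trans_lt (by norm_num))
  simp only [Finset.mem_insert, Finset.mem_singleton, not_or] at ht₁ ht₂
  have e1 := hL t₁ ht₁.1 fun e => ht₁.2 (eq_neg_of_add_eq_zero_left e)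
  have e2 := hL t₂ ht₂.1 fun e => ht₂.2.1 (eq_neg_of_add_eq_zero_left e)
  have e3 := hL (t₁ + t₂) (fun e => ht₂.2.2.1 (eq_neg_of_add_eq_zero_right e))
    fun e => ht₂.2.2.2 (by linear_combination e)
  have hadd : L (t₁ + t₂) = L t₁ + L t₂ := by
    simp only [L, add_mul, map_add, AddMonoidHom.add_apply]
    abel
  rw [hadd] at e3
  calc B v w = L t₁ + B v w + (L t₂ + B v w) - (L t₁ + L t₂ + B v w) := by abel
    _ = 0 := by rw [e1, e2, e3]; abel

variable {Γ : Type u} [Group Γ] {G : Type v} [Group G] {σ : Γ →* G}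

/-- Lifts commute when one of the elements is a commutator of elements centralised by the other. -/
theorem comm_of_commutator (hσ : Function.Surjective σ) (hc : σ.ker ≤ center Γ) {a b : Γ} {x y : G}
    (ha : σ a = ⁅x, y⁆) (hx : Commute (σ b) x) (hy : Commute (σ b) y) : ⁅a, b⁆ = 1 := by
  obtain ⟨x', rfl⟩ := hσ x
  obtain ⟨y', rfl⟩ := hσ y
  have hcen : ∀ u : Γ, Commute (σ b) (σ u) → ∃ z ∈ center Γ, b * u * b⁻¹ = u * z := by
    intro u hu
    refine ⟨u⁻¹ * (b * u * b⁻¹), hc ?_, by group⟩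
    rw [MonoidHom.mem_ker, map_mul, map_mul, map_mul, map_inv, map_inv, hu.eq, mul_inv_cancel_right,
      inv_mul_cancel]
  obtain ⟨z, hz, ez⟩ := hcen x' hx
  obtain ⟨z', hz', ez'⟩ := hcen y' hy
  have h1 : b * ⁅x', y'⁆ * b⁻¹ = ⁅x', y'⁆ := by
    rw [show b * ⁅x', y'⁆ * b⁻¹ = ⁅b * x' * b⁻¹, b * y' * b⁻¹⁆ by
      simp only [commutatorElement_def]; group, ez, ez',
      Cfsg.Agent.Schur.commutatorElement_mul_central hz hz']
  have hw : ⁅x', y'⁆⁻¹ * a ∈ center Γ := hc (by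
    rw [MonoidHom.mem_ker, map_mul, map_inv, map_commutatorElement, ha, inv_mul_cancel])
  rw [commutatorElement_eq_one_iff_mul_comm]
  have h2 : b * ⁅x', y'⁆ = ⁅x', y'⁆ * b := mul_inv_eq_iff_eq_mul.1 h1
  calc a * b = ⁅x', y'⁆ * ((⁅x', y'⁆⁻¹ * a) * b) := by group
    _ = ⁅x', y'⁆ * (b * (⁅x', y'⁆⁻¹ * a)) := by rw [Subgroup.mem_center_iff.1 hw b]
    _ = b * ⁅x', y'⁆ * (⁅x', y'⁆⁻¹ * a) := by rw [h2, mul_assoc]
    _ = b * a := by group

/-- The property passes to conjugates. -/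
theorem comm_of_conj (hσ : Function.Surjective σ) {P : G → Prop}
    (hP : ∀ a b : Γ, P (σ a) → P (σ b) → ⁅a, b⁆ = 1) (g : G) {a b : Γ}
    (ha : P (g⁻¹ * σ a * g)) (hb : P (g⁻¹ * σ b * g)) : ⁅a, b⁆ = 1 := by
  obtain ⟨t, rfl⟩ := hσ g
  have h := hP (t⁻¹ * a * t) (t⁻¹ * b * t) (by simpa using ha) (by simpa using hb)
  rw [show ⁅t⁻¹ * a * t, t⁻¹ * b * t⁆ = t⁻¹ * ⁅a, b⁆ * t by
    simp only [commutatorElement_def]; group] at h
  calc ⁅a, b⁆ = t * (t⁻¹ * ⁅a, b⁆ * t) * t⁻¹ := by group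
    _ = 1 := by rw [h]; group

end Cfsg.Agent.KnownSimple.Pairing
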