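import Cfsg.Agent.KnownSimple.Multiplier.BNLift

/-!
The lifts of the `p`-elements of a subgroup meet a kernel of order prime to `p` trivially, from the
local criterion for the subgroup (helper53).
-/

set_option autoImplicit false

namespace Cfsg.Agent.KnownSimple.BNLift

open Subgroup
open scoped commutatorElement

universe u v w

theorem ker_inf_liftGen {Γ : Type u} [Group Γ] [Finite Γ] {G : Type v} [Group G] (σ : Γ →* G)
    (hσ : Function.Surjective σ) (hc : σ.ker ≤ center Γ) {p : ℕ} (hp : p.Prime)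
    (hcop : (Nat.card σ.ker).Coprime p) {Q : Type w} [Group Q] [Finite Q] (φ : Q →* G)
    (hinj : Function.Injective φ) (L : Subgroup G) (hL : φ.range = L)
    (hloc : ∀ ℓ : ℕ, ℓ.Prime → ℓ ≠ p → ∀ (Δ : Type (max u w)) [Group Δ] [Finite Δ] (τ : Δ →* Q),
      Function.Surjective τ → τ.ker ≤ center Δ →
      ∃ S : Subgroup Q, ¬ ℓ ∣ S.index ∧ τ.ker ⊓ ⁅S.comap τ, S.comap τ⁆ = ⊥) :
    σ.ker ⊓ liftGen σ p L = ⊥ := by
  classical
  rw [Subgroup.eq_bot_iff_forall]
  intro z hz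
  obtain ⟨hzk, hzE⟩ := Subgroup.mem_inf.1 hz
  set E := liftGen σ p L with hE
  -- `z` lies in the derived subgroup
  have hab : ∀ y ∈ E, ∃ a : ℕ, y ^ p ^ a ∈ ⁅E, E⁆ := by
    let π := Abelianization.of (G := E)
    have key : ∀ y : E, ∃ a : ℕ, π y ^ p ^ a = 1 := by
      rintro ⟨y, hy⟩
      induction hy using Subgroup.closure_induction with
      | mem y hy =>
        obtain ⟨a, ha⟩ := hy.2
        refine ⟨a, ?_⟩
        rw [← map_pow, show (⟨y, Subgroup.subset_closure hy⟩ : E) ^ p ^ a = 1 from Subtype.ext ha,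
          map_one]
      | one => exact ⟨0, by rw [show (⟨1, _⟩ : E) = 1 from rfl, map_one, one_pow]⟩
      | mul a b ha' hb' ha hb =>
        obtain ⟨i, hi⟩ := ha
        obtain ⟨j, hj⟩ := hb
        refine ⟨i + j, ?_⟩
        rw [show (⟨a * b, _⟩ : E) = ⟨a, ha'⟩ * ⟨b, hb'⟩ from rfl, map_mul, mul_pow, pow_add,
          pow_mul, hi, one_pow, mul_comm (p ^ i), pow_mul, hj, one_pow, mul_one]
      | inv a ha' ha =>
        obtain ⟨i, hi⟩ := ha
        exact ⟨i, by rw [show (⟨a⁻¹, _⟩ : E) = (⟨a, ha'⟩)⁻¹ from rfl, map_inv, inv_pow, hi, inv_one]⟩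
    intro y hy
    obtain ⟨a, ha⟩ := key ⟨y, hy⟩
    refine ⟨a, ?_⟩
    rw [← map_pow] at ha
    have hmem : (⟨y, hy⟩ : E) ^ p ^ a ∈ commutator E := (QuotientGroup.eq_one_iff _).1 ha
    have := Subgroup.mem_map_of_mem E.subtype hmem
    rwa [Subgroup.map_subtype_commutator] at this
  obtain ⟨a, ha⟩ := hab z hzE
  obtain ⟨m, hm⟩ : ∃ m : ℕ, (z ^ p ^ a) ^ m = z := by
    have hco : (p ^ a).Coprime (orderOf z) := by
      refine (Nat.Coprime.coprime_dvd_right ?_ (hcop.symm.pow_left a))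
      rw [← Subgroup.orderOf_mk z hzk]
      exact orderOf_dvd_natCard _
    exact exists_pow_eq_self_of_coprime hco
  have hzd : z ∈ ⁅E, E⁆ := hm ▸ pow_mem ha m
  by_contra hz1
  obtain ⟨ℓ, hℓ, hdvd⟩ := Nat.exists_prime_and_dvd (fun e => hz1 (orderOf_eq_one_iff.1 e))
  set w := z ^ (orderOf z / ℓ) with hwdef
  have hord : orderOf w = ℓ := orderOf_pow_orderOf_div (orderOf_pos z).ne' hdvd
  have hwk : w ∈ σ.ker := pow_mem hzk _
  have hwd : w ∈ ⁅E, E⁆ := pow_mem hzd _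
  have hℓp : ℓ ≠ p := by
    intro e
    have h1 : ℓ ∣ Nat.card σ.ker := by
      rw [← hord, ← Subgroup.orderOf_mk w hwk]
      exact orderOf_dvd_natCard _
    exact hℓ.ne_one (Nat.eq_one_of_dvd_coprimes hcop h1 (e ▸ dvd_rfl))
  -- the pullback
  let Δ : Subgroup (Γ × Q) :=
    { carrier := {d | σ d.1 = φ d.2}
      one_mem' := by simp
      mul_mem' := fun {a b} ha hb => by
        show σ (a.1 * b.1) = φ (a.2 * b.2)
        rw [map_mul, map_mul, show σ a.1 = φ a.2 from ha, show σ b.1 = φ b.2 from hb]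
      inv_mem' := fun {a} ha => by
        show σ a.1⁻¹ = φ a.2⁻¹
        rw [map_inv, map_inv, show σ a.1 = φ a.2 from ha] }
  let τ : Δ →* Q := (MonoidHom.snd Γ Q).comp Δ.subtype
  let f : Δ →* Γ := (MonoidHom.fst Γ Q).comp Δ.subtype
  have hτ : Function.Surjective τ := fun x => by
    obtain ⟨y, hy⟩ := hσ (φ x)
    exact ⟨⟨(y, x), hy⟩, rfl⟩
  have hτc : τ.ker ≤ center Δ := by
    intro d hd
    have hd2 : (d : Γ × Q).2 = 1 := hd
    have hd1 : (d : Γ × Q).1 ∈ center Γ := hc (by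
      rw [MonoidHom.mem_ker, show σ (d : Γ × Q).1 = φ (d : Γ × Q).2 from d.2, hd2, map_one])
    refine Subgroup.mem_center_iff.2 fun g => Subtype.ext (Prod.ext ?_ ?_)
    · exact Subgroup.mem_center_iff.1 hd1 _
    · show (g : Γ × Q).2 * (d : Γ × Q).2 = (d : Γ × Q).2 * (g : Γ × Q).2
      rw [hd2, one_mul, mul_one]
  have hEf : E ≤ f.range := by
    rw [hE, liftGen, Subgroup.closure_le]
    rintro y ⟨hy, -⟩
    rw [← hL] at hy
    obtain ⟨x, hx⟩ := hy
    exact ⟨⟨(y, x), hx.symm⟩, rfl⟩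
  obtain ⟨d, hd, hdw⟩ : w ∈ (commutator Δ).map f := by
    rw [_root_.commutator_def, Subgroup.map_commutator, ← MonoidHom.range_eq_map]
    exact Subgroup.commutator_mono hEf hEf hwd
  have hdτ : d ∈ τ.ker := by
    refine hinj ?_
    rw [map_one]
    have : σ (f d) = φ (τ d) := d.2
    rw [hdw, show σ w = 1 from hwk] at this
    exact this.symm
  obtain ⟨S, hS, hSH⟩ := hloc ℓ hℓ hℓp Δ τ hτ hτc
  have hmem := Cfsg.Agent.Schur.pow_index_mem_commutator (S.comap τ) (hτc hdτ) hd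
  rw [Subgroup.map_subtype_commutator, Subgroup.index_comap_of_surjective S hτ] at hmem
  have : d ^ S.index ∈ τ.ker ⊓ ⁅S.comap τ, S.comap τ⁆ := ⟨pow_mem hdτ _, hmem⟩
  rw [hSH, Subgroup.mem_bot] at this
  have h2 : w ^ S.index = 1 := by rw [← hdw, ← map_pow, this, map_one]
  exact hS (hord ▸ orderOf_dvd_of_pow_eq_one h2)

end Cfsg.Agent.KnownSimple.BNLift
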