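import Cfsg.Agent.KnownSimple.Multiplier.Sylow
import Mathlib.Algebra.Field.Basic

/-!
A central extension of a unipotent group with a torus action splits when no two of the factors of a
central series admit an invariant pairing (helper53).
-/

set_option autoImplicit false

namespace Cfsg.Agent.KnownSimple.Series

open Subgroup
open scoped commutatorElement

universe u v w z

/-- A central series with one-parameter factors scaled by a torus. -/
structure Data (G : Type v) [Group G] (F : Type w) [Field F] (S : Type z) (U : Subgroup G) (n : ℕ) where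
  h : S → G
  h_comm : ∀ s t, Commute (h s) (h t)
  h_norm : ∀ s, ∀ u ∈ U, h s * u * (h s)⁻¹ ∈ U
  Fl : ℕ → Subgroup G
  Fl_zero : Fl 0 = ⊥
  Fl_mono : ∀ i, Fl i ≤ Fl (i + 1)
  Fl_le : ∀ i, Fl i ≤ U
  top : U ≤ Fl n
  V : Fin n → AddSubgroup F
  e : Fin n → F → G
  χ : Fin n → S → F
  mem : ∀ i : Fin n, ∀ v ∈ V i, e i v ∈ Fl (i + 1)
  dec : ∀ i : Fin n, ∀ g ∈ Fl (i + 1), ∃ v ∈ V i, (e i v)⁻¹ * g ∈ Fl i
  add : ∀ i : Fin n, ∀ v ∈ V i, ∀ w ∈ V i, (e i (v + w))⁻¹ * (e i v * e i w) ∈ Fl i
  inj : ∀ i : Fin n, ∀ v ∈ V i, e i v ∈ Fl i → v = 0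
  central : ∀ i : Fin n, ∀ g ∈ Fl (i + 1), ∀ u ∈ U, ⁅g, u⁆ ∈ Fl i
  χ_mem : ∀ i s, ∀ v ∈ V i, χ i s * v ∈ V i
  scale : ∀ i : Fin n, ∀ s, ∀ v ∈ V i, (e i (χ i s * v))⁻¹ * (h s * e i v * (h s)⁻¹) ∈ Fl i
  moves : ∀ i, ∃ s, χ i s ≠ 1

/-- The condition on a pair of factors. -/
def Good {Γ : Type u} [Group Γ] {G : Type v} [Group G] {F : Type w} [Field F] {S : Type z}
    {U : Subgroup G} {n : ℕ} (D : Data G F S U n) (σ : Γ →* G) (i j : Fin n) : Prop :=
  (∀ (A : Type u) [AddCommGroup A] (B : D.V i →+ D.V j →+ A),
      (∀ s v w, B ⟨D.χ i s * v.1, D.χ_mem i s _ v.2⟩ ⟨D.χ j s * w.1, D.χ_mem j s _ w.2⟩ = B v w) →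
      (∀ (e : i = j) (v : D.V i), B v (e ▸ v) = 0) → ∀ v w, B v w = 0) ∨
  (∀ a b : Γ, ∀ v ∈ D.V i, ∀ w ∈ D.V j, σ a = D.e i v → σ b = D.e j w → ⁅a, b⁆ = 1)

variable {Γ : Type u} [Group Γ] [Finite Γ] {G : Type v} [Group G] {F : Type w} [Field F] [Finite F]
  {S : Type z} {U : Subgroup G} {n : ℕ} (D : Data G F S U n)

include D in
theorem h_Fl (i : ℕ) (hi : i ≤ n) (s : S) : ∀ g ∈ D.Fl i, D.h s * g * (D.h s)⁻¹ ∈ D.Fl i := by
  induction i with
  | zero => intro g hg; rw [D.Fl_zero, Subgroup.mem_bot] at hg ⊢; simp [hg]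
  | succ i ih =>
    intro g hg
    obtain ⟨v, hv, hr⟩ := D.dec ⟨i, hi⟩ g hg
    have h1 := D.Fl_mono i (D.scale ⟨i, hi⟩ s v hv)
    have h2 := D.Fl_mono i (ih (by omega) _ hr)
    have h3 := mul_mem (D.mem ⟨i, hi⟩ _ (D.χ_mem _ s v hv)) (mul_mem h1 h2)
    refine (Eq.mp ?_ h3 :)
    congr 1
    group

theorem ker_inf_commutator (σ : Γ →* G) (hσ : Function.Surjective σ) (hc : σ.ker ≤ center Γ)
    (hgood : ∀ i j : Fin n, i ≤ j → Good D σ i j) :
    σ.ker ⊓ ⁅U.comap σ, U.comap σ⁆ = ⊥ := by
  classical
  set P := U.comap σ with hP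
  have hker : σ.ker ≤ center Γ := hc
  have main : ∀ i, i ≤ n → ∃ C : Subgroup Γ, (∀ c ∈ C, σ c ∈ D.Fl i) ∧
      (∀ g ∈ D.Fl i, ∃ c ∈ C, σ c = g) ∧ (∀ c ∈ C, σ c = 1 → c = 1) ∧
      (∀ y ∈ P, ∀ c ∈ C, y * c * y⁻¹ ∈ C) ∧
      (∀ s t, σ t = D.h s → ∀ c ∈ C, t * c * t⁻¹ ∈ C) := by
    intro i
    induction i with
    | zero =>
      intro _
      refine ⟨⊥, fun c hc => ?_, fun g hg => ?_, fun c hc _ => ?_, fun y _ c hc => ?_,
        fun s t _ c hc => ?_⟩ <;> simp_all [D.Fl_zero]
    | succ i ih =>
      intro hi
      obtain ⟨C, hCσ, hCs, hCi, hCP, hCh⟩ := ih (by omega)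
      let k : Fin n := ⟨i, hi⟩
      have hCle : C ≤ P := fun c hc => D.Fl_le i (hCσ c hc)
      let N : Subgroup P := C.subgroupOf P
      haveI : N.Normal := ⟨fun c hc y => by
        rw [Subgroup.mem_subgroupOf] at hc ⊢; exact hCP _ y.2 _ hc⟩
      let π : P →* P ⧸ N := QuotientGroup.mk' N
      have hπ1 : ∀ y : P, π y = 1 ↔ (y : Γ) ∈ C := fun y => by
        show (y : P ⧸ N) = 1 ↔ _
        rw [QuotientGroup.eq_one_iff, Subgroup.mem_subgroupOf]
      -- preimages of `Fl i` are central in the quotient
      have hcen : ∀ a : P, σ (a : Γ) ∈ D.Fl i → π a ∈ center (P ⧸ N) := by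
        intro a ha
        obtain ⟨c, hcC, hc'⟩ := hCs _ ha
        have hz : c⁻¹ * (a : Γ) ∈ center Γ := hc (by
          rw [MonoidHom.mem_ker, map_mul, map_inv, hc', inv_mul_cancel])
        refine Subgroup.mem_center_iff.2 fun x => ?_
        obtain ⟨y, rfl⟩ := QuotientGroup.mk'_surjective N x
        have e : π a = π ⟨c⁻¹ * (a : Γ), mul_mem (inv_mem (hCle hcC)) a.2⟩ := by
          conv_lhs => rw [show a = ⟨c, hCle hcC⟩ * ⟨c⁻¹ * (a : Γ), mul_mem (inv_mem (hCle hcC)) a.2⟩ from
            Subtype.ext (mul_inv_cancel_left c _).symm, map_mul, (hπ1 ⟨c, hCle hcC⟩).2 hcC, one_mul]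
          
        rw [e, ← map_mul, ← map_mul]
        exact congrArg π (Subtype.ext (Subgroup.mem_center_iff.1 hz y))
      have hcomm : ∀ a b : P, σ (a : Γ) ∈ D.Fl (i + 1) → ⁅π a, π b⁆ ∈ center (P ⧸ N) := by
        intro a b ha
        rw [← map_commutatorElement]
        refine hcen _ ?_
        have := D.central k _ ha _ b.2
        rw [← map_commutatorElement] at this
        exact this
      have hPmem : ∀ (j : ℕ) (a : Γ), σ a ∈ D.Fl j → a ∈ P := fun j a ha => D.Fl_le j ha
      choose ℓ hℓ using fun (j : Fin n) (v : D.V j) => hσ (D.e j v)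
      let L : ∀ j : Fin n, D.V j → P := fun j v => ⟨ℓ j v, hPmem (j + 1) _ (by
        rw [hℓ]; exact D.mem j v v.2)⟩
      have hLσ : ∀ j v, σ (L j v : Γ) = D.e j v := hℓ
      -- the top factor is central
      have hzero : ∀ (v : D.V k) (b : P), ⁅π (L k v), π b⁆ = 1 := by
        intro v b
        have key : ∀ j, j ≤ n → ∀ b : P, σ (b : Γ) ∈ D.Fl j → ∀ v : D.V k, ⁅π (L k v), π b⁆ = 1 := by
          intro j
          induction j with
          | zero =>
            intro _ b hb v
            rw [commutatorElement_eq_one_iff_mul_comm]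
            exact Subgroup.mem_center_iff.1 (hcen b (by
              rw [D.Fl_zero, Subgroup.mem_bot] at hb; rw [hb]; exact one_mem _)) _
          | succ j ihj =>
            intro hj b hb v
            rw [commutatorElement_eq_one_iff_mul_comm]
            by_cases hji : j < i
            · refine Subgroup.mem_center_iff.1 (hcen b ?_) _
              exact monotone_nat_of_le_succ D.Fl_mono (show j + 1 ≤ i by omega) hb
            let l : Fin n := ⟨j, hj⟩
            obtain ⟨w, hw, hwb⟩ := D.dec l _ hb
            have h1 := ihj (by omega) ((L l ⟨w, hw⟩)⁻¹ * b) (by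
              rw [Subgroup.coe_mul, Subgroup.coe_inv, map_mul, map_inv, hLσ]; exact hwb) v
            rw [commutatorElement_eq_one_iff_mul_comm] at h1
            suffices h2 : Commute (π (L k v)) (π (L l ⟨w, hw⟩)) by
              have h3 := h2.mul_right (show Commute (π (L k v)) _ from h1)
              rwa [← map_mul, mul_inv_cancel_left] at h3
            rcases hgood k l (by show i ≤ j; omega) with hg | hg
            · let A : Type u := Additive (center (P ⧸ N))
              let _ : CommGroup (center (P ⧸ N)) :=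
                { mul_comm := fun a b => Subtype.ext (Subgroup.mem_center_iff.1 b.2 a) }
              let _ : AddCommGroup A := inferInstanceAs (AddCommGroup (Additive (center (P ⧸ N))))
              let f : D.V k → D.V l → A := fun x y =>
                Additive.ofMul ⟨⁅π (L k x), π (L l y)⁆, hcomm _ _ (by rw [hLσ]; exact D.mem k x x.2)⟩
              have hf : ∀ x y, ((Additive.toMul (f x y) : center (P ⧸ N)) : P ⧸ N) =
                ⁅π (L k x), π (L l y)⁆ := fun _ _ => rfl
              have hinjf : ∀ a b : A, ((Additive.toMul a : center (P ⧸ N)) : P ⧸ N) =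
                  ((Additive.toMul b : center (P ⧸ N)) : P ⧸ N) → a = b := fun a b h =>
                Additive.toMul.injective (Subtype.ext h)
              have haddk : ∀ x x' : D.V k, ∃ z ∈ center (P ⧸ N),
                  π (L k (x + x')) = π (L k x) * π (L k x') * z := fun x x' =>
                ⟨π ((L k x * L k x')⁻¹ * L k (x + x')), hcen _ (by
                  simp only [Subgroup.coe_mul, Subgroup.coe_inv, map_mul, map_inv, hLσ]
                  rw [← inv_mem_iff, _root_.mul_inv_rev, inv_inv]
                  exact D.add k x x.2 x' x'.2), by rw [← map_mul, ← map_mul, mul_inv_cancel_left]⟩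
              have hl1 : ∀ x x' y, f (x + x') y = f x y + f x' y := by
                intro x x' y
                refine hinjf _ _ ?_
                show _ = ((Additive.toMul (f x y) * Additive.toMul (f x' y) : center (P ⧸ N)) : P ⧸ N)
                rw [Subgroup.coe_mul, hf, hf, hf]
                obtain ⟨z, hz, e⟩ := haddk x x'
                have hzc := Subgroup.mem_center_iff.1 hz (π (L l y))
                have hbc := Subgroup.mem_center_iff.1 (hcomm (L k x') (L l y) (by
                  rw [hLσ]; exact D.mem k x' x'.2)) (π (L k x))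
                rw [e, commutatorElement_def]
                rw [show π (L k x) * π (L k x') * z * π (L l y) * (π (L k x) * π (L k x') * z)⁻¹ *
                  (π (L l y))⁻¹ = π (L k x) * π (L k x') * (z * π (L l y) * z⁻¹) * (π (L k x'))⁻¹ *
                  (π (L k x))⁻¹ * (π (L l y))⁻¹ by group]
                rw [show z * π (L l y) * z⁻¹ = π (L l y) by rw [← hzc, mul_inv_cancel_right]]
                have hbc' := Subgroup.mem_center_iff.1 (hcomm (L k x') (L l y) (by
                  rw [hLσ]; exact D.mem k x' x'.2)) ⁅π (L k x), π (L l y)⁆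
                rw [hbc', show π (L k x) * π (L k x') * π (L l y) * (π (L k x'))⁻¹ * (π (L k x))⁻¹ *
                  (π (L l y))⁻¹ = π (L k x) * ⁅π (L k x'), π (L l y)⁆ *
                  ((π (L k x))⁻¹ * ⁅π (L k x), π (L l y)⁆) by
                    simp only [commutatorElement_def]; group]
                rw [hbc]
                group
              let B : D.V k →+ D.V l →+ A :=
                AddMonoidHom.mk' (fun x => AddMonoidHom.mk' (f x) fun y y' => by
                  refine hinjf _ _ ?_
                  show _ = ((Additive.toMul (f x y) * Additive.toMul (f x y') : center (P ⧸ N)) : P ⧸ N)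
                  rw [Subgroup.coe_mul, hf, hf, hf]
                  -- the second argument is additive modulo the earlier terms
                  have hz := ihj (by omega) ((L l y * L l y')⁻¹ * L l (y + y')) (by
                    simp only [Subgroup.coe_mul, Subgroup.coe_inv, map_mul, map_inv, hLσ]
                    rw [← inv_mem_iff, _root_.mul_inv_rev, inv_inv]
                    exact D.add l y y.2 y' y'.2) x
                  rw [commutatorElement_eq_one_iff_mul_comm, map_mul, map_inv, map_mul] at hz
                  set a := π (L k x)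
                  set p := π (L l y)
                  set p' := π (L l y')
                  set r := π (L l (y + y'))
                  have hbc : p * ⁅a, p'⁆ = ⁅a, p'⁆ * p :=
                    Subgroup.mem_center_iff.1 (hcomm (L k x) (L l y') (by
                      rw [hLσ]; exact D.mem k x x.2)) p
                  have hr : r = p * p' * ((p * p')⁻¹ * r) := by group
                  have hz' : a * ((p * p')⁻¹ * r) * a⁻¹ = (p * p')⁻¹ * r := by
                    rw [hz, mul_inv_cancel_right]
                  calc ⁅a, r⁆ = a * (p * p') * a⁻¹ * (a * ((p * p')⁻¹ * r) * a⁻¹) * r⁻¹ := by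
                        simp only [commutatorElement_def]; group
                    _ = ⁅a, p⁆ * (p * ⁅a, p'⁆) * p⁻¹ := by
                        rw [hz']; simp only [commutatorElement_def]; group
                    _ = ⁅a, p⁆ * ⁅a, p'⁆ := by rw [hbc]; group)
                  fun x x' => AddMonoidHom.ext fun y => hl1 x x' y
              have hB : ∀ x y, B x y = f x y := fun _ _ => rfl
              have hinv : ∀ s x y, B ⟨D.χ k s * x.1, D.χ_mem k s _ x.2⟩
                  ⟨D.χ l s * y.1, D.χ_mem l s _ y.2⟩ = B x y := by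
                intro s x y
                refine hinjf _ _ ?_
                rw [hB, hB, hf, hf]
                obtain ⟨t, ht⟩ := hσ (D.h s)
                have hct : ∀ y : P, t * (y : Γ) * t⁻¹ ∈ P := fun y => by
                  show σ _ ∈ U
                  rw [map_mul, map_mul, map_inv, ht]
                  exact D.h_norm s _ y.2
                let θ : P → P := fun y => ⟨t * (y : Γ) * t⁻¹, hct y⟩
                have hfix : π (θ ⁅L k x, L l y⁆) = π ⁅L k x, L l y⁆ := by
                  have hσc : σ (⁅L k x, L l y⁆ : P).1 ∈ D.Fl i := by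
                    have := D.central k (σ (L k x : Γ)) (by rw [hLσ]; exact D.mem k x x.2) _ (L l y).2
                    rw [← map_commutatorElement] at this
                    exact this
                  obtain ⟨c, hcC, hc'⟩ := hCs _ hσc
                  set g := (⁅L k x, L l y⁆ : P) with hg
                  have hz : c⁻¹ * (g : Γ) ∈ center Γ := hc (by
                    rw [MonoidHom.mem_ker, map_mul, map_inv, hc', inv_mul_cancel])
                  have e : (g : Γ) = c * (c⁻¹ * g) := by group
                  have h1 : ((θ g : P) : Γ) * (g : Γ)⁻¹ ∈ C := by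
                    show t * (g : Γ) * t⁻¹ * (g : Γ)⁻¹ ∈ C
                    have h2 := mul_mem (hCh s t ht c hcC) (inv_mem hcC)
                    refine (Eq.mp ?_ h2 :)
                    congr 1
                    conv_rhs => rw [e]
                    have hzt := Subgroup.mem_center_iff.1 hz t⁻¹
                    calc t * c * t⁻¹ * c⁻¹ = t * c * t⁻¹ * ((c⁻¹ * g) * (c⁻¹ * g)⁻¹) * c⁻¹ := by group
                      _ = t * c * ((t⁻¹ * (c⁻¹ * g)) * (c⁻¹ * g)⁻¹) * c⁻¹ := by group
                      _ = _ := by rw [hzt]; group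
                  have := (hπ1 (θ g * g⁻¹)).2 h1
                  rwa [map_mul, map_inv, mul_inv_eq_one] at this
                have hθc : θ ⁅L k x, L l y⁆ = ⁅θ (L k x), θ (L l y)⁆ := Subtype.ext (by
                  simp only [θ, commutatorElement_def, Subgroup.coe_mul, Subgroup.coe_inv]; group)
                rw [← map_commutatorElement (f := π) (g₁ := L k x), ← hfix, hθc, map_commutatorElement]
                have hk : π ((L k ⟨_, D.χ_mem k s _ x.2⟩)⁻¹ * θ (L k x)) ∈ center (P ⧸ N) :=
                  hcen _ (by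
                    simp only [θ, Subgroup.coe_mul, Subgroup.coe_inv, map_mul, map_inv, hLσ, ht]
                    exact D.scale k s x x.2)
                have hl := ihj (by omega) ((L l ⟨_, D.χ_mem l s _ y.2⟩)⁻¹ * θ (L l y)) (by
                    simp only [θ, Subgroup.coe_mul, Subgroup.coe_inv, map_mul, map_inv, hLσ, ht]
                    exact D.scale l s y y.2) ⟨_, D.χ_mem k s _ x.2⟩
                rw [commutatorElement_eq_one_iff_mul_comm, map_mul, map_inv] at hl
                rw [map_mul, map_inv] at hk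
                set a := π (L k ⟨_, D.χ_mem k s _ x.2⟩)
                set b := π (L l ⟨_, D.χ_mem l s _ y.2⟩)
                set A' := π (θ (L k x))
                set B' := π (θ (L l y))
                set z := a⁻¹ * A' with hz
                set z' := b⁻¹ * B' with hz'
                have eA : A' = a * z := by rw [hz]; group
                have eB : B' = b * z' := by rw [hz']; group
                have c1 : z * B' = B' * z := (Subgroup.mem_center_iff.1 hk B').symm
                rw [eA, eB] at *
                rw [commutatorElement_def, commutatorElement_def]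
                calc a * b * a⁻¹ * b⁻¹ = a * b * (z' * a⁻¹ * (a * z' * a⁻¹)⁻¹ * a) * a⁻¹ * b⁻¹ := by group
                  _ = a * b * (z' * a⁻¹ * z'⁻¹ * a) * a⁻¹ * b⁻¹ := by
                      rw [show a * z' * a⁻¹ = z' by rw [hl, mul_inv_cancel_right]]
                  _ = a * (b * z') * z * z⁻¹ * a⁻¹ * (b * z')⁻¹ := by group
                  _ = a * z * (b * z') * (a * z)⁻¹ * (b * z')⁻¹ := by
                      rw [mul_assoc a z, c1]; group
              have halt : ∀ (e : k = l) (v : D.V k), B v (e ▸ v) = 0 := by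
                intro e v
                refine hinjf _ _ ?_
                rw [hB, hf]
                have key : ∀ (j : Fin n) (e : k = j), π (L j (e ▸ v)) = π (L k v) := by
                  intro j e; subst e; rfl
                rw [key l e]
                exact commutatorElement_self _
              have := hg A B hinv halt v ⟨w, hw⟩
              rw [← commutatorElement_eq_one_iff_commute, ← hf]
              show ((Additive.toMul (B v ⟨w, hw⟩) : center (P ⧸ N)) : P ⧸ N) = 1
              rw [this]; rfl
            · rw [← commutatorElement_eq_one_iff_commute, ← map_commutatorElement]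
              have := hg (L k v) (L l ⟨w, hw⟩) v v.2 w hw (hLσ _ _) (hLσ _ _)
              refine (hπ1 _).2 ?_
              rw [commutatorElement_def] at this
              simp only [commutatorElement_def, Subgroup.coe_mul, Subgroup.coe_inv, this, one_mem]
        exact key n le_rfl b (D.top b.2) v
      have hMcen : ∀ a : P, σ (a : Γ) ∈ D.Fl (i + 1) → π a ∈ center (P ⧸ N) := by
        intro a ha
        refine Subgroup.mem_center_iff.2 fun x => ?_
        obtain ⟨b, rfl⟩ := QuotientGroup.mk'_surjective N x
        obtain ⟨v, hv, hr⟩ := D.dec k _ ha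
        have h1 := hcen ((L k ⟨v, hv⟩)⁻¹ * a) (by
          rw [Subgroup.coe_mul, Subgroup.coe_inv, map_mul, map_inv, hLσ]; exact hr)
        have h2 : Commute (π b) (π (L k ⟨v, hv⟩)) :=
          (commutatorElement_eq_one_iff_commute.1 (hzero ⟨v, hv⟩ b)).symm
        have h3 := h2.mul_right (show Commute (π b) _ from Subgroup.mem_center_iff.1 h1 (π b))
        rwa [← map_mul, mul_inv_cancel_left] at h3
      have hconjM : ∀ y : P, ∀ a : Γ, σ a ∈ D.Fl (i + 1) → a⁻¹ * ((y : Γ) * a * (y : Γ)⁻¹) ∈ C := by
        intro y a ha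
        have := Subgroup.mem_center_iff.1 (hMcen ⟨a, hPmem _ a ha⟩ ha) (π y)
        have h1 : π ((⟨a, hPmem _ a ha⟩ : P)⁻¹ * (y * ⟨a, hPmem _ a ha⟩ * y⁻¹)) = 1 := by
          rw [map_mul, map_inv, map_mul, map_mul, map_inv, this, mul_inv_cancel_right, inv_mul_cancel]
        exact (hπ1 _).1 h1
      obtain ⟨s₀, hs₀⟩ := D.moves k
      obtain ⟨t, ht⟩ := hσ (D.h s₀)
      have hta : ∀ a : Γ, σ a ∈ D.Fl (i + 1) → σ ⁅t, a⁆ ∈ D.Fl (i + 1) := fun a ha => by
        rw [map_commutatorElement, commutatorElement_def, ht]
        exact mul_mem (h_Fl D (i + 1) hi s₀ _ ha) (inv_mem ha)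
      have hnorm : ∀ a : Γ, σ a ∈ D.Fl (i + 1) → ∀ c ∈ C, a * c * a⁻¹ ∈ C := fun a ha c hc =>
        hCP a (hPmem _ a ha) c hc
      let C' : Subgroup Γ :=
        { carrier := {y | ∃ a, σ a ∈ D.Fl (i + 1) ∧ ∃ c ∈ C, y = ⁅t, a⁆ * c}
          one_mem' := ⟨1, by simp, 1, one_mem _, by simp⟩
          mul_mem' := by
            rintro _ _ ⟨a, ha, c, hc, rfl⟩ ⟨b, hb, c', hc', rfl⟩
            have h1 := hconjM ⟨a, hPmem _ a ha⟩ ⁅t, b⁆ (hta b hb)
            have h2 := hnorm _ (inv_mem (hta b hb) |> fun h => (by rw [map_inv]; exact h :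
              σ ⁅t, b⁆⁻¹ ∈ D.Fl (i + 1))) c hc
            refine ⟨a * b, by rw [map_mul]; exact mul_mem ha hb,
              (⁅t, b⁆⁻¹ * (a * ⁅t, b⁆ * a⁻¹))⁻¹ * (⁅t, b⁆⁻¹ * c * ⁅t, b⁆⁻¹⁻¹) * c',
              mul_mem (mul_mem (inv_mem h1) h2) hc', ?_⟩
            simp only [commutatorElement_def]
            group
          inv_mem' := by
            rintro _ ⟨a, ha, c, hc, rfl⟩
            have h1 := hconjM ⟨a, hPmem _ _ ha⟩ ⁅t, a⁻¹⁆ (hta _ (by rw [map_inv]; exact inv_mem ha))
            have h2 := hnorm _ (hta a ha) c⁻¹ (inv_mem hc)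
            refine ⟨a⁻¹, by rw [map_inv]; exact inv_mem ha,
              (⁅t, a⁻¹⁆⁻¹ * (a * ⁅t, a⁻¹⁆ * a⁻¹)) * (⁅t, a⁆ * c⁻¹ * ⁅t, a⁆⁻¹), mul_mem h1 h2, ?_⟩
            simp only [commutatorElement_def]
            group }
      refine ⟨C', ?_, ?_, ?_, ?_, ?_⟩
      · rintro _ ⟨a, ha, c, hc, rfl⟩
        rw [map_mul]
        exact mul_mem (hta a ha) (D.Fl_mono i (hCσ c hc))
      · intro g hg
        obtain ⟨v, hv, hr⟩ := D.dec k g hg
        -- `v = χ w - w`
        obtain ⟨w, hw, hwv⟩ : ∃ w ∈ D.V k, D.χ k s₀ * w - w = v := by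
          let φ : D.V k → D.V k := fun w =>
            ⟨D.χ k s₀ * w.1 - w.1, sub_mem (D.χ_mem k s₀ _ w.2) w.2⟩
          have hφ : Function.Injective φ := by
            intro x y hxy
            have := congrArg Subtype.val hxy
            simp only [φ] at this
            have h0 : (D.χ k s₀ - 1) * (x.1 - y.1) = 0 := by linear_combination this
            rcases mul_eq_zero.1 h0 with h | h
            · exact absurd (sub_eq_zero.1 h) hs₀
            · exact Subtype.ext (sub_eq_zero.1 h)
          obtain ⟨w, hw⟩ := Finite.injective_iff_surjective.1 hφ ⟨v, hv⟩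
          exact ⟨w.1, w.2, congrArg Subtype.val hw⟩
        obtain ⟨a, ha⟩ := hσ (D.e k w)
        have haM : σ a ∈ D.Fl (i + 1) := ha ▸ D.mem k w hw
        have hrest : (σ ⁅t, a⁆)⁻¹ * g ∈ D.Fl i := by
          have h1 := D.scale k s₀ w hw
          have h2 := D.add k v hv w hw
          rw [show v + w = D.χ k s₀ * w by rw [← hwv]; ring] at h2
          rw [map_commutatorElement, ha, ht, commutatorElement_def]
          have hcen' : ∀ x ∈ D.Fl i, D.e k w * x * (D.e k w)⁻¹ ∈ D.Fl i := by
            intro x hx
            by_cases hi0 : i = 0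
            · subst hi0
              rw [D.Fl_zero, Subgroup.mem_bot] at hx ⊢
              simp [hx]
            have h := D.central ⟨i - 1, by omega⟩ x (by
              show x ∈ D.Fl (i - 1 + 1); rwa [Nat.sub_add_cancel (by omega)])
              _ (D.Fl_le _ (D.mem k w hw))
            have h' := mul_mem (inv_mem (monotone_nat_of_le_succ D.Fl_mono (show i - 1 ≤ i by omega) h)) hx
            rw [commutatorElement_def] at h'
            simpa [mul_assoc] using h'
          have h3 := mul_mem (hcen' _ (mul_mem (inv_mem h1) h2)) hr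
          refine (Eq.mp ?_ h3 :)
          congr 1
          group
        obtain ⟨c, hc, hc'⟩ := hCs _ hrest
        exact ⟨⁅t, a⁆ * c, ⟨a, haM, c, hc, rfl⟩, by rw [map_mul, hc', mul_inv_cancel_left]⟩
      · rintro _ ⟨a, ha, c, hc, rfl⟩ h1
        obtain ⟨v, hv, hr⟩ := D.dec k _ ha
        have h0 : v = 0 := by
          have hscale := D.scale k s₀ v hv
          have hadd := D.add k (D.χ k s₀ * v - v) (sub_mem (D.χ_mem k s₀ v hv) hv) v hv
          rw [sub_add_cancel] at hadd
          have hlow : D.e k (D.χ k s₀ * v - v) ∈ D.Fl i := by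
            rw [map_mul, map_commutatorElement, ht] at h1
            have hhr := h_Fl D i (by omega) s₀ _ hr
            have hc' := hCσ c hc
            have hcen' : ∀ x ∈ D.Fl i, D.e k v * x * (D.e k v)⁻¹ ∈ D.Fl i := by
              intro x hx
              by_cases hi0 : i = 0
              · subst hi0
                rw [D.Fl_zero, Subgroup.mem_bot] at hx ⊢
                simp [hx]
              have h := D.central ⟨i - 1, by omega⟩ x (by
                show x ∈ D.Fl (i - 1 + 1); rwa [Nat.sub_add_cancel (by omega)])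
                _ (D.Fl_le _ (D.mem k v hv))
              have h' := mul_mem (inv_mem (monotone_nat_of_le_succ D.Fl_mono (show i - 1 ≤ i by omega) h)) hx
              rw [commutatorElement_def] at h'
              simpa [mul_assoc] using h'
            -- `h v h⁻¹ · h r h⁻¹ · r⁻¹ · v⁻¹ · c = 1`
            set E := D.e k (D.χ k s₀ * v)
            set ev := D.e k v
            set r := ev⁻¹ * σ a with hrdef
            set p := E⁻¹ * (D.h s₀ * ev * (D.h s₀)⁻¹) with hpdef
            have hE : E * ev⁻¹ * (ev * (p * (D.h s₀ * r * (D.h s₀)⁻¹) * r⁻¹) * ev⁻¹) * σ c = 1 := by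
              rw [← h1, hpdef, hrdef, commutatorElement_def]; group
            have hin : E * ev⁻¹ ∈ D.Fl i := by
              have hm := inv_mem (mul_mem (hcen' _ (mul_mem (mul_mem hscale hhr) (inv_mem hr))) hc')
              rw [mul_assoc] at hE
              rwa [← eq_inv_of_mul_eq_one_left hE] at hm
            set d := D.e k (D.χ k s₀ * v - v)
            set q := E⁻¹ * (d * ev) with hqdef
            have hd : d = (E * ev⁻¹) * (ev * q * ev⁻¹) := by rw [hqdef]; group
            rw [hd]
            exact mul_mem hin (hcen' _ hadd)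
          have := D.inj k _ (sub_mem (D.χ_mem k s₀ v hv) hv) hlow
          have h0 : (D.χ k s₀ - 1) * v = 0 := by linear_combination this
          exact (mul_eq_zero.1 h0).resolve_left fun h => hs₀ (sub_eq_zero.1 h)
        subst h0
        have haF : σ a ∈ D.Fl i := by
          have h00 := D.add k 0 (zero_mem _) 0 (zero_mem _)
          rw [zero_add] at h00
          have he : D.e k 0 ∈ D.Fl i := by simpa [mul_assoc] using h00
          have := mul_mem he hr
          rwa [mul_inv_cancel_left] at this
        obtain ⟨c₀, hc₀, hc₀'⟩ := hCs _ haF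
        have hz : c₀⁻¹ * a ∈ center Γ := hker (by
          rw [MonoidHom.mem_ker, map_mul, map_inv, hc₀', inv_mul_cancel])
        refine hCi _ (mul_mem ?_ hc) h1
        have e : ⁅t, a⁆ = (t * c₀ * t⁻¹) * c₀⁻¹ := by
          have e2 := Cfsg.Agent.Schur.commutatorElement_mul_central (one_mem (center Γ)) hz t c₀
          rw [mul_one, mul_inv_cancel_left] at e2
          rw [e2, commutatorElement_def]
        rw [e]
        exact mul_mem (hCh s₀ t ht c₀ hc₀) (inv_mem hc₀)
      · rintro y hy _ ⟨a, ha, c, hc, rfl⟩
        refine ⟨a, ha, (⁅t, a⁆⁻¹ * (y * ⁅t, a⁆ * y⁻¹)) * (y * c * y⁻¹),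
          mul_mem (hconjM ⟨y, hy⟩ _ (hta a ha)) (hCP y hy c hc), by group⟩
      · rintro s t' ht' _ ⟨a, ha, c, hc, rfl⟩
        have hz : t⁻¹ * (t' * t * t'⁻¹) ∈ center Γ := hker (by
          rw [MonoidHom.mem_ker, map_mul, map_mul, map_mul, map_inv, map_inv, ht, ht',
            (D.h_comm s s₀).eq, mul_inv_cancel_right, inv_mul_cancel])
        refine ⟨t' * a * t'⁻¹, ?_, t' * c * t'⁻¹, hCh s t' ht' c hc, ?_⟩
        · rw [map_mul, map_mul, map_inv, ht']
          exact h_Fl D (i + 1) hi s _ ha
        · have e : ⁅t' * t * t'⁻¹, t' * a * t'⁻¹⁆ = ⁅t, t' * a * t'⁻¹⁆ := by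
            have e2 := Cfsg.Agent.Schur.commutatorElement_mul_central hz (one_mem (center Γ)) t (t' * a * t'⁻¹)
            rw [mul_one, mul_inv_cancel_left] at e2
            exact e2
          rw [← e]
          simp only [commutatorElement_def]
          group
  obtain ⟨C, hCσ, hCs, hCi, hCP, -⟩ := main n le_rfl
  have hle : ⁅P, P⁆ ≤ C := by
    rw [Subgroup.commutator_le]
    intro x hx y hy
    obtain ⟨cx, hcx, ex⟩ := hCs _ (D.top hx)
    obtain ⟨cy, hcy, ey⟩ := hCs _ (D.top hy)
    have hzx : cx⁻¹ * x ∈ center Γ := hc (by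
      rw [MonoidHom.mem_ker, map_mul, map_inv, ex, inv_mul_cancel])
    have hzy : cy⁻¹ * y ∈ center Γ := hc (by
      rw [MonoidHom.mem_ker, map_mul, map_inv, ey, inv_mul_cancel])
    have e := Cfsg.Agent.Schur.commutatorElement_mul_central hzx hzy cx cy
    rw [mul_inv_cancel_left, mul_inv_cancel_left] at e
    rw [e, commutatorElement_def]
    exact mul_mem (mul_mem (mul_mem hcx hcy) (inv_mem hcx)) (inv_mem hcy)
  rw [Subgroup.eq_bot_iff_forall]
  intro z hz
  exact hCi z (hle (Subgroup.mem_inf.1 hz).2) (Subgroup.mem_inf.1 hz).1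

end Cfsg.Agent.KnownSimple.Series
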