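import Cfsg.Agent.KnownSimple.Multiplier.RankLev
import Cfsg.Agent.Twisted.Rank

/-!
The two cells of the rank one subgroup of an orbit and its order (helper53).
-/

set_option autoImplicit false
set_option linter.unusedSectionVars false

namespace Cfsg.Agent.Twisted

open ChevGroup Cfsg.Agent.KnownSimple

universe v w

variable {Φ I : Type*} {G : Type v} [Group G] {F : Type w} [Field F] {S : RootIdx Φ I}
  {R : RootRel G F S} {G₁ : Subgroup G} {K : Type} [Fintype K] [DecidableEq K]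

namespace Data

variable (D : Data R G₁ K) {ι : Type*} [Fintype ι] [DecidableEq ι] (M : Shape R ι)

/-- the torus of the subgroup -/
def LevH (k : K) : Subgroup G := D.Lev k ⊓ D.H1

theorem H1_conj_X {k : K} {a h : G} (ha : a ∈ D.X k) (hh : h ∈ D.H1) : h * a * h⁻¹ ∈ D.X k :=
  Subgroup.mem_inf.2 ⟨mul_mem (mul_mem hh.1 ha.1) (inv_mem hh.1), H_conj_Sg R hh.2 ha.2⟩

theorem LevH_inv_conj {k : K} (hn : D.nJ k ∈ D.Lev k) {t : G} (ht : t ∈ D.LevH k) :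
    (D.nJ k)⁻¹ * t * D.nJ k ∈ D.LevH k :=
  Subgroup.mem_inf.2 ⟨mul_mem (mul_mem (inv_mem hn) ht.1) hn, D.nJ_inv_conj_H1 k ht.2⟩

/-- The two cells. -/
theorem Lev_cells {k : K} (hn : D.nJ k ∈ D.Lev k) (hsq : D.nJ k * D.nJ k ∈ R.H)
    (hrank : ∀ a ∈ D.X k, a ≠ 1 → ∃ x ∈ D.X k, ∃ x' ∈ D.X k, ∃ t : G, t ∈ D.H1 ∧ t ∈ D.Lev k ∧
      D.nJ k * a * (D.nJ k)⁻¹ = x * D.nJ k * x' * t)
    {g : G} (hg : g ∈ D.Lev k) :
    (∃ x ∈ D.X k, ∃ t ∈ D.LevH k, g = x * t) ∨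
      ∃ x ∈ D.X k, ∃ x' ∈ D.X k, ∃ t ∈ D.LevH k, g = x * D.nJ k * x' * t := by
  set n := D.nJ k with hnd
  let P : G → Prop := fun g => (∃ x ∈ D.X k, ∃ t ∈ D.LevH k, g = x * t) ∨
    ∃ x ∈ D.X k, ∃ x' ∈ D.X k, ∃ t ∈ D.LevH k, g = x * n * x' * t
  have hn2 : n * n ∈ D.LevH k :=
    Subgroup.mem_inf.2 ⟨mul_mem hn hn, Subgroup.mem_inf.2 ⟨mul_mem (D.nJ_mem k) (D.nJ_mem k), hsq⟩⟩
  have hX : ∀ g, P g → ∀ a ∈ D.X k, P (g * a) := by
    intro g hg a ha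
    rcases hg with ⟨x, hx, t, ht, rfl⟩ | ⟨x, hx, x', hx', t, ht, rfl⟩
    · exact Or.inl ⟨x * (t * a * t⁻¹), mul_mem hx (D.H1_conj_X ha ht.2), t, ht, by group⟩
    · exact Or.inr ⟨x, hx, x' * (t * a * t⁻¹), mul_mem hx' (D.H1_conj_X ha ht.2), t, ht, by group⟩
  have hT : ∀ g, P g → ∀ s ∈ D.LevH k, P (g * s) := by
    intro g hg s hs
    rcases hg with ⟨x, hx, t, ht, rfl⟩ | ⟨x, hx, x', hx', t, ht, rfl⟩
    · exact Or.inl ⟨x, hx, t * s, mul_mem ht hs, by group⟩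
    · exact Or.inr ⟨x, hx, x', hx', t * s, mul_mem ht hs, by group⟩
  have hN : ∀ g, P g → P (g * n) := by
    intro g hg
    rcases hg with ⟨x, hx, t, ht, rfl⟩ | ⟨x, hx, x', hx', t, ht, rfl⟩
    · exact Or.inr ⟨x, hx, 1, one_mem _, n⁻¹ * t * n, D.LevH_inv_conj hn ht, by group⟩
    · have e : x * n * x' * t * n = x * (n * x' * n⁻¹) * (n * n) * (n⁻¹ * t * n) := by group
      rw [e]
      refine hT _ ?_ _ (D.LevH_inv_conj hn ht)
      rcases eq_or_ne x' 1 with rfl | hne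
      · exact Or.inl ⟨x, hx, n * n, hn2, by group⟩
      · obtain ⟨x₁, hx₁, x₂, hx₂, s, hs, hsL, es⟩ := hrank x' hx' hne
        exact Or.inr ⟨x * x₁, mul_mem hx hx₁, x₂, hx₂, s * (n * n),
          mul_mem (Subgroup.mem_inf.2 ⟨hsL, hs⟩) hn2, by rw [es]; group⟩
  have hle : D.Lev k ≤ Subgroup.closure ((D.X k : Set G) ∪ {n}) := by
    have hnc : n ∈ Subgroup.closure ((D.X k : Set G) ∪ {n}) := Subgroup.subset_closure (Or.inr rfl)
    refine sup_le (fun a ha => Subgroup.subset_closure (Or.inl ha)) fun a ha => ?_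
    have h1 := Subgroup.subset_closure (k := ((D.X k : Set G) ∪ {n})) (Or.inl (D.inv_nJ_conj_Vk ha.1 ha.2))
    have := mul_mem (mul_mem hnc h1) (inv_mem hnc)
    rwa [show n * (n⁻¹ * a * n) * n⁻¹ = a by group] at this
  suffices h : ∀ g ∈ Subgroup.closure ((D.X k : Set G) ∪ {n}), ∀ c, P c → P (c * g) by
    simpa using h g (hle hg) 1 (Or.inl ⟨1, one_mem _, 1, one_mem _, by group⟩)
  intro g hg
  induction hg using Subgroup.closure_induction'' with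
  | mem y hy =>
    rcases hy with hy | rfl
    · exact fun c hc => hX c hc y hy
    · exact hN
  | inv_mem y hy =>
    rcases hy with hy | rfl
    · exact fun c hc => hX c hc _ (inv_mem hy)
    · intro c hc
      rw [show c * n⁻¹ = c * n * (n * n)⁻¹ by group]
      exact hT _ (hN c hc) _ (inv_mem hn2)
  | one => intro c hc; rwa [mul_one]
  | mul a b _ _ ha hb => intro c hc; rw [← mul_assoc]; exact hb _ (ha c hc)

include M in
/-- The order. -/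
theorem card_Lev [Finite G] {k : K} (hne : ∃ z ∈ D.X k, z ≠ 1) (hn : D.nJ k ∈ D.Lev k) (hsq : D.nJ k * D.nJ k ∈ R.H)
    (hrank : ∀ a ∈ D.X k, a ≠ 1 → ∃ x ∈ D.X k, ∃ x' ∈ D.X k, ∃ t : G, t ∈ D.H1 ∧ t ∈ D.Lev k ∧
      D.nJ k * a * (D.nJ k)⁻¹ = x * D.nJ k * x' * t) :
    Nat.card ↥(D.Lev k) =
      Nat.card ↥(D.X k) * (Nat.card ↥(D.X k) + 1) * Nat.card ↥(D.LevH k) := by
  set n := D.nJ k with hnd
  have hU : ∀ {x : G}, x ∈ D.X k → x ∈ R.U := fun hx => D.Uk_le_U k hx.2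
  have hB : ∀ {t : G}, t ∈ D.LevH k → t ∈ R.B := fun ht => R.H_le_B ht.2.2
  have hV : ∀ {x : G}, x ∈ D.X k → n⁻¹ * x * n ∈ V R := by
    intro x hx
    refine (D.nJ_coset k).inv_conj_Sg R (T' := fun r => S.pos (S.neg r)) (fun r hr => ?_) hx.2
    exact D.cls_pos k _ (D.wd_cls k r hr).2
  have key : ∀ {x : G}, x ∈ D.X k → n⁻¹ * x * n ∈ R.B → x = 1 := by
    intro x hx hb
    have := one_of_B_of_V M hb (hV hx)
    calc x = n * (n⁻¹ * x * n) * n⁻¹ := by group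
      _ = 1 := by rw [this]; group
  have huni : ∀ {x y t s : G}, x ∈ D.X k → y ∈ D.X k → t ∈ D.LevH k → s ∈ D.LevH k →
      x * t = y * s → x = y ∧ t = s := by
    intro x y t s hx hy ht hs h
    have e : y⁻¹ * x = s * t⁻¹ := by
      calc y⁻¹ * x = y⁻¹ * (x * t) * t⁻¹ := by group
        _ = s * t⁻¹ := by rw [h]; group
    have h1 := M.U_inter_H (hU (mul_mem (inv_mem hy) hx)) (e ▸ mul_mem hs.2.2 (inv_mem ht.2.2))
    obtain rfl := inv_mul_eq_one.1 h1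
    exact ⟨rfl, mul_left_cancel h⟩
  let f : ↥(D.X k) × ↥(D.LevH k) ⊕ (↥(D.X k) × ↥(D.X k)) × ↥(D.LevH k) → ↥(D.Lev k) := fun p =>
    match p with
    | Sum.inl (x, t) => ⟨x * t, mul_mem (D.X_le_Lev k x.2) t.2.1⟩
    | Sum.inr ((x, x'), t) =>
      ⟨x * n * x' * t, mul_mem (mul_mem (mul_mem (D.X_le_Lev k x.2) hn) (D.X_le_Lev k x'.2)) t.2.1⟩
  have hf : Function.Bijective f := by
    have hnot : ∀ {x x' y t s : G}, x ∈ D.X k → x' ∈ D.X k → y ∈ D.X k → t ∈ D.LevH k → s ∈ D.LevH k →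
        y * s ≠ x * n * x' * t := by
      intro x x' y t s hx hx' hy ht hs h
      -- `n` would lie in `B`
      have hnB : n ∈ R.B := by
        have e : n = x⁻¹ * (y * s) * t⁻¹ * x'⁻¹ := by rw [h]; group
        rw [e]
        exact mul_mem (mul_mem (mul_mem (R.U_le_B (inv_mem (hU hx)))
          (mul_mem (R.U_le_B (hU hy)) (hB hs))) (inv_mem (hB ht))) (R.U_le_B (inv_mem (hU hx')))
      obtain ⟨z, hz, hz1⟩ := hne
      exact hz1 (key hz (mul_mem (mul_mem (inv_mem hnB) (R.U_le_B (hU hz))) hnB))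
    constructor
    · rintro (⟨x, t⟩ | ⟨⟨x, x'⟩, t⟩) (⟨y, s⟩ | ⟨⟨y, y'⟩, s⟩) h <;> have e := congrArg Subtype.val h
      · obtain ⟨e1, e2⟩ := huni x.2 y.2 t.2 s.2 e
        simp [Subtype.ext e1, Subtype.ext e2]
      · exact absurd e (hnot y.2 y'.2 x.2 s.2 t.2)
      · exact absurd e.symm (hnot x.2 x'.2 y.2 t.2 s.2)
      · replace e : (x : G) * n * x' * t = y * n * y' * s := e
        have e' : n⁻¹ * ((y : G)⁻¹ * x) * n = (y' : G) * s * (t : G)⁻¹ * (x' : G)⁻¹ := by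
          calc n⁻¹ * ((y : G)⁻¹ * x) * n = n⁻¹ * (y : G)⁻¹ * (x * n * x' * t) * (t : G)⁻¹ * (x' : G)⁻¹ := by
                group
            _ = _ := by rw [e]; group
        have h1 := key (mul_mem (inv_mem y.2) x.2) (e' ▸ mul_mem (mul_mem (mul_mem (R.U_le_B (hU y'.2))
          (hB s.2)) (inv_mem (hB t.2))) (R.U_le_B (inv_mem (hU x'.2))))
        obtain rfl : y = x := Subtype.ext (inv_mul_eq_one.1 h1)
        have e2 : (x' : G) * t = y' * s := mul_left_cancel (a := (y : G) * n) (by simpa [mul_assoc] using e)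
        obtain ⟨e3, e4⟩ := huni x'.2 y'.2 t.2 s.2 e2
        simp [Subtype.ext e3, Subtype.ext e4]
    · intro g
      rcases D.Lev_cells hn hsq hrank g.2 with ⟨x, hx, t, ht, e⟩ | ⟨x, hx, x', hx', t, ht, e⟩
      · exact ⟨Sum.inl (⟨x, hx⟩, ⟨t, ht⟩), Subtype.ext e.symm⟩
      · exact ⟨Sum.inr ((⟨x, hx⟩, ⟨x', hx'⟩), ⟨t, ht⟩), Subtype.ext e.symm⟩
  rw [← Nat.card_congr (Equiv.ofBijective f hf), Nat.card_sum, Nat.card_prod, Nat.card_prod, Nat.card_prod]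
  ring

end Data

end Cfsg.Agent.Twisted
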