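import Cfsg.Agent.KnownSimple.Multiplier.RankSetup

/-!
The rank one subgroup of an orbit generated by its opposite root subgroups, and the lifting setup from
these subgroups, which need not be images of `SL_2` (helper53).
-/

set_option autoImplicit false
set_option linter.unusedSectionVars false

namespace Cfsg.Agent.Twisted

open ChevGroup Cfsg.Agent.KnownSimple

universe v w

variable {Φ I : Type*} {G : Type v} [Group G] {F : Type w} [Field F] {S : RootIdx Φ I}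
  {R : RootRel G F S} {G₁ : Subgroup G} {K : Type} [Fintype K] [DecidableEq K]

namespace Data

variable (D : Data R G₁ K) {ι : Type*} [Fintype ι] [DecidableEq ι] (M : Shape R ι) {W0 : List K}

/-- the subgroup generated by the opposite root subgroups of an orbit -/
def Lev (k : K) : Subgroup G := D.X k ⊔ (G₁ ⊓ D.Vk k)

theorem X_le_Lev (k : K) : D.X k ≤ D.Lev k := le_sup_left

theorem Lev_le (k : K) : D.Lev k ≤ G₁ := sup_le inf_le_left inf_le_left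

theorem Lev_conj {k k' : K} {g : G} (hg : g ∈ G₁)
    (hU : ∀ x ∈ D.Uk k, g * x * g⁻¹ ∈ D.Uk k') (hV : ∀ x ∈ D.Vk k, g * x * g⁻¹ ∈ D.Vk k') :
    ∀ y ∈ D.Lev k, g * y * g⁻¹ ∈ D.Lev k' := by
  have h : D.Lev k ≤ (D.Lev k').comap (MulAut.conj g).toMonoidHom := by
    refine sup_le ?_ ?_
    · intro x hx
      exact le_sup_left (b := G₁ ⊓ D.Vk k') (show g * x * g⁻¹ ∈ D.X k' from
        Subgroup.mem_inf.2 ⟨mul_mem (mul_mem hg hx.1) (inv_mem hg), hU x hx.2⟩)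
    · intro x hx
      exact le_sup_right (a := D.X k') (show g * x * g⁻¹ ∈ G₁ ⊓ D.Vk k' from
        Subgroup.mem_inf.2 ⟨mul_mem (mul_mem hg hx.1) (inv_mem hg), hV x hx.2⟩)
  exact fun y hy => h hy

theorem Lev_conj_H {k : K} {h : G} (hh : h ∈ D.H1) :
    ∀ y ∈ D.Lev k, h * y * h⁻¹ ∈ D.Lev k :=
  D.Lev_conj hh.1 (fun _ hx => H_conj_Sg R hh.2 hx) (fun _ hx => H_conj_Sg R hh.2 hx)

theorem inv_nJ_conj_Vk {k : K} {g : G} (hg : g ∈ G₁) (hV : g ∈ D.Vk k) :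
    (D.nJ k)⁻¹ * g * D.nJ k ∈ D.X k := by
  refine Subgroup.mem_inf.2
    ⟨mul_mem (mul_mem (inv_mem (D.nJ_mem k)) hg) (D.nJ_mem k), ?_⟩
  refine (D.nJ_coset k).inv_conj_Sg R (T := fun r => S.neg r ∈ D.cls k) (fun r hr => ?_) hV
  have := (D.wd_cls k _ hr).2
  rwa [S.actw_neg, S.neg_neg] at this

theorem nJ_conj_X_Vk {k : K} {a : G} (ha : a ∈ D.X k) :
    D.nJ k * a * (D.nJ k)⁻¹ ∈ G₁ ⊓ D.Vk k := by
  refine Subgroup.mem_inf.2 ⟨mul_mem (mul_mem (D.nJ_mem k) ha.1) (inv_mem (D.nJ_mem k)), ?_⟩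
  exact (D.nJ_coset k).conj_Sg R (T' := fun r => S.neg r ∈ D.cls k) (fun r hr => (D.wd_cls k r hr).1) ha.2

/-- the subgroup is generated by `p`-elements -/
theorem Lev_gen (p : ℕ) (hU : ∀ u ∈ D.U1, ∃ a : ℕ, u ^ p ^ a = 1) (k : K) :
    (D.Lev k).subgroupOf G₁ ≤ Subgroup.closure
      {g : ↥G₁ | g ∈ (D.Lev k).subgroupOf G₁ ∧ BNLift.PElt p g} := by
  set C := Subgroup.closure {g : ↥G₁ | g ∈ (D.Lev k).subgroupOf G₁ ∧ BNLift.PElt p g}
  have hsub : D.Lev k ≤ C.map G₁.subtype := by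
    refine sup_le ?_ ?_
    · intro x hx
      obtain ⟨a, ha⟩ := hU x (D.X_le_U1 k hx)
      exact ⟨⟨x, hx.1⟩, Subgroup.subset_closure ⟨D.X_le_Lev k hx, a, Subtype.ext ha⟩, rfl⟩
    · intro x hx
      obtain ⟨a, ha⟩ := hU _ (D.X_le_U1 k (D.inv_nJ_conj_Vk hx.1 hx.2))
      refine ⟨⟨x, hx.1⟩, Subgroup.subset_closure
        ⟨le_sup_right (a := D.X k) (show x ∈ G₁ ⊓ D.Vk k from hx), a, Subtype.ext ?_⟩, rfl⟩
      have h := conj_pow (i := p ^ a) (b := (D.nJ k)⁻¹ * x * D.nJ k) (a := D.nJ k)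
      rw [ha, mul_one, mul_inv_cancel, show D.nJ k * ((D.nJ k)⁻¹ * x * D.nJ k) * (D.nJ k)⁻¹ = x by group] at h
      exact h
  intro g hg
  obtain ⟨y, hy, e⟩ := hsub hg
  rwa [← show y = g from Subtype.ext e]

include M in
/-- The rank one relation inside the subgroup. -/
theorem Lev_rank (h0 : D.Longest W0) (hS : D.Split) (k : K) (hn : D.nJ k ∈ D.Lev k)
    (hclean : ∀ c ∈ D.Uo k, ∀ h ∈ D.H1, c * h ∈ D.Lev k → c = 1) {a : G} (ha : a ∈ D.X k) (ha1 : a ≠ 1) :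
    ∃ x ∈ D.X k, ∃ x' ∈ D.X k, ∃ t : G, t ∈ D.H1 ∧ t ∈ D.Lev k ∧
      D.nJ k * a * (D.nJ k)⁻¹ = x * D.nJ k * x' * t := by
  obtain ⟨b₁, hb₁, b₂, hb₂, e⟩ := hS.rank k a ha ha1
  obtain ⟨h₂, hh₂, c₂, hc₂, hc₂', a₂, ha₂, rfl⟩ := D.B1_decomp' M h0 k hb₂
  set n := D.nJ k with hndef
  have hb : b₁ * (n * h₂ * n⁻¹) * (n * c₂ * n⁻¹) ∈ D.B1 :=
    mul_mem (mul_mem hb₁ (D.H1_le_B1 (D.nJ_conj_H1 k hh₂))) (D.U1_le_B1 (D.nJ_conj_U1Uo k hc₂ hc₂'))
  obtain ⟨a₁, ha₁, c, hc, -, h, hh, eb⟩ := D.B1_decomp M h0 k hb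
  -- move the torus factor to the right
  set h' := n⁻¹ * h * n with hh'def
  have hh' : h' ∈ D.H1 := D.nJ_inv_conj_H1 k hh
  have ha₂' : h' * a₂ * h'⁻¹ ∈ D.X k := Subgroup.mem_inf.2
    ⟨mul_mem (mul_mem hh'.1 ha₂.1) (inv_mem hh'.1), H_conj_Sg R hh'.2 ha₂.2⟩
  have ev : n * a * n⁻¹ = a₁ * c * n * (h' * a₂ * h'⁻¹) * h' := by
    rw [e, show b₁ * n * (h₂ * c₂ * a₂) = b₁ * (n * h₂ * n⁻¹) * (n * c₂ * n⁻¹) * n * a₂ by group, eb,
      hh'def]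
    group
  have hv : n * a * n⁻¹ ∈ D.Lev k :=
    mul_mem (mul_mem hn (D.X_le_Lev k ha)) (inv_mem hn)
  have hmem : a₁⁻¹ * (n * a * n⁻¹) ∈ D.Lev k := mul_mem (inv_mem (D.X_le_Lev k ha₁)) hv
  -- `c` times a torus element lies in the subgroup
  set x' := h' * a₂ * h'⁻¹ with hx'
  have hx'L := D.X_le_Lev k ha₂'
  have hx'' : h'⁻¹ * x'⁻¹ * h' ∈ D.Lev k := by
    have := D.Lev_conj_H (k := k) (inv_mem hh') _ (inv_mem hx'L)
    simpa using this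
  have hch : c * (n * h' * n⁻¹) ∈ D.Lev k := by
    have h1 := mul_mem (mul_mem hmem hx'') (inv_mem hn)
    have e2 : a₁⁻¹ * (n * a * n⁻¹) * (h'⁻¹ * x'⁻¹ * h') * n⁻¹ = c * (n * h' * n⁻¹) := by
      rw [ev]; group
    rwa [e2] at h1
  have hc1 := hclean c hc _ (D.nJ_conj_H1 k hh') hch
  rw [hc1, mul_one] at ev
  refine ⟨a₁, ha₁, x', ha₂', h', hh', ?_, ev⟩
  have h3 := mul_mem (inv_mem (mul_mem (mul_mem (D.X_le_Lev k ha₁) hn) hx'L)) hv
  rwa [ev, inv_mul_cancel_left] at h3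

include M in
/-- The setup. -/
noncomputable def liftSetup' (p : ℕ) (h0 : D.Longest W0) (hS : D.Split)
    (hT : ∀ r t, S.pos r → M.Pres S.pos (R.x r t))
    (hHc : ∀ a ∈ R.H, ∀ b ∈ R.H, a * b = b * a)
    (hU : ∀ u ∈ D.U1, ∃ a : ℕ, u ^ p ^ a = 1)
    (hn : ∀ k, D.nJ k ∈ D.Lev k)
    (hrank : ∀ k, ∀ a ∈ D.X k, a ≠ 1 → ∃ x ∈ D.X k, ∃ x' ∈ D.X k, ∃ t : G, t ∈ D.H1 ∧ t ∈ D.Lev k ∧
      D.nJ k * a * (D.nJ k)⁻¹ = x * D.nJ k * x' * t)
    (hHgen : ∀ h ∈ D.H1, h ∈ ⨆ k, D.Lev k ⊓ D.H1)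
    (Mc : CoxeterMatrix K) (θ : Mc.Group →* Equiv.Perm Φ) (hθinj : Function.Injective θ)
    (hθ : ∀ k r, θ (Mc.simple k) r = S.actw (D.wd k) r)
    (hbraid : ∀ i j, i ≠ j → Mc i j ≠ 0 → ∃ (P : List K) (s t : K),
      (P ++ [s] ++ P.reverse ++ [t] = (List.replicate (Mc i j) [i, j]).flatten ∨
        P ++ [s] ++ P.reverse ++ [t] = (List.replicate (Mc i j) [j, i]).flatten) ∧
      (∀ r ∈ D.cls s, S.actw (D.aw P) r ∈ D.cls t) ∧
      ∀ r, S.actw (D.aw P) (S.actw (D.wd s) (S.actw (D.aw P).reverse (S.actw (D.wd t) r))) = r) :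
    BNLift.Setup ↥G₁ K p where
  U := R.U.subgroupOf G₁
  H := R.H.subgroupOf G₁
  U_p u hu := by
    obtain ⟨a, ha⟩ := hU u (Subgroup.mem_inf.2 ⟨u.2, hu⟩)
    exact ⟨a, Subtype.ext ha⟩
  H_comm a ha b hb := Subtype.ext (by
    show (a : G) * b = b * a
    exact hHc _ ha _ hb)
  H_norm h hh u hu := H_conj_Sg R hh hu
  UH := (Subgroup.eq_bot_iff_forall _).2 fun g hg =>
    Subtype.ext (M.U_inter_H hg.1 hg.2)
  X k := (D.X k).subgroupOf G₁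
  Uc k := {g | (g : G) ∈ D.Uo k}
  X_le k a ha := D.Uk_le_U k ha.2
  decomp k u hu := by
    obtain ⟨a, ha, c, hc, e, hae, -⟩ :=
      D.fixed_decomp M k (show (u : G)⁻¹ ∈ R.U from inv_mem hu) (D.fixed _ (inv_mem u.2))
    have haX := D.X_mem ha hae
    have hc1 : c ∈ G₁ := by
      have := mul_mem (inv_mem (Subgroup.mem_inf.1 haX).1) (inv_mem u.2)
      rwa [e, inv_mul_cancel_left] at this
    refine ⟨⟨c⁻¹, inv_mem hc1⟩, inv_mem hc, D.Uo_le_U k (inv_mem hc), ⟨a⁻¹, inv_mem (Subgroup.mem_inf.1 haX).1⟩,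
      inv_mem haX, Subtype.ext ?_⟩
    show (u : G) = c⁻¹ * a⁻¹
    rw [← _root_.mul_inv_rev, ← e, inv_inv]
  n k := ⟨D.nJ k, D.nJ_mem k⟩
  n_Uc k v hv _ := (D.nJ_conj_U1Uo k hv v.2).2
  n_H k h hh := (D.nJ_conj_H1 k (Subgroup.mem_inf.2 ⟨h.2, hh⟩)).2
  n_sq k := (D.nJ_sq_mem k (hS.invol k)).2
  L k := (D.Lev k).subgroupOf G₁
  n_L k := hn k
  X_L k _ ha := D.X_le_Lev k ha
  L_gen k := D.Lev_gen p hU k
  H_L k _ ha _ hg := D.Lev_conj_H (Subgroup.mem_inf.2 ⟨SetLike.coe_mem _, ha⟩) _ hg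
  rank k a ha ha1 := by
    obtain ⟨x, hx, x', hx', t, ht, htL, e'⟩ := hrank k a ha fun h1 => ha1 (Subtype.ext h1)
    exact ⟨⟨x, hx.1⟩, hx, ⟨x', hx'.1⟩, hx', ⟨t, ht.1⟩, ht.2, htL, Subtype.ext e'⟩
  H_gen := by
    intro a ha
    have h1 := hHgen a (Subgroup.mem_inf.2 ⟨a.2, ha⟩)
    have h2 : (⨆ k, D.Lev k ⊓ D.H1) ≤
        (⨆ k, (D.Lev k).subgroupOf G₁ ⊓ R.H.subgroupOf G₁).map G₁.subtype := by
      refine iSup_le fun k g hg => ?_
      exact ⟨⟨g, hg.2.1⟩, le_iSup (fun k => (D.Lev k).subgroupOf G₁ ⊓ R.H.subgroupOf G₁) k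
        ⟨hg.1, hg.2.2⟩, rfl⟩
    obtain ⟨y, hy, e⟩ := h2 h1
    rwa [show y = a from Subtype.ext e] at hy
  gen := by
    rw [eq_top_iff]
    intro g _
    have h1 : (g : G) ∈ D.par1 (Finset.univ.toList) := by
      rw [D.par1_eq_top hS fun k => by simp]
      exact g.2
    suffices h2 : D.par1 (Finset.univ.toList) ≤
        (Subgroup.closure (((R.U.subgroupOf G₁ : Subgroup ↥G₁) : Set ↥G₁) ∪
          (R.H.subgroupOf G₁ : Subgroup ↥G₁) ∪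
          Set.range fun k => (⟨D.nJ k, D.nJ_mem k⟩ : ↥G₁))).map G₁.subtype by
      obtain ⟨y, hy, e⟩ := h2 h1
      rwa [show y = g from Subtype.ext e] at hy
    refine sup_le (fun b hb => ?_) ((Subgroup.closure_le _).2 ?_)
    · obtain ⟨u, hu, t, ht, rfl⟩ := D.exists_U1_H1 M h0 hb
      exact mul_mem ⟨⟨u, hu.1⟩, Subgroup.subset_closure (Or.inl (Or.inl hu.2)), rfl⟩
        ⟨⟨t, ht.1⟩, Subgroup.subset_closure (Or.inl (Or.inr ht.2)), rfl⟩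
    · rintro _ ⟨k, -, rfl⟩
      exact ⟨_, Subgroup.subset_closure (Or.inr ⟨k, rfl⟩), rfl⟩
  dich k W := by
    have key : ∀ V : List K, D.Back k V → ∀ a ∈ (D.X k).subgroupOf G₁,
        ((V.map fun k => (⟨D.nJ k, D.nJ_mem k⟩ : ↥G₁)).prod)⁻¹ * a *
          (V.map fun k => (⟨D.nJ k, D.nJ_mem k⟩ : ↥G₁)).prod ∈ R.U.subgroupOf G₁ := by
      intro V hV a ha
      have e : (((V.map fun k => (⟨D.nJ k, D.nJ_mem k⟩ : ↥G₁)).prod : ↥G₁) : G) = D.nW V := by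
        rw [SubmonoidClass.coe_list_prod, List.map_map]; rfl
      rw [Subgroup.mem_subgroupOf, Subgroup.coe_mul, Subgroup.coe_mul, Subgroup.coe_inv, e]
      exact (D.X_conj_mem_U1 hV ha).2
    rcases hS.dich k W with h | h
    · exact Or.inl (key W h)
    · exact Or.inr (key (k :: W) (D.back_cons h))
  M := Mc
  word W hW := by
    have e : (((W.map fun k => (⟨D.nJ k, D.nJ_mem k⟩ : ↥G₁)).prod : ↥G₁) : G) = D.nW W := by
      rw [SubmonoidClass.coe_list_prod, List.map_map]; rfl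
    have hB : D.nW W ∈ R.B := by
      have hle : R.U.subgroupOf G₁ ⊔ R.H.subgroupOf G₁ ≤ R.B.subgroupOf G₁ :=
        sup_le (fun x hx => R.U_le_B hx) (fun x hx => R.H_le_B hx)
      rw [← e]; exact hle hW
    have hH := D.B1_inf_N1 M hT hB ((D.nW_coset W).mem_mono)
    have hperm : ∀ r, S.actw (D.aw W) r = r := by
      intro r
      have h1 : InCoset R (D.nW W) [] := ⟨D.nW W, hH, by simp⟩
      simpa using D.perm_eq_of_coset (D.nW_coset W) h1 r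
    refine hθinj (Equiv.ext fun r => ?_)
    rw [map_one, Equiv.Perm.one_apply, map_list_prod, List.map_map]
    refine Eq.trans ?_ (hperm r)
    clear hH hperm hB e hW
    induction W with
    | nil => simp
    | cons k W ih =>
      rw [List.map_cons, List.prod_cons, Equiv.Perm.mul_apply, ih, Function.comp_apply, hθ, D.aw_cons,
        S.actw_append]
  braid i j hij hne := by
    obtain ⟨P, s, t, hl, hcls, hperm⟩ := hbraid i j hij hne
    refine ⟨P, s, t, hl, ?_, ?_⟩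
    · intro g hg
      have ePn : (((P.map fun k => (⟨D.nJ k, D.nJ_mem k⟩ : ↥G₁)).prod : ↥G₁) : G) = D.nW P := by
        rw [SubmonoidClass.coe_list_prod, List.map_map]; rfl
      rw [Subgroup.mem_subgroupOf, Subgroup.coe_mul, Subgroup.coe_mul, Subgroup.coe_inv, ePn]
      refine D.Lev_conj (D.nW_mem P) (fun x hx => (D.nW_coset P).conj_Sg R hcls hx) (fun x hx => ?_) _ hg
      refine (D.nW_coset P).conj_Sg R (T' := fun r => S.neg r ∈ D.cls t) (fun r hr => ?_) hx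
      show S.neg (S.actw (D.aw P) r) ∈ D.cls t
      rw [← S.actw_neg]
      exact hcls _ hr
    · rw [Subgroup.mem_subgroupOf]
      simp only [Subgroup.coe_mul, Subgroup.coe_inv]
      have ePn : (((P.map fun k => (⟨D.nJ k, D.nJ_mem k⟩ : ↥G₁)).prod : ↥G₁) : G) = D.nW P := by
        rw [SubmonoidClass.coe_list_prod, List.map_map]; rfl
      rw [ePn]
      obtain ⟨a, ha, ea⟩ := (((D.nW_coset P).mul R (D.nJ_coset s)).mul R ((D.nW_coset P).inv R)).mul R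
        (D.nJ_coset t)
      rw [ea]
      refine mul_mem ha (nw_mem_H_of_pos R (fun r hr => ?_) D.x_ne D.x_sep)
      rw [S.actw_append, S.actw_append, S.actw_append, hperm r]
      exact hr

end Data

end Cfsg.Agent.Twisted
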