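import Cfsg.Agent.Lib.ChevCore.RankOneHom
import Cfsg.Agent.Twisted.BN
import Cfsg.Agent.KnownSimple.Multiplier.BNLift

/-!
The lifting setup of a twisted group from homomorphisms of `SL_2` onto its rank one subgroups (helper53).
-/

set_option autoImplicit false
set_option linter.unusedSectionVars false

namespace Cfsg.Agent.Twisted

open ChevGroup
open Cfsg.Agent.ChevCore (slU slL pn ph pn_sl ph_sl sl_generated pairRel_sl)

variable {Φ I : Type*} {G : Type*} [Group G] {F : Type*} [Field F] {S : RootIdx Φ I}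
  {R : RootRel G F S} {G₁ : Subgroup G} {K : Type*}

namespace Data

/-- `ψ` maps `SL_2` onto the subgroup of the orbit `k`. -/
structure IsLevi (D : Data R G₁ K) (k : K) {E : Type*} [Field E]
    (ψ : Matrix.SpecialLinearGroup (Fin 2) E →* G) : Prop where
  upper_mem : ∀ t, ψ (slU t) ∈ D.X k
  upper_onto : ∀ a ∈ D.X k, ∃ t, ψ (slU t) = a
  upper_inj : ∀ t, ψ (slU t) = 1 → t = 0
  lower_mem : ∀ t, ψ (slL t) ∈ G₁ ∧ ψ (slL t) ∈ D.Vk k
  weyl : ψ (pn slU slL 1) = D.nJ k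
  torus : ∀ a : E, a ≠ 0 → ψ (ph slU slL a) ∈ R.H
  torus_inj : ∀ a : E, a ≠ 0 → ψ (ph slU slL a) = 1 → a = 1

namespace IsLevi

variable {D : Data R G₁ K} {k : K} {E : Type*} [Field E]
  {ψ : Matrix.SpecialLinearGroup (Fin 2) E →* G} (h : D.IsLevi k ψ)

include h

theorem mem_G₁ (g : Matrix.SpecialLinearGroup (Fin 2) E) : ψ g ∈ G₁ := by
  induction sl_generated g using Subgroup.closure_induction with
  | mem y hy =>
    rcases hy with ⟨t, rfl⟩ | ⟨t, rfl⟩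
    · exact (h.upper_mem t).1
    · exact (h.lower_mem t).1
  | one => rw [map_one]; exact one_mem _
  | mul a b _ _ ha hb => rw [map_mul]; exact mul_mem ha hb
  | inv a _ ha => rw [map_inv]; exact inv_mem ha

theorem lower_inj {t : E} (ht : ψ (slL t) = 1) : t = 0 := by
  refine h.upper_inj t ?_
  have e := (pairRel_sl (F := E)).n_x (-t)
  rw [neg_neg] at e
  have e2 : ψ (pn slU slL 1) * ψ (slU (-t)) * (ψ (pn slU slL 1))⁻¹ = 1 := by
    rw [← map_inv, ← map_mul, ← map_mul, e, ht]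
  have e3 : ψ (slU (-t)) = 1 := conj_eq_one_iff.1 e2
  rw [(pairRel_sl (F := E)).x_neg, map_inv, inv_eq_one] at e3
  exact e3

omit h in
theorem upper_shape {g : Matrix.SpecialLinearGroup (Fin 2) E}
    (hc : (g : Matrix (Fin 2) (Fin 2) E) 1 0 = 0) :
    ∃ a b, a ≠ 0 ∧ g = ph slU slL a * slU b := by
  have hdet := g.2
  rw [Matrix.det_fin_two, hc, mul_zero, sub_zero] at hdet
  have ha := left_ne_zero_of_mul_eq_one hdet
  refine ⟨(g : Matrix (Fin 2) (Fin 2) E) 0 0,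
    (g : Matrix (Fin 2) (Fin 2) E) 0 1 / (g : Matrix (Fin 2) (Fin 2) E) 0 0, ha, Subtype.ext ?_⟩
  rw [Matrix.SpecialLinearGroup.coe_mul, ph_sl ha]
  ext i j
  fin_cases i <;> fin_cases j <;>
    simp [ChevCore.coe_slU, Matrix.mul_apply, Fin.sum_univ_two, hc, ha,
      mul_div_cancel₀, eq_inv_of_mul_eq_one_right hdet]

variable {ι : Type*} [Fintype ι] [DecidableEq ι] (M : Shape R ι)

include M in
/-- An element mapped into `B` is upper triangular. -/
theorem lower_zero {g : Matrix.SpecialLinearGroup (Fin 2) E} (hg : ψ g ∈ R.B) :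
    (g : Matrix (Fin 2) (Fin 2) E) 1 0 = 0 := by
  by_contra hc
  set c := (g : Matrix (Fin 2) (Fin 2) E) 1 0 with hcd
  set a := (g : Matrix (Fin 2) (Fin 2) E) 0 0 with had
  let g' := slU (-(a / c)) * g * slU (a / c)
  have hU : ∀ t, ψ (slU t) ∈ R.U := fun t => D.Uk_le_U k (h.upper_mem t).2
  have hB : ψ g' ∈ R.B := by
    rw [map_mul, map_mul]
    exact mul_mem (mul_mem (R.U_le_B (hU _)) hg) (R.U_le_B (hU _))
  have hnorm : ∀ b ∈ R.B, ∀ u ∈ R.U, b * u * b⁻¹ ∈ R.U := by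
    intro b hb u hu
    obtain ⟨v, hv, t, ht, rfl⟩ := R.mem_B_iff.1 hb
    have h1 : t * u * t⁻¹ ∈ R.U := by
      have hu' : u ∈ Sg R S.pos := hu
      exact H_conj_Sg R ht hu'
    have := mul_mem (mul_mem hv h1) (inv_mem hv)
    simpa [mul_assoc] using this
  have hdet' := g'.2
  rw [Matrix.det_fin_two] at hdet'
  have e00 : (g' : Matrix (Fin 2) (Fin 2) E) 0 0 = 0 := by
    simp [g', ChevCore.coe_slU, Matrix.SpecialLinearGroup.coe_mul, Matrix.mul_apply, Matrix.vecMul, dotProduct,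
      Fin.sum_univ_two, ← hcd, ← had]
    field_simp
    ring
  have e10 : (g' : Matrix (Fin 2) (Fin 2) E) 1 0 = c := by
    simp [g', ChevCore.coe_slU, Matrix.SpecialLinearGroup.coe_mul, Matrix.mul_apply, Matrix.vecMul, dotProduct,
      Fin.sum_univ_two, ← hcd]
  rw [e00, e10, zero_mul, zero_sub] at hdet'
  have key : g' * slU 1 = slL (-c ^ 2) * g' := by
    refine Subtype.ext ?_
    simp only [Matrix.SpecialLinearGroup.coe_mul, ChevCore.coe_slU, ChevCore.coe_slL]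
    ext i j
    fin_cases i <;> fin_cases j <;> simp [Matrix.mul_apply, Fin.sum_univ_two, e00, e10]
    linear_combination -c * hdet'
  have h2 : ψ (slL (-c ^ 2)) ∈ R.U := by
    have := hnorm _ hB _ (hU 1)
    rwa [← map_mul, key, map_mul, mul_inv_cancel_right] at this
  have h3 : ψ (slL (-c ^ 2)) ∈ V R :=
    Sg_mono R (fun r hr => D.cls_pos k _ hr) (h.lower_mem _).2
  have h4 := h.lower_inj (U_inter_V R M h2 h3)
  exact hc (pow_eq_zero_iff two_ne_zero |>.1 (neg_eq_zero.1 h4))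

include M in
theorem mem_H_iff {g : Matrix.SpecialLinearGroup (Fin 2) E} (hg : ψ g ∈ R.H) :
    ∃ a, a ≠ 0 ∧ g = ph slU slL a := by
  obtain ⟨a, b, ha, rfl⟩ := upper_shape (h.lower_zero M (R.H_le_B hg))
  have hb : ψ (slU b) = 1 := by
    refine M.U_inter_H (D.Uk_le_U k (h.upper_mem b).2) ?_
    have := mul_mem (inv_mem (h.torus a ha)) hg
    rwa [map_mul, inv_mul_cancel_left] at this
  refine ⟨a, ha, ?_⟩
  rw [h.upper_inj b hb, (pairRel_sl (F := E)).x_zero, mul_one]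

include M in
theorem injective : Function.Injective ψ := by
  rw [injective_iff_map_eq_one]
  intro g hg
  obtain ⟨a, ha, rfl⟩ := h.mem_H_iff M (g := g) (by rw [hg]; exact one_mem _)
  rw [h.torus_inj a ha hg, (pairRel_sl (F := E)).h_one]

theorem rank {x : G} (hx : x ∈ D.X k) (hx1 : x ≠ 1) :
    ∃ a ∈ D.X k, ∃ b ∈ D.X k, ∃ t : G, t ∈ D.H1 ∧ t ∈ ψ.range ∧
      D.nJ k * x * (D.nJ k)⁻¹ = a * D.nJ k * b * t := by
  obtain ⟨t, rfl⟩ := h.upper_onto x hx
  have P := pairRel_sl (F := E)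
  have ht : t ≠ 0 := fun e => hx1 (by rw [e, P.x_zero, map_one])
  have hd : (-t : E)⁻¹ ≠ 0 := inv_ne_zero (neg_ne_zero.2 ht)
  -- `n x(t) n⁻¹ = y(-t) = x(-1/t) n x(-1/t) (torus)`
  obtain ⟨w, hw⟩ : ∃ w, w = pn slU slL (F := E) 1 := ⟨_, rfl⟩
  have hkey : w * slU t * w⁻¹ = slU (-t⁻¹) * w * slU (-t) * ph slU slL t := by
    rw [hw, mul_inv_eq_iff_eq_mul]
    refine Subtype.ext ?_
    simp only [Matrix.SpecialLinearGroup.coe_mul, pn_sl (one_ne_zero (α := E)), ph_sl ht,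
      ChevCore.coe_slU]
    ext i j
    fin_cases i <;> fin_cases j <;> simp [Matrix.mul_apply, Fin.sum_univ_two, ht]
  refine ⟨ψ (slU (-t⁻¹)), h.upper_mem _, ψ (slU (-t)), h.upper_mem _, ψ (ph slU slL t),
    Subgroup.mem_inf.2 ⟨h.mem_G₁ _, h.torus t ht⟩, ⟨_, rfl⟩, ?_⟩
  rw [← h.weyl, ← hw, ← map_inv, ← map_mul, ← map_mul, ← map_mul, ← map_mul, ← map_mul, hkey]

theorem nJ_mem_range : D.nJ k ∈ ψ.range := h.weyl ▸ ⟨_, rfl⟩

theorem X_le_range : D.X k ≤ ψ.range := fun a ha => by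
  obtain ⟨t, rfl⟩ := h.upper_onto a ha
  exact ⟨_, rfl⟩

theorem mem_range_of_Vk {g : G} (hg : g ∈ G₁) (hgV : g ∈ D.Vk k) : g ∈ ψ.range := by
  have hn := D.nJ_mem k
  have h1 : (D.nJ k)⁻¹ * g * D.nJ k ∈ D.X k := by
    refine Subgroup.mem_inf.2 ⟨mul_mem (mul_mem (inv_mem hn) hg) hn, ?_⟩
    refine (D.nJ_coset k).inv_conj_Sg R (T := fun r => S.neg r ∈ D.cls k) (fun r hr => ?_) hgV
    have := (D.wd_cls k _ hr).2
    rwa [S.actw_neg, S.neg_neg] at this
  have := mul_mem (mul_mem h.nJ_mem_range (h.X_le_range h1)) (inv_mem h.nJ_mem_range)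
  simpa [mul_assoc] using this

theorem range_conj {h' : G} (hh : h' ∈ D.H1) {g : G} (hg : g ∈ ψ.range) :
    h' * g * h'⁻¹ ∈ ψ.range := by
  obtain ⟨g, rfl⟩ := hg
  induction sl_generated g using Subgroup.closure_induction with
  | mem y hy =>
    obtain ⟨hh1, hh2⟩ := Subgroup.mem_inf.1 hh
    rcases hy with ⟨t, rfl⟩ | ⟨t, rfl⟩
    · refine h.X_le_range (Subgroup.mem_inf.2 ⟨?_, H_conj_Sg R hh2 (h.upper_mem t).2⟩)
      exact mul_mem (mul_mem hh1 (h.upper_mem t).1) (inv_mem hh1)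
    · exact h.mem_range_of_Vk (mul_mem (mul_mem hh1 (h.lower_mem t).1) (inv_mem hh1))
        (H_conj_Sg R hh2 (h.lower_mem t).2)
  | one => simp
  | mul a b _ _ ha hb => simpa [map_mul, mul_assoc] using mul_mem ha hb
  | inv a _ ha => simpa [mul_assoc] using inv_mem ha

omit h in
theorem slU_pow {p : ℕ} (hp : (p : E) = 0) (t : E) :
    slU t ^ p = 1 ∧ slL t ^ p = 1 := by
  have key : ∀ (f : E → Matrix.SpecialLinearGroup (Fin 2) E), f 0 = 1 →
      (∀ a b, f (a + b) = f a * f b) → ∀ n : ℕ, f t ^ n = f ((n : E) * t) := by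
    intro f h0 ha n
    induction n with
    | zero => simp [h0]
    | succ n ih => rw [pow_succ, ih, ← ha]; push_cast; ring_nf
  have P := pairRel_sl (F := E)
  exact ⟨by rw [key _ P.x_zero P.x_add, hp, zero_mul, P.x_zero],
    by rw [key _ P.y_zero P.y_add, hp, zero_mul, P.y_zero]⟩

theorem range_gen {p : ℕ} (hp : (p : E) = 0) :
    ψ.range.subgroupOf G₁ ≤ Subgroup.closure
      {g : ↥G₁ | g ∈ ψ.range.subgroupOf G₁ ∧ Cfsg.Agent.KnownSimple.BNLift.PElt p g} := by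
  rintro ⟨_, hg1⟩ ⟨g, rfl⟩
  induction sl_generated g using Subgroup.closure_induction with
  | mem y hy =>
    refine Subgroup.subset_closure ⟨⟨y, rfl⟩, 1, Subtype.ext ?_⟩
    show ψ y ^ p ^ 1 = 1
    rw [pow_one, ← map_pow]
    rcases hy with ⟨t, rfl⟩ | ⟨t, rfl⟩
    · rw [(slU_pow hp t).1, map_one]
    · rw [(slU_pow hp t).2, map_one]
  | one =>
    rw [show (⟨ψ 1, hg1⟩ : ↥G₁) = 1 from Subtype.ext (map_one ψ)]
    exact one_mem _
  | mul a b _ _ ha hb =>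
    rw [show (⟨ψ (a * b), hg1⟩ : ↥G₁) = ⟨ψ a, h.mem_G₁ a⟩ * ⟨ψ b, h.mem_G₁ b⟩ from
      Subtype.ext (map_mul ψ a b)]
    exact mul_mem (ha _) (hb _)
  | inv a _ ha =>
    rw [show (⟨ψ a⁻¹, hg1⟩ : ↥G₁) = (⟨ψ a, h.mem_G₁ a⟩)⁻¹ from Subtype.ext (map_inv ψ a)]
    exact inv_mem (ha _)

end IsLevi

end Data

end Cfsg.Agent.Twisted
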