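import Cfsg.Agent.KnownSimple.Multiplier.ReeLocal
import Cfsg.Agent.Lib.Ree.TorusResults
import Cfsg.Agent.Lib.Ree.Borel
import Cfsg.Agent.Lib.Ree.Normalizer

/-!
The Schur multiplier of the small Ree groups `²G₂(q)`, `q ≥ 27`, is trivial (helper53).
-/

set_option autoImplicit false
set_option linter.unusedSectionVars false

namespace Cfsg.Agent.Twisted.TypeG2

open ChevGroup ChevIsogeny Cfsg.Lie
open scoped commutatorElement

variable {F : Type*} [Field F] [Fintype F] {m : ℕ} {K : Rels chevG2 F}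

variable (Z : Frame (T := MT) K PP (3 ^ m) fd) (hK : Fintype.card F = 3 ^ (2 * m + 1))

set_option quotPrecheck false in
local notation "G₁" => genG MT K (g2Words F (3 ^ m))

set_option quotPrecheck false in
local notation "σ₀" => (3 * 3 ^ m)

/-- an element of the unipotent group by its coordinates -/
noncomputable def uW (t u v : F) : ↥G₁ :=
  ⟨wordU K m t u v, (Subgroup.mem_inf.1 ((mem_U1_iff Z hK).2 ⟨t, u, v, rfl⟩)).1⟩

include Z hK

theorem wordU_mul (t u v t' u' v' : F) :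
    wordU K m t u v * wordU K m t' u' v' =
      wordU K m (t + t') (u + u' - (t' ^ 3 ^ m) ^ 3 * t)
        (v + v' - (t' ^ 3 ^ m) ^ 3 * t ^ 2 - (u - (t' ^ 3 ^ m) ^ 3 * t) * t') := by
  have hmem : wordU K m t u v * wordU K m t' u' v' ∈ (gens Z hK).data.U1 :=
    mul_mem ((mem_U1_iff Z hK).2 ⟨_, _, _, rfl⟩) ((mem_U1_iff Z hK).2 ⟨_, _, _, rfl⟩)
  obtain ⟨T, U, V, e⟩ := (mem_U1_iff Z hK).1 hmem
  have e' := e
  simp only [wordU] at e'
  rw [form_mul_eq Z hK] at e'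
  obtain ⟨-, rfl, -, -, rfl, rfl⟩ := form_inj Z e'
  exact e

theorem uW_mul (t u v t' u' v' : F) :
    uW Z hK t u v * uW Z hK t' u' v' =
      uW Z hK (t + t') (u + u' - (t' ^ 3 ^ m) ^ 3 * t)
        (v + v' - (t' ^ 3 ^ m) ^ 3 * t ^ 2 - (u - (t' ^ 3 ^ m) ^ 3 * t) * t') :=
  Subtype.ext (wordU_mul Z hK t u v t' u' v')

theorem uW_mul_low (t u v u' v' : F) :
    uW Z hK t u v * uW Z hK 0 u' v' = uW Z hK t (u + u') (v + v') := by
  rw [uW_mul]
  simp [zero_pow (pow_ne_zero m (show (3 : ℕ) ≠ 0 by norm_num))]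

theorem uW_low_mul (u v t u' v' : F) :
    uW Z hK 0 u v * uW Z hK t u' v' = uW Z hK t (u + u') (v + v' - u * t) := by
  rw [uW_mul]
  simp

theorem uW_zero : uW Z hK 0 0 0 = 1 := Subtype.ext (wordU_zero Z hK)

theorem uW_decomp (t x y : F) :
    uW Z hK t x y = uW Z hK t 0 0 * (uW Z hK 0 x 0 * uW Z hK 0 0 y) := by
  simp [uW_mul_low]

theorem exists_uW {g : ↥G₁} (hg : g ∈ uG Z hK) : ∃ t x y, g = uW Z hK t x y := by
  obtain ⟨t, x, y, e⟩ := (mem_U1_iff Z hK).1 (Subgroup.mem_subgroupOf.1 hg)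
  exact ⟨t, x, y, Subtype.ext e⟩

theorem torG_conj_uW (l : Fˣ) (t x y : F) :
    torG Z hK l * uW Z hK t x y * (torG Z hK l)⁻¹ =
      uW Z hK ((lam Z l : F) * t) ((lam Z l : F) ^ (σ₀ + 1) * x) ((lam Z l : F) ^ (σ₀ + 2) * y) :=
  Subtype.ext (hHom_conj_wordU Z hK l t x y)

/-- the torus parametrised by its value on the long fundamental root -/
noncomputable def lamEquiv : Fˣ ≃* Fˣ :=
  MulEquiv.ofBijective (MonoidHom.mk' (lam Z) (lam_mul Z))
    (Finite.injective_iff_bijective.1 (lam_inj Z hK))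

/-- the parameters of the unipotent group -/
noncomputable def uData :
    KnownSimple.ReeMult.UData F ↥G₁ (uG Z hK) (σ₀ + 1) (σ₀ + 2) where
  T t := uW Z hK t 0 0
  U x := uW Z hK 0 x 0
  V y := uW Z hK 0 0 y
  h := (torG Z hK).comp (lamEquiv Z hK).symm.toMonoidHom
  U_add x y := by simp [uW_mul_low]
  V_add x y := by simp [uW_mul_low]
  UV x y := by
    show _ = _
    simp [uW_mul_low]
  TV x y := by
    show _ = _
    simp [uW_mul_low, uW_low_mul]
  TU t x := ⟨x * t, by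
    rw [commutatorElement_def, mul_inv_eq_iff_eq_mul, mul_inv_eq_iff_eq_mul, uW_mul_low]
    simp [uW_mul_low, uW_low_mul]⟩
  T_add t t' := by
    refine ⟨(t' ^ 3 ^ m) ^ 3 * t, (t' ^ 3 ^ m) ^ 3 * t ^ 2 - (t' ^ 3 ^ m) ^ 3 * t * t', ?_⟩
    rw [uW_mul, uW_mul_low, uW_mul_low]
    congr 1 <;> ring
  TT t t' := by
    refine ⟨(t ^ 3 ^ m) ^ 3 * t' - (t' ^ 3 ^ m) ^ 3 * t,
      (t ^ 3 ^ m) ^ 3 * t' ^ 2 - (t' ^ 3 ^ m) ^ 3 * t ^ 2 + (t' ^ 3 ^ m) ^ 3 * t * t' -
        (t ^ 3 ^ m) ^ 3 * t' * t +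
        ((t ^ 3 ^ m) ^ 3 * t' - (t' ^ 3 ^ m) ^ 3 * t) * (t + t'), ?_⟩
    rw [commutatorElement_def, mul_inv_eq_iff_eq_mul, mul_inv_eq_iff_eq_mul, uW_mul, uW_mul_low,
      mul_assoc, uW_mul, uW_low_mul]
    congr 1 <;> ring
  conjT l t := by
    rw [MonoidHom.comp_apply, torG_conj_uW]
    simp [show lam Z ((lamEquiv Z hK).symm l) = l from (lamEquiv Z hK).apply_symm_apply l]
  conjU l x := by
    rw [MonoidHom.comp_apply, torG_conj_uW]
    simp [show lam Z ((lamEquiv Z hK).symm l) = l from (lamEquiv Z hK).apply_symm_apply l]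
  conjV l y := by
    rw [MonoidHom.comp_apply, torG_conj_uW]
    simp [show lam Z ((lamEquiv Z hK).symm l) = l from (lamEquiv Z hK).apply_symm_apply l]
  decomp g hg := by
    obtain ⟨t, x, y, rfl⟩ := exists_uW Z hK hg
    exact ⟨t, x, y, uW_decomp Z hK t x y⟩

theorem exists_pow_v (a : Fˣ) : ∃ l : Fˣ, l ^ (σ₀ + 2) = a := by
  have hinj : Function.Injective (powMonoidHom (σ₀ + 2) : Fˣ →* Fˣ) := by
    rw [injective_iff_map_eq_one]
    exact fun l h => lam_pow_v Z hK h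
  exact Finite.injective_iff_surjective.1 hinj a

theorem exists_pow_u (a : Fˣ) : ∃ l : Fˣ, l ^ (σ₀ + 1) = a ^ 2 := by
  obtain ⟨k, hk⟩ : Even (σ₀ + 1) :=
    ((by decide : Odd 3).mul ((by decide : Odd 3).pow)).add_one
  let f : Fˣ →* Fˣ := powMonoidHom (σ₀ + 1)
  let g : Fˣ →* Fˣ := powMonoidHom 2
  have hker : f.ker = g.ker := by
    ext l
    refine ⟨fun h => lam_pow_u Z hK h, fun h => ?_⟩
    show l ^ (σ₀ + 1) = 1
    rw [hk, ← two_mul, pow_mul, show l ^ 2 = 1 from h, one_pow]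
  have hle : f.range ≤ g.range := by
    rintro _ ⟨l, rfl⟩
    exact ⟨l ^ k, by show (l ^ k) ^ 2 = l ^ (σ₀ + 1); rw [← pow_mul, hk]; congr 1; omega⟩
  have heq : f.range = g.range := by
    refine Subgroup.eq_of_le_of_card_ge hle (le_of_eq ?_)
    rw [← Subgroup.index_ker, ← Subgroup.index_ker, hker]
  exact heq.ge ⟨a, rfl⟩

theorem not_three_dvd_index : ¬ 3 ∣ (uG Z hK).index := by
  intro hd
  have h1 := (uG Z hK).card_mul_index
  rw [card_uG Z hK, card_genG Z hK, mul_assoc] at h1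
  have h2 := Nat.eq_of_mul_eq_mul_left (pow_pos (pow_pos (by norm_num) _) 3) h1
  rw [h2] at hd
  have h3 : 3 ∣ 3 ^ (2 * m + 1) := dvd_pow_self _ (by omega)
  rcases (Nat.Prime.dvd_mul (by norm_num)).1 hd with h | h
  · have := Nat.one_le_pow (2 * m + 1) 3 (by norm_num)
    omega
  · have : 3 ∣ (3 ^ (2 * m + 1)) ^ 3 := dvd_pow h3 (by norm_num)
    omega

/-- **The Schur multiplier of the small Ree group is trivial.** -/
theorem multiplier_genG (hm : 1 ≤ m) : Cfsg.HasCyclicSchurMultiplier ↥G₁ 1 := by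
  classical
  refine Cfsg.Agent.Schur.hasCyclicSchurMultiplier_one_of_forall fun Γ _ _ σ hσ => ?_
  refine KnownSimple.ker_eq_bot_of_local σ hσ fun ℓ hℓ => ?_
  haveI := Fact.mk hℓ
  by_cases h3 : ℓ = 3
  · subst h3
    refine ⟨uG Z hK, not_three_dvd_index Z hK, ?_⟩
    refine KnownSimple.ReeMult.unipotent_condition hK hm (N := (2 * m + 1) * 3) ?_ (uData Z hK)
      (exists_pow_u Z hK) (exists_pow_v Z hK) σ hσ.1 hσ.2.1
    rw [card_uG Z hK, pow_mul]
  by_cases h2 : ℓ = 2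
  · subst h2
    obtain ⟨S, hS⟩ := exists_sylow_two Z hK
    refine ⟨S, S.not_dvd_index, ?_⟩
    have h7 : 7 ∣ Nat.card ↥(Subgroup.normalizer ((eightHom Z hK).range : Set ↥G₁)) := by
      rw [card_normalizer Z hK hm]; norm_num
    haveI := Fact.mk (show Nat.Prime 7 by norm_num)
    obtain ⟨g, hg⟩ := exists_prime_orderOf_dvd_card' 7 h7
    have hg7 : (g : ↥G₁) ^ 7 = 1 := by
      rw [← Subgroup.coe_pow, ← hg, pow_orderOf_eq_one, Subgroup.coe_one]
    obtain ⟨a, ha, hga⟩ : ∃ a ∈ (eightHom Z hK).range, (g : ↥G₁) * a * (g : ↥G₁)⁻¹ ≠ a := by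
      by_contra hc
      push Not at hc
      have hmem : (g : ↥G₁) ∈ (eightHom Z hK).range := by
        exact (centralizer_eight Z hK).le
          (Subgroup.mem_centralizer_iff.2 fun x hx => ((mul_inv_eq_iff_eq_mul).1 (hc x hx)).symm)
      have hd := orderOf_dvd_natCard (⟨(g : ↥G₁), hmem⟩ : ↥(eightHom Z hK).range)
      rw [Subgroup.orderOf_mk, Subgroup.orderOf_coe, hg, card_eight Z hK] at hd
      norm_num at hd
    rw [hS]
    refine KnownSimple.ReeMult.eight_condition σ hσ.1 hσ.2.1 _ (card_eight Z hK) (fun x hx => ?_)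
      hg7 (fun x hx => (Subgroup.mem_normalizer_iff.1 g.2 x).1 hx) ha hga
    exact (sylow_two_G1 Z hK S).2 x (by show x ∈ (S : Subgroup ↥G₁); rw [hS]; exact hx)
  · obtain ⟨e⟩ := exists_iso Z hK
    let P : Sylow ℓ ↥G₁ := default
    have hlt : 3 < ℓ := by
      have := hℓ.two_le
      omega
    haveI : IsCyclic ↥(P : Subgroup ↥G₁) := by
      obtain ⟨Q⟩ : Nonempty (Sylow ℓ ↥(twistedG2 F (3 ^ m))) := inferInstance
      haveI := sylow_cyclic Z hK hm hlt Q
      let P' : Sylow ℓ ↥G₁ := Q.comapOfInjective e.toMonoidHom e.injective fun x _ =>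
        ⟨e.symm x, e.apply_symm_apply x⟩
      haveI hP' : IsCyclic ↥(P' : Subgroup ↥G₁) :=
        isCyclic_of_injective
          ((e.toMonoidHom.comp (P' : Subgroup ↥G₁).subtype).codRestrict (Q : Subgroup _) fun x => x.2)
          fun x y h => Subtype.ext (e.injective (congrArg Subtype.val h :))
      obtain ⟨c, hc⟩ := MulAction.exists_smul_eq ↥G₁ P' P
      rw [← hc]
      exact isCyclic_of_surjective (P'.equivSMul c).toMonoidHom (P'.equivSMul c).surjective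
    exact ⟨P, P.not_dvd_index, KnownSimple.inf_commutator_eq_bot_of_comm σ _ fun x hx y hy =>
      KnownSimple.comm_of_cyclic σ hσ.2.1 _ hσ.1 hx hy⟩

/-- The same for the subgroup of the general linear group. -/
theorem multiplier_twisted (hm : 1 ≤ m) :
    Cfsg.HasCyclicSchurMultiplier ↥(twistedG2 F (3 ^ m)) 1 := by
  obtain ⟨e⟩ := exists_iso Z hK
  exact Cfsg.Agent.Schur.hasSchurMultiplier_congr e (multiplier_genG Z hK hm)

end Cfsg.Agent.Twisted.TypeG2
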