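import Cfsg.Agent.KnownSimple.Multiplier.Sylow
import Cfsg.Agent.KnownSimple.Multiplier.InvariantForm
import Cfsg.Agent.KnownSimple.Multiplier.SL2

/-!
The local conditions for the small Ree groups in abstract form: a unipotent group with the weights
`1`, `3θ + 1`, `3θ + 2` over the field with `3θ²` elements, and an elementary abelian group of order `8` with
an automorphism of order `7` (helper53).
-/

set_option autoImplicit false

namespace Cfsg.Agent.KnownSimple.ReeMult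

open Subgroup
open scoped commutatorElement

universe u v w

variable {Γ : Type u} [Group Γ] {G : Type v} [Group G]

/-- A central element of the derived group of a preimage is killed by the order of the subgroup. -/
theorem pow_card_eq_one [Finite Γ] (σ : Γ →* G) (hc : σ.ker ≤ center Γ) (S : Subgroup G) {z : Γ}
    (hz : z ∈ σ.ker) (hz' : z ∈ ⁅S.comap σ, S.comap σ⁆) : z ^ Nat.card S = 1 := by
  set H := S.comap σ
  obtain ⟨y, hy, rfl⟩ : z ∈ (commutator ↥H).map H.subtype := by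
    rwa [Subgroup.map_subtype_commutator]
  have hle : commutator ↥H ≤ (MonoidHom.transferCenterPow ↥H).ker := by
    rw [_root_.commutator_def, Subgroup.commutator_le]
    intro a _ b _
    rw [MonoidHom.mem_ker, map_commutatorElement, commutatorElement_eq_one_iff_mul_comm]
    exact Subtype.ext ((Subgroup.mem_center_iff.mp (MonoidHom.transferCenterPow ↥H b).2) _)
  have h1 : y ^ (center ↥H).index = 1 := by
    simpa [MonoidHom.transferCenterPow_apply] using congrArg Subtype.val (hle hy)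
  let ρ : ↥H →* S := (σ.comp H.subtype).codRestrict S fun x => x.2
  have hρ : ρ.ker ≤ center ↥H := fun x hx => Subgroup.mem_center_iff.2 fun g => Subtype.ext
    (Subgroup.mem_center_iff.1 (hc (show σ (x : Γ) = 1 from congrArg Subtype.val hx)) g)
  obtain ⟨k, hk⟩ : (center ↥H).index ∣ Nat.card S := by
    refine (Subgroup.index_dvd_of_le hρ).trans ?_
    rw [Subgroup.index_ker]
    exact Subgroup.card_subgroup_dvd_card _
  rw [← map_pow, hk, pow_mul, h1, one_pow, map_one]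

/-- The parameters of the unipotent group. -/
structure UData (F : Type w) [Field F] (G : Type v) [Group G] (S : Subgroup G) (b c : ℕ) where
  T : F → G
  U : F → G
  V : F → G
  h : Fˣ →* G
  U_add : ∀ x y, U (x + y) = U x * U y
  V_add : ∀ x y, V (x + y) = V x * V y
  UV : ∀ x y, Commute (U x) (V y)
  TV : ∀ x y, Commute (T x) (V y)
  TU : ∀ t x, ∃ y, ⁅T t, U x⁆ = V y
  T_add : ∀ t t', ∃ x y, T (t + t') = T t * T t' * (U x * V y)
  TT : ∀ t t', ∃ x y, ⁅T t, T t'⁆ = U x * V y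
  conjT : ∀ (l : Fˣ) t, h l * T t * (h l)⁻¹ = T ((l : F) * t)
  conjU : ∀ (l : Fˣ) x, h l * U x * (h l)⁻¹ = U ((l : F) ^ b * x)
  conjV : ∀ (l : Fˣ) x, h l * V x * (h l)⁻¹ = V ((l : F) ^ c * x)
  decomp : ∀ g ∈ S, ∃ t x y, g = T t * (U x * V y)

variable {F : Type w} [Field F] [Fintype F] {m : ℕ}

/-- no power of the Frobenius turns `x ^ (3θ + 2)` into `x⁻¹` -/
theorem pairing_false (hF : Fintype.card F = 3 ^ (2 * m + 1)) (hm : 1 ≤ m) {k : ℕ}
    (hk : k < 2 * m + 1) (h : ∀ l : Fˣ, (l ^ (3 * 3 ^ m + 2)) ^ 3 ^ k = l⁻¹) : False := by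
  classical
  obtain ⟨g, hg⟩ := IsCyclic.exists_ofOrder_eq_natCard (α := Fˣ)
  rw [Nat.card_eq_fintype_card, Fintype.card_units, hF] at hg
  have h1 : g ^ ((3 * 3 ^ m + 2) * 3 ^ k + 1) = 1 := by
    rw [pow_succ, pow_mul, h g, inv_mul_cancel]
  have hd := orderOf_dvd_of_pow_eq_one h1
  rw [hg] at hd
  set Q := 3 ^ (2 * m + 1)
  have hQ : Q = 3 * 3 ^ (2 * m) := pow_succ' 3 _
  have h9 : 3 ^ m + 2 < 3 ^ (2 * m) := by
    have h3 : 3 ≤ 3 ^ m := by simpa using Nat.pow_le_pow_right (show 1 ≤ 3 by norm_num) hm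
    rw [two_mul m, pow_add]
    nlinarith
  rw [add_mul, mul_assoc, ← pow_add, ← pow_succ'] at hd
  by_cases hkm : k < m
  · have e1 : 3 ^ (m + k + 1) ≤ 3 ^ (2 * m) := Nat.pow_le_pow_right (by norm_num) (by omega)
    have e2 : 3 ^ k ≤ 3 ^ m := Nat.pow_le_pow_right (by norm_num) (by omega)
    have := Nat.le_of_dvd (by positivity) hd
    omega
  · obtain ⟨i, rfl⟩ : ∃ i, k = m + i := ⟨k - m, by omega⟩
    have e : 3 ^ (m + (m + i) + 1) = Q * 3 ^ i := by rw [← pow_add]; congr 1; omega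
    rw [e] at hd
    have e1 : Q * 3 ^ i = (Q - 1) * 3 ^ i + 3 ^ i := by
      rw [← Nat.succ_mul, Nat.succ_eq_add_one, Nat.sub_add_cancel (Nat.one_le_pow _ _ (by norm_num))]
    rw [e1, add_assoc, add_assoc] at hd
    have hd' : Q - 1 ∣ 3 ^ i + (2 * 3 ^ (m + i) + 1) := (Nat.dvd_add_right (dvd_mul_right _ _)).1 hd
    have e2 : 3 ^ i ≤ 3 ^ m := Nat.pow_le_pow_right (by norm_num) (by omega)
    have e3 : 3 ^ (m + i) ≤ 3 ^ (2 * m) := Nat.pow_le_pow_right (by norm_num) (by omega)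
    have := Nat.le_of_dvd (by positivity) hd'
    omega

/-- A pairing with the weights `3θ + 2` and `1` is zero. -/
theorem pairing_eq_zero (hF : Fintype.card F = 3 ^ (2 * m + 1)) (hm : 1 ≤ m)
    (hsurj : ∀ a : Fˣ, ∃ l : Fˣ, l ^ (3 * 3 ^ m + 2) = a)
    {A : Type v} [AddCommGroup A] (B : F →+ F →+ A)
    (hinv : ∀ (l : Fˣ) x y, B ((l : F) ^ (3 * 3 ^ m + 2) * x) ((l : F) * y) = B x y)
    (x y : F) : B x y = 0 := by
  classical
  by_contra hne
  have huniq : ∀ δ : F, (∀ x y, B x (δ * y) = 0) → δ = 0 := by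
    intro δ h
    by_contra h0
    apply hne
    rw [← h x (δ⁻¹ * y), mul_inv_cancel_left₀ h0]
  have hadj : ∀ a : F, ∃ a', ∀ x y, B (a * x) y = B x (a' * y) := by
    intro a
    rcases eq_or_ne a 0 with rfl | ha
    · exact ⟨0, fun x y => by simp⟩
    obtain ⟨l, hl⟩ := hsurj (Units.mk0 a ha)
    refine ⟨(l : F)⁻¹, fun x y => ?_⟩
    rw [← hinv l x ((l : F)⁻¹ * y), mul_inv_cancel_left₀ l.ne_zero, ← Units.val_pow_eq_pow_val, hl,
      Units.val_mk0]
  choose s hs using hadj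
  have hs_add : ∀ a b, s (a + b) = s a + s b := fun a b => sub_eq_zero.1 <| huniq _ fun x y => by
    rw [sub_mul, map_sub, ← hs, add_mul, map_add, AddMonoidHom.add_apply, hs, hs, ← map_add,
      ← add_mul, sub_self]
  have hs_mul : ∀ a b, s (a * b) = s a * s b := fun a b => sub_eq_zero.1 <| huniq _ fun x y => by
    rw [sub_mul, map_sub, ← hs, mul_assoc a, hs, hs, ← mul_assoc, mul_comm (s b), sub_self]
  have hsl : ∀ l : Fˣ, s ((l : F) ^ (3 * 3 ^ m + 2)) = (l : F)⁻¹ := fun l =>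
    sub_eq_zero.1 <| huniq _ fun x y => by
      rw [sub_mul, map_sub, ← hs, ← hinv l x ((l : F)⁻¹ * y), mul_inv_cancel_left₀ l.ne_zero,
        sub_self]
  let α : F →+* F :=
    { toFun := s
      map_one' := by simpa using hsl 1
      map_mul' := hs_mul
      map_zero' := by
        have := hs_add 0 0
        simpa using this
      map_add' := hs_add }
  haveI := Fact.mk (show Nat.Prime 3 by norm_num)
  obtain ⟨p, hp⟩ := CharP.exists F
  have hp3 : p = 3 := by
    obtain ⟨n, hpn, hn⟩ := FiniteField.card F p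
    have e : p ∣ 3 ^ (2 * m + 1) := by rw [← hF, hn]; exact dvd_pow_self p n.pos.ne'
    exact (Nat.prime_dvd_prime_iff_eq hpn (by norm_num)).1 (hpn.dvd_of_dvd_pow e)
  subst hp3
  letI : Algebra (ZMod 3) F := ZMod.algebra F 3
  let β : F ≃ₐ[ZMod 3] F := AlgEquiv.ofBijective
    { α with commutes' := fun r => RingHom.congr_fun (Subsingleton.elim (α.comp (algebraMap (ZMod 3) F))
        (algebraMap (ZMod 3) F)) r }
    (Finite.injective_iff_bijective.1 α.injective)
  obtain ⟨⟨k, hk⟩, hkβ⟩ := (FiniteField.bijective_frobeniusAlgEquivOfAlgebraic_pow (ZMod 3) F).2 β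
  have hrank : Module.finrank (ZMod 3) F = 2 * m + 1 := by
    have h1 := Module.card_eq_pow_finrank (K := ZMod 3) (V := F)
    rw [hF, ZMod.card] at h1
    exact (Nat.pow_right_injective (by norm_num) h1).symm
  refine pairing_false hF hm (k := k) (hrank ▸ hk) fun l => Units.ext ?_
  rw [Units.val_pow_eq_pow_val, Units.val_pow_eq_pow_val, Units.val_inv_eq_inv_val, ← hsl l]
  have := AlgEquiv.congr_fun hkβ ((l : F) ^ (3 * 3 ^ m + 2))
  simp only [AlgEquiv.coe_pow, FiniteField.coe_frobeniusAlgEquivOfAlgebraic, pow_iterate,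
    ZMod.card] at this
  exact this

/-- The condition at the prime 3. -/
theorem unipotent_condition [Finite Γ] {S : Subgroup G}
    (hF : Fintype.card F = 3 ^ (2 * m + 1)) (hm : 1 ≤ m) {N : ℕ} (hS : Nat.card S = 3 ^ N)
    (D : UData F G S (3 * 3 ^ m + 1) (3 * 3 ^ m + 2))
    (hb : ∀ a : Fˣ, ∃ l : Fˣ, l ^ (3 * 3 ^ m + 1) = a ^ 2)
    (hcs : ∀ a : Fˣ, ∃ l : Fˣ, l ^ (3 * 3 ^ m + 2) = a)
    (σ : Γ →* G) (hσ : Function.Surjective σ) (hc : σ.ker ≤ center Γ) :
    σ.ker ⊓ ⁅S.comap σ, S.comap σ⁆ = ⊥ := by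
  classical
  have h4 : Nat.card F ≠ 4 := by
    rw [Nat.card_eq_fintype_card, hF]
    intro e
    have : 2 ∣ 3 ^ (2 * m + 1) := e ▸ (by norm_num)
    exact absurd (Nat.prime_two.dvd_of_dvd_pow this) (by norm_num)
  have h27 : 27 ≤ 3 ^ (2 * m + 1) :=
    le_trans (by norm_num) (Nat.pow_le_pow_right (by norm_num : 1 ≤ 3) (by omega : 3 ≤ 2 * m + 1))
  have h9 : Nat.card F ≠ 9 := by rw [Nat.card_eq_fintype_card, hF]; omega
  have hthree : (3 : F) = 0 := by
    have h := Nat.cast_card_eq_zero F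
    rw [hF, Nat.cast_pow, Nat.cast_ofNat] at h
    exact eq_zero_of_pow_eq_zero h
  have hneg : ((-1 : Fˣ) : F) ^ (3 * 3 ^ m + 1) = 1 ∧ ((-1 : Fˣ) : F) ^ (3 * 3 ^ m + 2) = -1 := by
    have ho : Odd (3 * 3 ^ m) := (by decide : Odd 3).mul ((by decide : Odd 3).pow)
    rw [Units.val_neg, Units.val_one]
    exact ⟨ho.add_one.neg_one_pow, (ho.add_even even_two).neg_one_pow⟩
  -- lifts
  let u : F → Γ := fun x => Function.surjInv hσ (D.U x)
  let v : F → Γ := fun x => Function.surjInv hσ (D.V x)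
  let t : F → Γ := fun x => Function.surjInv hσ (D.T x)
  let q : Fˣ → Γ := fun l => Function.surjInv hσ (D.h l)
  have hu : ∀ x, σ (u x) = D.U x := fun x => Function.surjInv_eq hσ _
  have hv : ∀ x, σ (v x) = D.V x := fun x => Function.surjInv_eq hσ _
  have ht : ∀ x, σ (t x) = D.T x := fun x => Function.surjInv_eq hσ _
  have hq : ∀ x, σ (q x) = D.h x := fun x => Function.surjInv_eq hσ _
  have hU0 : D.U 0 = 1 := left_eq_mul.1 (show D.U 0 = D.U 0 * D.U 0 by rw [← D.U_add, add_zero])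
  have hV0 : D.V 0 = 1 := left_eq_mul.1 (show D.V 0 = D.V 0 * D.V 0 by rw [← D.V_add, add_zero])
  have hcen : ∀ {x : Γ}, σ x = 1 → ∀ g : Γ, g * x = x * g := fun hx g =>
    Subgroup.mem_center_iff.1 (hc hx) g
  have hwd : ∀ {a b a' b' : Γ}, σ a = σ a' → σ b = σ b' → ⁅a, b⁆ = ⁅a', b'⁆ := by
    intro a b a' b' ha hb'
    have h1 : a'⁻¹ * a ∈ center Γ := hc (by simp [MonoidHom.mem_ker, ha])
    have h2 : b'⁻¹ * b ∈ center Γ := hc (by simp [MonoidHom.mem_ker, hb'])
    have := Cfsg.Agent.Schur.commutatorElement_mul_central h1 h2 a' b'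
    simpa using this
  have hconjc : ∀ g a b : Γ, ⁅g * a * g⁻¹, g * b * g⁻¹⁆ = g * ⁅a, b⁆ * g⁻¹ := fun g a b => by
    simp only [commutatorElement_def]; group
  have hone : ∀ {a b : Γ}, σ a = 1 → ⁅a, b⁆ = 1 := fun ha => by
    rw [commutatorElement_eq_one_iff_mul_comm]; exact (hcen ha _).symm
  let _ : CommGroup σ.ker :=
    { mul_comm := fun x y => Subtype.ext (Subgroup.mem_center_iff.1 (hc y.2) x) }
  -- the lifts of `U` and of `V` commute
  have hvv : ∀ x y, ⁅v x, v y⁆ = 1 := fun x y => by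
    refine comm_of_square_invariant σ hσ hc D.V D.V_add (fun s hs => ?_) h4 h9 (hv x) (hv y)
    obtain ⟨l, hl⟩ := hcs (Units.mk0 s hs ^ 2)
    exact ⟨D.h l, fun a => by rw [D.conjV, ← Units.val_pow_eq_pow_val, hl]; simp⟩
  have huu : ∀ x y, ⁅u x, u y⁆ = 1 := fun x y => by
    refine comm_of_square_invariant σ hσ hc D.U D.U_add (fun s hs => ?_) h4 h9 (hu x) (hu y)
    obtain ⟨l, hl⟩ := hb (Units.mk0 s hs)
    exact ⟨D.h l, fun a => by rw [D.conjU, ← Units.val_pow_eq_pow_val, hl]; simp⟩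
  have huv : ∀ x y, ⁅u x, v y⁆ = 1 := by
    intro x y
    have hmem : ∀ y, σ ⁅u x, v y⁆ = 1 := fun y => by
      rw [map_commutatorElement, hu, hv, commutatorElement_eq_one_iff_mul_comm]
      exact (D.UV x y).eq
    have hright : ∀ y y', ⁅u x, v (y + y')⁆ = ⁅u x, v y⁆ * ⁅u x, v y'⁆ := fun y y' => by
      rw [hwd (a' := u x) (b' := v y * v y') rfl (by rw [map_mul, hv, hv, hv, D.V_add]),
        show ⁅u x, v y * v y'⁆ = ⁅u x, v y⁆ * (v y * ⁅u x, v y'⁆ * (v y)⁻¹) by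
          simp only [commutatorElement_def]; group,
        hcen (hmem y') (v y), mul_inv_cancel_right]
    have h0 : ⁅u x, v 0⁆ = 1 := left_eq_mul.1 (show ⁅u x, v 0⁆ = ⁅u x, v 0⁆ * ⁅u x, v 0⁆ by rw [← hright, add_zero])
    have e1 : ⁅u x, v (-y)⁆ = ⁅u x, v y⁆ := by
      rw [hwd (a' := q (-1) * u x * (q (-1))⁻¹) (b' := q (-1) * v y * (q (-1))⁻¹)
        (by rw [map_mul, map_mul, map_inv, hq, hu, D.conjU, hneg.1, one_mul])
        (by rw [map_mul, map_mul, map_inv, hq, hv, hv, D.conjV, hneg.2, neg_one_mul]),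
        hconjc, hcen (hmem y), mul_inv_cancel_right]
    have e2 : ⁅u x, v y⁆ * ⁅u x, v y⁆ = 1 := by
      have := hright (-y) y
      rw [neg_add_cancel, h0, e1] at this
      exact this.symm
    have e3 : ⁅u x, v y⁆ * ⁅u x, v y⁆ * ⁅u x, v y⁆ = 1 := by
      rw [← hright, ← hright, show y + y + y = 0 by linear_combination y * hthree, h0]
    rwa [e2, one_mul] at e3
  -- and commute with those of `T` on `V`
  have hvt : ∀ y s, ⁅v y, t s⁆ = 1 := by
    have hmem : ∀ y s, ⁅v y, t s⁆ ∈ σ.ker := fun y s => by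
      rw [MonoidHom.mem_ker, map_commutatorElement, hv, ht, commutatorElement_eq_one_iff_mul_comm]
      exact (D.TV s y).symm.eq
    have hleft : ∀ y y' s, ⁅v (y + y'), t s⁆ = ⁅v y, t s⁆ * ⁅v y', t s⁆ := fun y y' s => by
      rw [hwd (a' := v y * v y') (b' := t s) (by rw [map_mul, hv, hv, hv, D.V_add]) rfl,
        show ⁅v y * v y', t s⁆ = v y * ⁅v y', t s⁆ * (v y)⁻¹ * ⁅v y, t s⁆ by
          simp only [commutatorElement_def]; group,
        hcen (hmem y' s) (v y), mul_inv_cancel_right]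
      exact (hcen (hmem y' s) _).symm
    have hright : ∀ y s s', ⁅v y, t (s + s')⁆ = ⁅v y, t s⁆ * ⁅v y, t s'⁆ := by
      intro y s s'
      obtain ⟨x, z, e⟩ := D.T_add s s'
      rw [hwd (a' := v y) (b' := t s * t s' * (u x * v z)) rfl
          (by rw [map_mul, map_mul, map_mul, ht, ht, ht, hu, hv, e]),
        show ⁅v y, t s * t s' * (u x * v z)⁆ = ⁅v y, t s⁆ * (t s * ⁅v y, t s'⁆ * (t s)⁻¹) *
          ((t s * t s') * (⁅v y, u x⁆ * (u x * ⁅v y, v z⁆ * (u x)⁻¹)) * (t s * t s')⁻¹) by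
          simp only [commutatorElement_def]; group,
        ← commutatorElement_inv (u x) (v y), huv, hvv, hcen (hmem y s') (t s), mul_inv_cancel_right]
      simp
    let B : F →+ F →+ Additive σ.ker := AddMonoidHom.mk'
      (fun y => AddMonoidHom.mk' (fun s => Additive.ofMul (⟨⁅v y, t s⁆, hmem y s⟩ : σ.ker))
        fun s s' => by rw [← ofMul_mul]; exact congrArg _ (Subtype.ext (hright y s s')))
      fun y y' => by
        refine AddMonoidHom.ext fun s => ?_
        show Additive.ofMul (⟨⁅v (y + y'), t s⁆, hmem _ _⟩ : σ.ker) =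
          Additive.ofMul ⟨⁅v y, t s⁆, hmem _ _⟩ + Additive.ofMul ⟨⁅v y', t s⁆, hmem _ _⟩
        rw [← ofMul_mul]; exact congrArg _ (Subtype.ext (hleft y y' s))
    intro y s
    have h0 := pairing_eq_zero hF hm hcs B (fun l y s => by
      show Additive.ofMul _ = Additive.ofMul _
      refine congrArg _ (Subtype.ext ?_)
      show ⁅v ((l : F) ^ (3 * 3 ^ m + 2) * y), t ((l : F) * s)⁆ = ⁅v y, t s⁆
      rw [hwd (a' := q l * v y * (q l)⁻¹) (b' := q l * t s * (q l)⁻¹)
        (by simp [hq, hv, D.conjV]) (by simp [hq, ht, D.conjT]), hconjc,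
        hcen (hmem y s) (q l), mul_inv_cancel_right]) y s
    exact congrArg Subtype.val (congrArg Additive.toMul h0)
  -- the abelian group over `UV`
  let M₀ : Subgroup G :=
    { carrier := {g | ∃ x y, g = D.U x * D.V y}
      one_mem' := ⟨0, 0, by rw [hU0, hV0, one_mul]⟩
      mul_mem' := by
        rintro _ _ ⟨x, y, rfl⟩ ⟨x', y', rfl⟩
        exact ⟨x + x', y + y', by rw [D.U_add, D.V_add]; exact (D.UV x' y).symm.mul_mul_mul_comm _ _⟩
      inv_mem' := by
        rintro _ ⟨x, y, rfl⟩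
        refine ⟨-x, -y, inv_eq_of_mul_eq_one_right ?_⟩
        rw [(D.UV (-x) y).symm.mul_mul_mul_comm, ← D.U_add, ← D.V_add, add_neg_cancel,
          add_neg_cancel, hU0, hV0, one_mul] }
  let M : Subgroup Γ := M₀.comap σ
  have hM : ∀ x ∈ M, ∃ a b, ∀ g : Γ, ⁅g, x⁆ = ⁅g, u a * v b⁆ ∧ ⁅x, g⁆ = ⁅u a * v b, g⁆ := by
    rintro x ⟨a, b, e⟩
    exact ⟨a, b, fun g => ⟨hwd rfl (by rw [e, map_mul, hu, hv]),
      hwd (by rw [e, map_mul, hu, hv]) rfl⟩⟩
  have hMM : ∀ x ∈ M, ∀ y ∈ M, ⁅x, y⁆ = 1 := by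
    intro x hx y hy
    obtain ⟨a, b, ha⟩ := hM x hx
    obtain ⟨c, d, hc'⟩ := hM y hy
    rw [(ha y).2, (hc' _).1, show ⁅u a * v b, u c * v d⁆ =
      u a * (⁅v b, u c⁆ * (u c * ⁅v b, v d⁆ * (u c)⁻¹)) * (u a)⁻¹ *
        (⁅u a, u c⁆ * (u c * ⁅u a, v d⁆ * (u c)⁻¹)) by simp only [commutatorElement_def]; group,
      ← commutatorElement_inv (u c) (v b), huv, hvv, huu, huv]
    simp
  let _ : CommGroup M :=
    { mul_comm := fun x y => Subtype.ext
        (commutatorElement_eq_one_iff_mul_comm.1 (hMM x x.2 y y.2)) }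
  have hnorm : ∀ (l : Fˣ) (x : M), q l * (x : Γ) * (q l)⁻¹ ∈ M := by
    intro l x
    obtain ⟨a, b, e⟩ : ∃ a b, σ x = D.U a * D.V b := x.2
    exact ⟨_, _, by rw [map_mul, map_mul, map_inv, hq, e, ← conj_mul, D.conjU, D.conjV]⟩
  let conjM : Fˣ → M →* M := fun l => MonoidHom.mk' (fun x => ⟨_, hnorm l x⟩)
    (fun x y => Subtype.ext (conj_mul).symm)
  have hcomp : ∀ (k l : Fˣ) (x : M), conjM k (conjM l x) = conjM (k * l) x := by
    intro k l x
    refine Subtype.ext ?_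
    show q k * (q l * (x : Γ) * (q l)⁻¹) * (q k)⁻¹ = q (k * l) * (x : Γ) * (q (k * l))⁻¹
    have hw : σ ((q (k * l))⁻¹ * (q k * q l)) = 1 := by simp [hq]
    calc q k * (q l * (x : Γ) * (q l)⁻¹) * (q k)⁻¹
        = q (k * l) * (((q (k * l))⁻¹ * (q k * q l)) * (x : Γ) *
            ((q (k * l))⁻¹ * (q k * q l))⁻¹) * (q (k * l))⁻¹ := by group
      _ = _ := by rw [← hcen hw (x : Γ), mul_inv_cancel_right]
  let avg : M →* M :=
    { toFun := fun x => ∏ k : Fˣ, conjM k x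
      map_one' := by simp
      map_mul' := fun x y => by simp [Finset.prod_mul_distrib] }
  have havg : ∀ (l : Fˣ) (x : M), avg (conjM l x) = avg x := by
    intro l x
    show ∏ k : Fˣ, conjM k (conjM l x) = ∏ k : Fˣ, conjM k x
    simp only [hcomp]
    exact Equiv.prod_comp (Equiv.mulRight l) fun k => conjM k x
  let K₀ : Subgroup Γ := avg.ker.map M.subtype
  have hK₀ : ∀ x : M, avg x = 1 → (x : Γ) ∈ K₀ := fun x hx => ⟨x, hx, rfl⟩
  -- `⁅T, U⁆` is killed by averaging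
  have hTUmem : ∀ s x, ⁅t s, u x⁆ ∈ M := fun s x => by
    obtain ⟨y, e⟩ := D.TU s x
    exact ⟨0, y, by rw [map_commutatorElement, ht, hu, e, hU0, one_mul]⟩
  have hTUv : ∀ s x g, (∀ y, ⁅g, v y⁆ = 1) → g * ⁅t s, u x⁆ * g⁻¹ = ⁅t s, u x⁆ := by
    intro s x g hg
    obtain ⟨y, e⟩ := D.TU s x
    rw [mul_inv_eq_iff_eq_mul, ← commutatorElement_eq_one_iff_mul_comm,
      hwd (a' := g) (b' := v y) rfl (by rw [map_commutatorElement, ht, hu, hv, e])]
    exact hg y
  have hD : ∀ s x, avg ⟨⁅t s, u x⁆, hTUmem s x⟩ = 1 := by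
    intro s x
    have hadd : ∀ s s', ⁅t (s + s'), u x⁆ = ⁅t s', u x⁆ * ⁅t s, u x⁆ := by
      intro s s'
      obtain ⟨a, b, e⟩ := D.T_add s s'
      rw [hwd (a' := t s * t s' * (u a * v b)) (b' := u x)
          (by rw [map_mul, map_mul, map_mul, ht, ht, ht, hu, hv, e]) rfl,
        show ⁅t s * t s' * (u a * v b), u x⁆ = (t s * t s') *
            (u a * ⁅v b, u x⁆ * (u a)⁻¹ * ⁅u a, u x⁆) * (t s * t s')⁻¹ *
          (t s * ⁅t s', u x⁆ * (t s)⁻¹ * ⁅t s, u x⁆) by simp only [commutatorElement_def]; group,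
        ← commutatorElement_inv (u x) (v b), huv, huu,
        hTUv s' x _ fun y => by rw [← commutatorElement_inv, hvt, inv_one]]
      simp
    let f : ℕ → M := fun n => ⟨⁅t (n * s), u x⁆, hTUmem _ _⟩
    have hf : ∀ i j, f (i + j) = f j * f i := fun i j => Subtype.ext (by
      show ⁅t ((i + j : ℕ) * s), u x⁆ = _
      rw [Nat.cast_add, add_mul, hadd]; rfl)
    have h0 : f 0 = 1 := left_eq_mul.1 (show f 0 = f 0 * f 0 by rw [← hf])
    have h3 : f 3 = 1 := by
      rw [← h0]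
      exact Subtype.ext (by simp only [f, Nat.cast_ofNat, hthree, Nat.cast_zero])
    have h1 : f 1 = ⟨⁅t s, u x⁆, hTUmem s x⟩ := Subtype.ext (by simp [f])
    have hn : (⟨⁅t (-s), u x⁆, hTUmem _ _⟩ : M) = conjM (-1) ⟨⁅t s, u x⁆, hTUmem s x⟩ :=
      Subtype.ext (by
        show _ = q (-1) * _ * (q (-1))⁻¹
        rw [← hconjc]
        exact hwd (by simp [hq, ht, D.conjT]) (by rw [map_mul, map_mul, map_inv, hq, hu, D.conjU, hneg.1, one_mul]))
    have h2 : f 2 = ⟨⁅t (-s), u x⁆, hTUmem _ _⟩ := Subtype.ext (by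
      show ⁅t ((2 : ℕ) * s), u x⁆ = _
      rw [show ((2 : ℕ) : F) * s = -s by push_cast; linear_combination s * hthree])
    have ha := congrArg avg hn
    rw [havg, ← h2, ← h1, hf 1 1, map_mul] at ha
    rw [← h1]
    exact mul_eq_left.1 ha
  have hgx : ∀ s, ∀ x ∈ M, ∃ h : ⁅t s, x⁆ ∈ M, avg ⟨_, h⟩ = 1 := by
    intro s x hx
    obtain ⟨a, b, e⟩ := hM x hx
    have e' : ⁅t s, x⁆ = ⁅t s, u a⁆ := by
      rw [(e _).1, show ⁅t s, u a * v b⁆ = ⁅t s, u a⁆ * (u a * ⁅t s, v b⁆ * (u a)⁻¹) by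
        simp only [commutatorElement_def]; group, ← commutatorElement_inv (v b), hvt]
      simp
    refine ⟨e' ▸ hTUmem s a, ?_⟩
    rw [← hD s a]
    exact congrArg avg (Subtype.ext e')
  have hconjT : ∀ s (x : M), ∃ h : t s * (x : Γ) * (t s)⁻¹ ∈ M, avg ⟨_, h⟩ = avg x := by
    intro s x
    obtain ⟨h, ha⟩ := hgx s x x.2
    have e : t s * (x : Γ) * (t s)⁻¹ = ⁅t s, (x : Γ)⁆ * x := by
      simp only [commutatorElement_def]; group
    refine ⟨e ▸ mul_mem h x.2, ?_⟩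
    rw [show (⟨t s * (x : Γ) * (t s)⁻¹, e ▸ mul_mem h x.2⟩ : M) = ⟨_, h⟩ * x from Subtype.ext e,
      map_mul, ha, one_mul]
  -- `⁅T, T⁆` is killed by averaging
  have hCmem : ∀ a c, ⁅t a, t c⁆ ∈ M := fun a c => by
    obtain ⟨x, y, e⟩ := D.TT a c
    exact ⟨x, y, by rw [map_commutatorElement, ht, ht, e]⟩
  let E : F → F → M := fun a c => avg ⟨⁅t a, t c⁆, hCmem a c⟩
  have hEneg : ∀ a c, E c a = (E a c)⁻¹ := fun a c => by
    rw [← map_inv]
    exact congrArg avg (Subtype.ext (commutatorElement_inv _ _).symm)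
  have hEleft : ∀ a a' c, E (a + a') c = E a c * E a' c := by
    intro a a' c
    obtain ⟨x, y, e⟩ := D.T_add a a'
    obtain ⟨h1, ha1⟩ := hgx c (u x * v y) ⟨x, y, by rw [map_mul, hu, hv]⟩
    obtain ⟨h1', ha1'⟩ := hconjT a' ⟨_, inv_mem h1⟩
    obtain ⟨h2, ha2⟩ := hconjT a ⟨_, h1'⟩
    obtain ⟨h3, ha3⟩ := hconjT a ⟨_, hCmem a' c⟩
    have ee : (⟨⁅t (a + a'), t c⁆, hCmem _ _⟩ : M) =
        ⟨_, h2⟩ * (⟨_, h3⟩ * ⟨⁅t a, t c⁆, hCmem a c⟩) := Subtype.ext (by
      show ⁅t (a + a'), t c⁆ =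
        t a * (t a' * ⁅t c, u x * v y⁆⁻¹ * (t a')⁻¹) * (t a)⁻¹ *
          (t a * ⁅t a', t c⁆ * (t a)⁻¹ * ⁅t a, t c⁆)
      rw [hwd (a' := t a * t a' * (u x * v y)) (b' := t c)
        (by rw [map_mul, map_mul, map_mul, ht, ht, ht, hu, hv, e]) rfl]
      simp only [commutatorElement_def]; group)
    show avg _ = avg _ * avg _
    rw [ee, map_mul, map_mul, ha2, ha1', ha3, mul_comm (avg (⟨⁅t a', t c⁆, _⟩ : M))]
    rw [show avg (⟨⁅t c, u x * v y⁆⁻¹, inv_mem h1⟩ : M) = 1 from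
      (map_inv avg ⟨_, h1⟩).trans (by rw [ha1, inv_one]), one_mul]
  let Φ : F →+ F →+ Additive M := AddMonoidHom.mk'
    (fun a => AddMonoidHom.mk' (fun c => Additive.ofMul (E a c))
      fun c c' => by
        rw [← ofMul_mul, hEneg _ a, hEleft, mul_inv, ← hEneg c a, ← hEneg c' a])
    fun a a' => by
      refine AddMonoidHom.ext fun c => ?_
      show Additive.ofMul (E (a + a') c) = Additive.ofMul (E a c) + Additive.ofMul (E a' c)
      rw [← ofMul_mul, hEleft]
  have hΦ : ∀ a c, Φ a c = 0 := eq_zero_of_square_invariant Φ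
    (fun a => by
      show Additive.ofMul (avg _) = 0
      rw [show (⟨⁅t a, t a⁆, hCmem a a⟩ : M) = 1 from Subtype.ext (commutatorElement_self _), map_one]
      rfl)
    (fun s hs a c => by
      show Additive.ofMul (avg _) = Additive.ofMul (avg _)
      rw [← havg (Units.mk0 (s ^ 2) (pow_ne_zero 2 hs)) ⟨⁅t a, t c⁆, hCmem a c⟩]
      refine congrArg _ (congrArg _ (Subtype.ext ?_))
      show ⁅t (s ^ 2 * a), t (s ^ 2 * c)⁆ = q _ * ⁅t a, t c⁆ * (q _)⁻¹
      rw [← hconjc]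
      exact hwd (by simp [hq, ht, D.conjT]) (by simp [hq, ht, D.conjT]))
    h4 h9
  -- the derived subgroup lies in the kernel of averaging
  have hle : ⁅S.comap σ, S.comap σ⁆ ≤ K₀ := by
    rw [Subgroup.commutator_le]
    intro g hg g' hg'
    obtain ⟨a, x, y, e⟩ := D.decomp _ hg
    obtain ⟨c, x', y', e'⟩ := D.decomp _ hg'
    have hw : u x * v y ∈ M := ⟨x, y, by rw [map_mul, hu, hv]⟩
    have hw' : u x' * v y' ∈ M := ⟨x', y', by rw [map_mul, hu, hv]⟩
    rw [hwd (a' := t a * (u x * v y)) (b' := t c * (u x' * v y'))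
      (by rw [e, map_mul, map_mul, ht, hu, hv]) (by rw [e', map_mul, map_mul, ht, hu, hv])]
    generalize u x * v y = w at hw
    generalize u x' * v y' = w' at hw'
    have hconjK : ∀ a, ∀ z ∈ K₀, t a * z * (t a)⁻¹ ∈ K₀ := by
      rintro a _ ⟨z, hz, rfl⟩
      obtain ⟨h, ha⟩ := hconjT a z
      exact hK₀ ⟨_, h⟩ (ha.trans hz)
    have hgxK : ∀ s, ∀ z ∈ M, ⁅t s, z⁆ ∈ K₀ := fun s z hz => by
      obtain ⟨h, ha⟩ := hgx s z hz
      exact hK₀ ⟨_, h⟩ ha
    have hCK : ⁅t a, t c⁆ ∈ K₀ := hK₀ ⟨_, hCmem a c⟩ (congrArg Additive.toMul (hΦ a c))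
    rw [show ⁅t a * w, t c * w'⁆ = t a * (⁅w, t c⁆ * (t c * ⁅w, w'⁆ * (t c)⁻¹)) * (t a)⁻¹ *
      (⁅t a, t c⁆ * (t c * ⁅t a, w'⁆ * (t c)⁻¹)) by simp only [commutatorElement_def]; group,
      hMM w hw w' hw']
    simp only [mul_one, mul_inv_cancel]
    rw [← commutatorElement_inv (t c) w]
    exact mul_mem (hconjK a _ (inv_mem (hgxK c w hw))) (mul_mem hCK (hconjK c _ (hgxK a w' hw')))
  rw [eq_bot_iff]
  rintro z ⟨hzk, hz⟩
  have hp := pow_card_eq_one σ hc S hzk hz
  obtain ⟨y, hy, rfl⟩ := hle hz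
  have havgy : avg y = y ^ Fintype.card Fˣ := by
    show ∏ k : Fˣ, conjM k y = _
    rw [← Finset.card_univ, ← Finset.prod_const]
    refine Finset.prod_congr rfl fun k _ => Subtype.ext ?_
    show q k * (y : Γ) * (q k)⁻¹ = (y : Γ)
    rw [hcen (show σ (y : Γ) = 1 from hzk) (q k)]
    exact mul_inv_cancel_right _ _
  rw [show avg y = 1 from hy] at havgy
  have hy' : (y : Γ) ^ (3 ^ (2 * m + 1) - 1) = 1 := by
    rw [← hF, ← Fintype.card_units]
    exact (congrArg Subtype.val havgy).symm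
  rw [Subgroup.mem_bot]
  rw [hS] at hp
  have hco : Nat.Coprime (3 ^ N) (3 ^ (2 * m + 1) - 1) := by
    refine Nat.Coprime.pow_left _ ((Nat.Prime.coprime_iff_not_dvd (by norm_num)).2 fun hd => ?_)
    have h3 : 3 ∣ 3 ^ (2 * m + 1) := dvd_pow_self _ (by omega)
    omega
  have := pow_gcd_eq_one.2 ⟨hp, hy'⟩
  rwa [hco.gcd_eq_one, pow_one] at this

/-- The condition at the prime 2: an automorphism of order `7` of an elementary group of order `8`. -/
theorem eight_condition (σ : Γ →* G) (hσ : Function.Surjective σ) (hc : σ.ker ≤ center Γ)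
    (S : Subgroup G) (hcard : Nat.card S = 8) (hsq : ∀ x ∈ S, x * x = 1)
    {g : G} (hg : g ^ 7 = 1) (hgS : ∀ x ∈ S, g * x * g⁻¹ ∈ S) {a : G} (ha : a ∈ S)
    (hga : g * a * g⁻¹ ≠ a) : σ.ker ⊓ ⁅S.comap σ, S.comap σ⁆ = ⊥ := by
  classical
  have hcomm : ∀ x ∈ S, ∀ y ∈ S, x * y = y * x := fun x hx y hy => by
    have h := hsq _ (mul_mem hx hy)
    calc x * y = (x * y)⁻¹ := (inv_eq_of_mul_eq_one_left h).symm
      _ = y * x := by
        rw [_root_.mul_inv_rev, inv_eq_of_mul_eq_one_left (hsq x hx),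
          inv_eq_of_mul_eq_one_left (hsq y hy)]
  let s : G → Γ := fun x => Function.surjInv hσ x
  have hs : ∀ x, σ (s x) = x := fun x => Function.surjInv_eq hσ x
  have hwd : ∀ {v w v' w' : Γ}, σ v = σ v' → σ w = σ w' → ⁅v, w⁆ = ⁅v', w'⁆ := by
    intro v w v' w' hv hw
    have h1 : v'⁻¹ * v ∈ center Γ := hc (by simp [MonoidHom.mem_ker, hv])
    have h2 : w'⁻¹ * w ∈ center Γ := hc (by simp [MonoidHom.mem_ker, hw])
    have := Cfsg.Agent.Schur.commutatorElement_mul_central h1 h2 v' w'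
    simpa using this
  let B : G → G → Γ := fun x y => ⁅s x, s y⁆
  have hBc : ∀ x ∈ S, ∀ y ∈ S, B x y ∈ center Γ := fun x hx y hy => hc (by
    rw [MonoidHom.mem_ker, map_commutatorElement, hs, hs, commutatorElement_eq_one_iff_mul_comm]
    exact hcomm x hx y hy)
  have hBr : ∀ x ∈ S, ∀ y ∈ S, ∀ z ∈ S, B x (y * z) = B x y * B x z := by
    intro x hx y _ z hz
    show ⁅_, _⁆ = _
    rw [hwd (v' := s x) (w' := s y * s z) rfl (by rw [map_mul, hs, hs, hs]),
      show ⁅s x, s y * s z⁆ = ⁅s x, s y⁆ * (s y * ⁅s x, s z⁆ * (s y)⁻¹) by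
        simp only [commutatorElement_def]; group,
      Subgroup.mem_center_iff.1 (hBc x hx z hz) (s y), mul_inv_cancel_right]
  have hB1 : ∀ x ∈ S, B x 1 = 1 := fun x hx =>
    left_eq_mul.1 (show B x 1 = B x 1 * B x 1 by rw [← hBr x hx 1 (one_mem S) 1 (one_mem S), mul_one])
  have hBxx : ∀ x, B x x = 1 := fun x => commutatorElement_self _
  have hBsym : ∀ x ∈ S, ∀ y ∈ S, B y x = B x y := by
    intro x hx y hy
    have h := hBr x hx y hy y hy
    rw [hsq y hy, hB1 x hx] at h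
    show ⁅s y, s x⁆ = ⁅s x, s y⁆
    rw [← commutatorElement_inv (s x) (s y)]
    exact inv_eq_of_mul_eq_one_left h.symm
  have hBg : ∀ x ∈ S, ∀ y ∈ S, B (g * x * g⁻¹) (g * y * g⁻¹) = B x y := by
    intro x hx y hy
    show ⁅_, _⁆ = _
    rw [hwd (v' := s g * s x * (s g)⁻¹) (w' := s g * s y * (s g)⁻¹)
      (by simp [hs]) (by simp [hs]), ← MulAut.conj_apply, ← MulAut.conj_apply,
      ← map_commutatorElement, MulAut.conj_apply,
      Subgroup.mem_center_iff.1 (hBc x hx y hy) (s g), mul_inv_cancel_right]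
  -- the orbit
  let p : ℕ → G := fun i => g ^ i * a * (g ^ i)⁻¹
  have hp7 : ∀ i, p i = p (i % 7) := fun i => by
    show g ^ i * a * (g ^ i)⁻¹ = g ^ (i % 7) * a * (g ^ (i % 7))⁻¹
    rw [pow_eq_pow_mod i hg]
  have hpS : ∀ i, p i ∈ S := fun i => by
    induction i with
    | zero => simpa [p] using ha
    | succ i ih =>
      have := hgS _ ih
      simpa [p, pow_succ', mul_assoc] using this
  have ha1 : a ≠ 1 := fun e => hga (by rw [e]; simp)
  have hp1 : ∀ i, p i ≠ 1 := fun i e => ha1 (conj_eq_one_iff.1 e)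
  have hinj : ∀ i < 7, ∀ j < 7, p i = p j → i = j := by
    suffices h : ∀ i j, i ≤ j → j < 7 → p i = p j → i = j from fun i hi j hj e =>
      (le_total i j).elim (fun hij => h i j hij hj e) fun hji => (h j i hji hi e.symm).symm
    intro i j hij hj e
    by_contra hne
    obtain ⟨d, rfl⟩ := Nat.exists_eq_add_of_le hij
    have hd : Commute (g ^ d) a := by
      have e' : g ^ i * a * (g ^ i)⁻¹ = g ^ i * (g ^ d * a * (g ^ d)⁻¹) * (g ^ i)⁻¹ := by
        refine e.trans ?_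
        show g ^ (i + d) * a * (g ^ (i + d))⁻¹ = _
        rw [pow_add]; group
      exact (mul_inv_eq_iff_eq_mul.1 (mul_left_cancel (mul_right_cancel e')).symm)
    have hco : Nat.Coprime d 7 := Nat.Coprime.symm
      ((Nat.Prime.coprime_iff_not_dvd (by norm_num)).2 fun h => by
        have := Nat.le_of_dvd (by omega) h; omega)
    obtain ⟨k, hk⟩ := Nat.exists_mul_mod_eq_one_of_coprime hco (by norm_num)
    have := hd.pow_left k
    rw [← pow_mul, pow_eq_pow_mod _ hg, hk.2, pow_one] at this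
    exact hga (by rw [this.eq, mul_inv_cancel_right])
  have hall : ∀ x ∈ S, x ≠ 1 → ∃ i < 7, x = p i := by
    intro x hx hx1
    by_contra hne
    push Not at hne
    haveI : Finite S := Nat.finite_of_card_ne_zero (by omega)
    let φ : Option (Option (Fin 7)) → S := fun o => o.elim ⟨1, one_mem S⟩ fun o =>
      o.elim ⟨x, hx⟩ fun i => ⟨p i, hpS _⟩
    have hφ : Function.Injective φ := by
      rintro (_ | _ | i) (_ | _ | j) h <;> simp [φ] at h ⊢
      · exact hx1 h.symm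
      · exact hp1 _ h.symm
      · exact hx1 h
      · exact hne j j.2 h
      · exact hp1 _ h
      · exact hne i i.2 h.symm
      · exact Fin.ext (hinj i i.2 j j.2 h)
    have := Nat.card_le_card_of_injective φ hφ
    simp [hcard] at this
  -- `B` along the orbit
  let f : ℕ → Γ := fun i => B (p 0) (p i)
  have hshift : ∀ i j, B (p i) (p (i + j)) = f j := by
    intro i j
    induction i with
    | zero => simp [f]
    | succ i ih =>
      rw [← ih, ← hBg _ (hpS i) _ (hpS _)]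
      congr 1
      · simp [p, pow_succ', mul_assoc]
      · rw [Nat.succ_add]; simp [p, pow_succ', mul_assoc]
  have hsym : ∀ j, j ≤ 7 → f (7 - j) = f j := fun j hj => by
    rw [← hshift (7 - j) j, Nat.sub_add_cancel hj, hp7 7, show 7 % 7 = 0 from rfl,
      hBsym _ (hpS 0) _ (hpS _)]
  obtain ⟨k, hk7, hk⟩ := hall (p 0 * p 1) (mul_mem (hpS 0) (hpS 1)) fun e => by
    have h := hinj 0 (by norm_num) 1 (by norm_num)
      ((eq_inv_of_mul_eq_one_left e).trans (inv_eq_of_mul_eq_one_left (hsq _ (hpS 1))))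
    omega
  have hksh : ∀ i, p i * p (i + 1) = p (i + k) := by
    intro i
    induction i with
    | zero => simpa using hk
    | succ i ih =>
      have := congrArg (fun x => g * x * g⁻¹) ih
      simp only [p] at this
      calc p (i + 1) * p (i + 1 + 1) = g * (g ^ i * a * (g ^ i)⁻¹ * (g ^ (i + 1) * a * (g ^ (i + 1))⁻¹)) * g⁻¹ := by
            simp only [p, pow_succ']; group
        _ = g * (g ^ (i + k) * a * (g ^ (i + k))⁻¹) * g⁻¹ := this
        _ = p (i + 1 + k) := by rw [Nat.succ_add]; simp only [p, pow_succ']; group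
  have hcancel : ∀ x ∈ S, ∀ y : G, x * (x * y) = y := fun x hx y => by
    rw [← mul_assoc, hsq x hx, one_mul]
  have hk0 : k ≠ 0 := fun e => hp1 1 (by
    rw [e] at hk; exact mul_eq_left.1 hk)
  have hk1 : k ≠ 1 := fun e => hp1 0 (by
    rw [e] at hk; exact mul_eq_right.1 hk)
  have e1 : f k = f 1 := by
    show B (p 0) (p k) = _
    rw [← hk, hBr _ (hpS 0) _ (hpS 0) _ (hpS 1), hBxx, one_mul]
  have e2 : f (k - 1) = f 1 := by
    have h : B (p 1) (p k) = f 1 := by
      rw [← hk, hBr _ (hpS 1) _ (hpS 0) _ (hpS 1), hBxx, mul_one, hBsym _ (hpS 0) _ (hpS 1)]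
    rw [← h, ← hshift 1 (k - 1), show 1 + (k - 1) = k by omega]
  have hconst : ∀ j, j < 7 → j ≠ 0 → f j = f 1 := by
    have s1 := hsym 1 (by norm_num)
    have s2 := hsym 2 (by norm_num)
    have s3 := hsym 3 (by norm_num)
    norm_num at s1 s2 s3
    rcases (by omega : k = 2 ∨ k = 3 ∨ k = 4 ∨ k = 5 ∨ k = 6) with rfl | rfl | rfl | rfl | rfl
    · have h1 : p 1 * p 2 = p 3 := hksh 1
      rw [← hk, hcomm _ (hpS 0) _ (hpS 1), hcancel _ (hpS 1)] at h1
      exact absurd (hinj 0 (by norm_num) 3 (by norm_num) h1) (by omega)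
    · norm_num at e2
      intro j hj hj0
      rcases (by omega : j = 1 ∨ j = 2 ∨ j = 3 ∨ j = 4 ∨ j = 5 ∨ j = 6) with
        rfl | rfl | rfl | rfl | rfl | rfl
      exacts [rfl, e2, e1, s3.trans e1, s2.trans e2, s1]
    · have h4' : p 4 * p 5 = p 1 := by rw [hksh 4, hp7 8]
      have h1 : p 1 * p 2 = p 5 := hksh 1
      have h2 : p 4 * (p 1 * p 2) = p 1 := by rw [h1, h4']
      rw [← hk, ← mul_assoc, mul_assoc (p 0), hsq _ (hpS 1), mul_one] at h2
      have h3 : p 2 = p 0 * p 1 := by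
        have := congrArg (p 0 * ·) h2
        simpa only [hcancel _ (hpS 0)] using this
      exact absurd (hinj 2 (by norm_num) 4 (by norm_num) (h3.trans hk)) (by omega)
    · norm_num at e2
      intro j hj hj0
      rcases (by omega : j = 1 ∨ j = 2 ∨ j = 3 ∨ j = 4 ∨ j = 5 ∨ j = 6) with
        rfl | rfl | rfl | rfl | rfl | rfl
      exacts [rfl, s2.symm.trans e1, s3.symm.trans e2, e2, e1, s1]
    · have h1 : p 1 * p 2 = p 0 := by rw [hksh 1, hp7 7]
      have h2 := congrArg (p 1 * ·) h1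
      simp only [hcancel _ (hpS 1)] at h2
      rw [hcomm _ (hpS 1) _ (hpS 0), hk] at h2
      exact absurd (hinj 2 (by norm_num) 6 (by norm_num) h2) (by omega)
  -- a fourth element, so `b * b = b`
  have hf1 : f 1 = 1 := by
    obtain ⟨r, hr7, hr0, hr1, hrk⟩ : ∃ r, r < 7 ∧ r ≠ 0 ∧ r ≠ 1 ∧ r ≠ k := by
      by_cases h : k = 2
      · exact ⟨3, by omega, by omega, by omega, by omega⟩
      · exact ⟨2, by omega, by omega, by omega, fun e => h e.symm⟩
    obtain ⟨i, hi, hpi⟩ := hall (p 1 * p r) (mul_mem (hpS 1) (hpS r)) fun e =>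
      hr1 (hinj r hr7 1 (by norm_num)
        (((eq_inv_of_mul_eq_one_right e).trans (inv_eq_of_mul_eq_one_left (hsq _ (hpS 1))))))
    have hi0 : i ≠ 0 := fun e => by
      rw [e] at hpi
      have h := congrArg (p 1 * ·) hpi
      simp only [hcancel _ (hpS 1)] at h
      rw [hcomm _ (hpS 1) _ (hpS 0), hk] at h
      exact hrk (hinj r hr7 k hk7 h)
    have := hBr _ (hpS 0) _ (hpS 1) _ (hpS r)
    rw [hpi] at this
    change f i = f 1 * f r at this
    rw [hconst i hi hi0, hconst r hr7 hr0] at this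
    exact left_eq_mul.1 this
  refine inf_commutator_eq_bot_of_comm σ S fun x hx y hy => ?_
  rw [hwd (v' := s (σ x)) (w' := s (σ y)) (hs _).symm (hs _).symm]
  by_cases hx1 : σ x = 1
  · show B (σ x) (σ y) = 1
    rw [hBsym _ hy _ hx, hx1, hB1 _ hy]
  by_cases hy1 : σ y = 1
  · show B (σ x) (σ y) = 1
    rw [hy1, hB1 _ hx]
  obtain ⟨i, hi, ei⟩ := hall _ hx hx1
  obtain ⟨j, hj, ej⟩ := hall _ hy hy1
  show B (σ x) (σ y) = 1
  rw [ei, ej]
  rcases le_total i j with h | h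
  · obtain ⟨d, rfl⟩ := Nat.exists_eq_add_of_le h
    rw [hshift]
    rcases Nat.eq_zero_or_pos d with rfl | hd
    · exact hBxx _
    · rw [hconst d (by omega) hd.ne', hf1]
  · obtain ⟨d, rfl⟩ := Nat.exists_eq_add_of_le h
    rw [← hBsym _ (hpS _) _ (hpS _), hshift]
    rcases Nat.eq_zero_or_pos d with rfl | hd
    · exact hBxx _
    · rw [hconst d (by omega) hd.ne', hf1]

end Cfsg.Agent.KnownSimple.ReeMult
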